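import Groth.Agent.Lib.IntMult26.CMLength
import Groth.Agent.Lib.IntMult26.Local
import Groth.Agent.Lib.Mult6.Samuel
import Groth.Agent.Lib.TorBal27.Balance
import Groth.Agent.Lib.IntMult26.Samuel
import Groth.Agent.S1914

/-!
# Positivity of the Tor multiplicity of a regular sequence meeting a quotient properly
-/

set_option autoImplicit false

universe u

open CategoryTheory IsLocalRing Filter RingTheory.Sequence
open scoped Topology

namespace Groth.Agent.Diag27

variable {A : Type u} [CommRing A]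

/-- `chi` is symmetric. -/
theorem chi_comm (M N : Type u) [AddCommGroup M] [Module A M] [AddCommGroup N] [Module A N] :
    IntMult.chi A M N = IntMult.chi A N M := by
  unfold IntMult.chi
  refine finsum_congr fun i => ?_
  obtain ⟨e⟩ := TorBal27.nonempty_tor_iso_flip (R := A) i
  have h : Module.length A (DRing.Tor A i M N) = Module.length A (DRing.Tor A i N M) :=
    ((e.app (ModuleCat.of A M)).app (ModuleCat.of A N)).toLinearEquiv.length_eq
  rw [h]

theorem length_quot_sup (J K : Ideal A) :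
    Module.length A ((A ⧸ J) ⧸ (K • ⊤ : Submodule A (A ⧸ J))) = Module.length A (A ⧸ (J ⊔ K)) := by
  have hK : (K • ⊤ : Submodule A (A ⧸ J)) =
      Submodule.map (Submodule.mkQ J : A →ₗ[A] A ⧸ J) (J ⊔ K : Submodule A A) := by
    rw [Submodule.map_sup, Submodule.mkQ_map_self, bot_sup_eq]
    conv_rhs => rw [← mul_one K, Ideal.one_eq_top, ← smul_eq_mul]
    rw [Submodule.map_smul'', Submodule.map_top, Submodule.range_mkQ]
  rw [hK]
  exact (Submodule.quotientQuotientEquivQuotient J (J ⊔ K) le_sup_left).length_eq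

theorem sup_pow_le (J I : Ideal A) (t : ℕ) : (J ⊔ I) ^ t ≤ J ⊔ I ^ t := by
  induction t with
  | zero => rw [pow_zero, pow_zero]; exact le_sup_right
  | succ t ih =>
    rw [pow_succ, pow_succ]
    refine (Ideal.mul_mono ih (le_refl (J ⊔ I))).trans ?_
    rw [Ideal.sup_mul, Ideal.mul_sup (I ^ t) J I]
    exact sup_le (Ideal.mul_le_inf.trans (inf_le_left.trans le_sup_left))
      (sup_le (Ideal.mul_le_inf.trans (inf_le_right.trans le_sup_left)) le_sup_right)

variable [IsLocalRing A] [IsNoetherianRing A]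

theorem exists_pow_le {J : Ideal A}
    (h : ∀ p : PrimeSpectrum A, J ≤ p.asIdeal → p.asIdeal = maximalIdeal A) :
    ∃ N : ℕ, maximalIdeal A ^ N ≤ J := by
  refine Ideal.exists_pow_le_of_le_radical_of_fg ?_ (IsNoetherian.noetherian _)
  rw [Ideal.radical_eq_sInf]
  exact le_sInf fun p ⟨hp, hpp⟩ => (h ⟨p, hpp⟩ hp).ge

theorem samuel_pos {J I : Ideal A} (hI : I ≤ maximalIdeal A) (hJ : J ≤ maximalIdeal A) {N : ℕ}
    (hN : maximalIdeal A ^ N ≤ J ⊔ I) {c : ℕ} (hc : ringKrullDim (A ⧸ J) = c) {e : ℝ}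
    (he : Tendsto (fun t : ℕ => (c.factorial : ℝ) * ((Module.length A (A ⧸ (J ⊔ I ^ t))).toNat : ℝ) / (t : ℝ) ^ c)
      atTop (𝓝 e)) : 0 < e := by
  haveI : Nontrivial (A ⧸ J) := Ideal.Quotient.nontrivial_iff.2 (ne_top_of_le_ne_top (maximalIdeal.isMaximal A).ne_top hJ)
  haveI : IsLocalRing (A ⧸ J) := IsLocalRing.of_surjective' (Ideal.Quotient.mk J) Ideal.Quotient.mk_surjective
  obtain ⟨q, -, hpos, -, ht⟩ := Mult6.exists_samuel_maximal (A := A ⧸ J) hc
  have hlen : ∀ t : ℕ, Module.length (A ⧸ J) ((A ⧸ J) ⧸ maximalIdeal (A ⧸ J) ^ t) =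
      Module.length A (A ⧸ (J ⊔ maximalIdeal A ^ t)) := fun t => by
    rw [← Module.length_eq_of_surjective (S := A) (R := A ⧸ J) (M := (A ⧸ J) ⧸ maximalIdeal (A ⧸ J) ^ t)
      Ideal.Quotient.mk_surjective,
      ← IsLocalRing.map_maximalIdeal_of_surjective (Ideal.Quotient.mk J) Ideal.Quotient.mk_surjective,
      ← Ideal.map_pow]
    exact (DoubleQuot.quotQuotEquivQuotSupₐ A J (maximalIdeal A ^ t)).toLinearEquiv.length_eq
  refine lt_of_lt_of_le (mul_pos (Nat.cast_pos.2 c.factorial_pos) (Rat.cast_pos.2 hpos))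
    (le_of_tendsto_of_tendsto (ht.const_mul (c.factorial : ℝ)) he ?_)
  refine Eventually.of_forall fun t => ?_
  show (c.factorial : ℝ) * (((Module.length (A ⧸ J) ((A ⧸ J) ⧸ maximalIdeal (A ⧸ J) ^ t)).toNat : ℝ) / (t : ℝ) ^ c) ≤ _
  rw [hlen]
  show _ ≤ (c.factorial : ℝ) * ((Module.length A (A ⧸ (J ⊔ I ^ t))).toNat : ℝ) / (t : ℝ) ^ c
  rw [mul_div_assoc]
  refine mul_le_mul_of_nonneg_left (div_le_div_of_nonneg_right (Nat.cast_le.2 ?_) (by positivity)) (by positivity)
  refine ENat.toNat_le_toNat (Module.length_le_of_surjective (Submodule.factor (sup_le_sup_left (Ideal.pow_right_mono hI t) J))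
    (Submodule.factor_surjective _)) (Mult6.length_quotient_ne_top (N := N * t) ?_)
  rw [pow_mul]
  exact (Ideal.pow_right_mono hN t).trans (sup_pow_le J I t)

/-- Along a regular sequence the Tor multiplicity is the Samuel limit. -/
theorem tendsto_chi {J : Ideal A} {c : ℕ} (g : Fin c → A) (hreg : IsRegular A (List.ofFn g))
    (hsupp : ∀ p : PrimeSpectrum A, J ≤ p.asIdeal → Ideal.span (Set.range g) ≤ p.asIdeal →
      p.asIdeal = maximalIdeal A) :
    Tendsto (fun t : ℕ => (c.factorial : ℝ) *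
        ((Module.length A (A ⧸ (J ⊔ Ideal.span (Set.range g) ^ t))).toNat : ℝ) / (t : ℝ) ^ c) atTop
        (𝓝 (IntMult.chi A (A ⧸ J) (A ⧸ Ideal.span (Set.range g)) : ℝ)) := by
  have h0 : Module.supportDim A ((A ⧸ J) ⧸ (Ideal.span (Set.range g) • (⊤ : Submodule A (A ⧸ J)))) ≤ 0 := by
    refine IntMult26.supportDim_le_length [] _ (by simp) fun p hp _ => ?_
    rw [Module.support_quotient, Module.support_eq_zeroLocus, Ideal.annihilator_quotient] at hp
    exact hsupp p hp.1 hp.2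
  have hlim := S1914.result A c g hreg (A ⧸ J) h0
  simp only [length_quot_sup, chi_comm (A ⧸ Ideal.span (Set.range g))] at hlim
  exact hlim

/-- The Tor multiplicity vanishes when the quotient is too small. -/
theorem chi_eq_zero_of_dim_lt {J : Ideal A} {c : ℕ} (g : Fin c → A) (hreg : IsRegular A (List.ofFn g))
    (hg : Ideal.span (Set.range g) ≤ maximalIdeal A) (hJ : J ≤ maximalIdeal A) {e : ℕ}
    (he : ringKrullDim (A ⧸ J) = e) (hec : e < c)
    (hsupp : ∀ p : PrimeSpectrum A, J ≤ p.asIdeal → Ideal.span (Set.range g) ≤ p.asIdeal →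
      p.asIdeal = maximalIdeal A) :
    IntMult.chi A (A ⧸ J) (A ⧸ Ideal.span (Set.range g)) = 0 := by
  set G := Ideal.span (Set.range g)
  obtain ⟨N, hN⟩ := exists_pow_le (J := J ⊔ G) fun p hp => hsupp p (le_sup_left.trans hp) (le_sup_right.trans hp)
  have hJG : ∀ t : ℕ, J ⊔ (J ⊔ G) ^ t = J ⊔ G ^ t := fun t =>
    le_antisymm (sup_le le_sup_left (sup_pow_le J G t)) (sup_le_sup_left (Ideal.pow_right_mono le_sup_right t) J)
  obtain ⟨c', rfl⟩ : ∃ c', c = c' + 1 := ⟨c - 1, by omega⟩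
  have hz := IntMult26.tendsto_nhs_zero (I := J ⊔ G) ⟨sup_le hJ hg, N, hN⟩ (A ⧸ J) (d := c')
    (by rw [Module.supportDim_quotient_eq_ringKrullDim, he]; exact_mod_cast (by omega : e ≤ c'))
  unfold IntMult26.nhs at hz
  simp only [length_quot_sup] at hz
  have hlim := tendsto_chi g hreg hsupp
  have hz' := hz.congr (f₂ := fun t : ℕ => ((c' + 1).factorial : ℝ) *
      ((Module.length A (A ⧸ (J ⊔ G ^ t))).toNat : ℝ) / (t : ℝ) ^ (c' + 1)) fun t => by rw [hJG t]
  exact_mod_cast tendsto_nhds_unique hlim hz'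

/-- Serre: along a regular sequence the Tor multiplicity is the Samuel multiplicity, and it is positive. -/
theorem tendsto_and_pos {J : Ideal A} {c : ℕ} (g : Fin c → A) (hreg : IsRegular A (List.ofFn g))
    (hg : Ideal.span (Set.range g) ≤ maximalIdeal A) (hJ : J ≤ maximalIdeal A)
    (hc : ((c : ℕ) : WithBot ℕ∞) ≤ ringKrullDim (A ⧸ J))
    (hsupp : ∀ p : PrimeSpectrum A, J ≤ p.asIdeal → Ideal.span (Set.range g) ≤ p.asIdeal →
      p.asIdeal = maximalIdeal A) :
    Tendsto (fun t : ℕ => (c.factorial : ℝ) *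
        ((Module.length A (A ⧸ (J ⊔ Ideal.span (Set.range g) ^ t))).toNat : ℝ) / (t : ℝ) ^ c) atTop
        (𝓝 (IntMult.chi A (A ⧸ J) (A ⧸ Ideal.span (Set.range g)) : ℝ)) ∧
      0 < IntMult.chi A (A ⧸ J) (A ⧸ Ideal.span (Set.range g)) := by
  have hmem : ∀ x ∈ List.ofFn g, x ∈ maximalIdeal A := fun x hx => by
    obtain ⟨i, rfl⟩ := List.mem_ofFn.1 hx
    exact hg (Ideal.subset_span ⟨i, rfl⟩)
  have hall : ∀ (p : PrimeSpectrum A), (∀ x ∈ List.ofFn g, x ∈ p.asIdeal) → Ideal.span (Set.range g) ≤ p.asIdeal :=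
    fun p hp => Ideal.span_le.2 (Set.range_subset_iff.2 fun i => hp _ (List.mem_ofFn.2 ⟨i, rfl⟩))
  have hdim : ringKrullDim (A ⧸ J) = c := by
    refine le_antisymm ?_ hc
    have h := IntMult26.supportDim_le_length (List.ofFn g) (A ⧸ J) hmem fun p hp hpl => by
      rw [Module.support_eq_zeroLocus, Ideal.annihilator_quotient, PrimeSpectrum.mem_zeroLocus] at hp
      exact hsupp p hp (hall p hpl)
    rwa [Module.supportDim_quotient_eq_ringKrullDim, List.length_ofFn] at h
  obtain ⟨N, hN⟩ := exists_pow_le (J := J ⊔ Ideal.span (Set.range g))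
    fun p hp => hsupp p (le_sup_left.trans hp) (le_sup_right.trans hp)
  exact ⟨tendsto_chi g hreg hsupp, by exact_mod_cast samuel_pos hg hJ hN hdim (tendsto_chi g hreg hsupp)⟩

end Groth.Agent.Diag27
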