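import Groth.Agent.Lib.Diag27.Shift
import Groth.Agent.Lib.Diag27.Samuel
import Groth.Agent.Lib.IntMult26.TorDim
import Groth.Agent.Lib.RegLoc.GlobalDim
import Groth.Agent.Lib.TorBal.Dim
import Groth.Agent.Lib.Herbrand26.DimOne

/-!
# Additivity of the Tor multiplicity and devissage
-/

set_option autoImplicit false
set_option backward.isDefEq.respectTransparency false
set_option linter.style.haveILetI false

universe u

open CategoryTheory CategoryTheory.Limits TensorProduct IsLocalRing Groth.Agent Groth.Agent.Herbrand26

noncomputable section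

namespace Groth.Agent.Diag27

variable {A : Type u} [CommRing A] [IsLocalRing A]

/-- Two modules meeting in the closed point only. -/
def Meet (M N : Type u) [AddCommGroup M] [Module A M] [AddCommGroup N] [Module A N] : Prop :=
  ∀ p : PrimeSpectrum A, p ∈ Module.support A M → p ∈ Module.support A N → p.asIdeal = maximalIdeal A

theorem Meet.symm {M N : Type u} [AddCommGroup M] [Module A M] [AddCommGroup N] [Module A N]
    (h : Meet (A := A) M N) : Meet (A := A) N M := fun p hN hM => h p hM hN

theorem Meet.mono {M M' N : Type u} [AddCommGroup M] [Module A M] [AddCommGroup M'] [Module A M'] [AddCommGroup N]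
    [Module A N] (h : Meet (A := A) M N) (hs : Module.support A M' ⊆ Module.support A M) : Meet (A := A) M' N :=
  fun p hM hN => h p (hs hM) hN

variable [IsNoetherianRing A]

theorem finite_homology (N : Type u) [AddCommGroup N] [Module A N] [Module.Finite A N] :
    ∀ (n : ℕ) (X : Type u) [AddCommGroup X] [Module A X] [Module.Finite A X],
      Module.Finite A ((TC (ModuleCat.of A N) (ModuleCat.of A X)).homology n) := by
  intro n
  induction n with
  | zero =>
    intro X _ _ _
    haveI : IsNoetherian A ((ModuleCat.of A X : ModuleCat.{u} A) ⊗[A] (TorBal27.Kp A 0).obj (ModuleCat.of A N)) :=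
      (inferInstance : IsNoetherian A (X ⊗[A] N))
    exact Module.Finite.of_injective (TorBal27.phi (ModuleCat.of A X) (ModuleCat.of A N) 0)
      (TorBal27.phi_injective _ _ 0)
  | succ n ih =>
    intro X _ _ _
    obtain ⟨m, p, hp⟩ := Module.Finite.exists_fin' A X
    haveI : Module.Finite A (LinearMap.ker p) := Module.Finite.iff_fg.2 (IsNoetherian.noetherian _)
    have hS : (ShortComplex.mk (ModuleCat.ofHom (LinearMap.ker p).subtype) (ModuleCat.ofHom p)
        (ModuleCat.hom_ext (LinearMap.comp_ker_subtype p))).ShortExact :=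
      { exact := (ShortComplex.ShortExact.moduleCat_exact_iff_function_exact _).2 (LinearMap.exact_subtype_ker_map p)
        mono_f := (ModuleCat.mono_iff_injective _).2 (LinearMap.ker p).injective_subtype
        epi_g := (ModuleCat.epi_iff_surjective _).2 hp }
    have hA : IsZero ((TC (ModuleCat.of A N) (ModuleCat.of A (Fin m → A))).homology (n + 1)) :=
      (TorBal.isZero_tor_flat_left (Fin m → A) n (ModuleCat.of A N)).of_iso (TorBal27.torIso (n + 1) _ _).symm
    have hT := shortExact_tm (ModuleCat.of A N) hS
    haveI := hT.mono_δ (n + 1) n rfl hA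
    haveI := ih (LinearMap.ker p)
    exact Module.Finite.of_injective (hT.δ (n + 1) n rfl).hom ((ModuleCat.mono_iff_injective _).1 inferInstance)

theorem smul_homology (N X : ModuleCat.{u} A) (n : ℕ) (a : A) (ha : ∀ x : X, a • x = 0)
    (η : (TC N X).homology n) : a • η = 0 := by
  obtain ⟨z, rfl⟩ := DMod.homologyπ_surjective (TC N X) n η
  rw [← map_smul]
  have h : a • z = 0 := by
    refine (ModuleCat.mono_iff_injective ((TC N X).iCycles n)).1 inferInstance ?_
    rw [map_smul, map_zero]
    have key : ∀ y : X ⊗[A] (TorBal27.F A).obj ((TorBal27.Kp A n).obj N), a • y = 0 := fun y => by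
      induction y using TensorProduct.induction_on with
      | zero => exact smul_zero a
      | add u v hu hv => rw [smul_add, hu, hv, add_zero]
      | tmul x w => rw [TensorProduct.smul_tmul', ha x, TensorProduct.zero_tmul]
    exact key _
  rw [h, map_zero]

/-- The torsion groups of two modules meeting in the closed point have finite length. -/
theorem length_ne_top_tor {M N : Type u} [AddCommGroup M] [Module A M] [Module.Finite A M] [AddCommGroup N]
    [Module A N] [Module.Finite A N] (h : Meet (A := A) M N) (n : ℕ) :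
    Module.length A ((TC (ModuleCat.of A N) (ModuleCat.of A M)).homology n) ≠ ⊤ := by
  haveI := finite_homology (A := A) N n M
  obtain ⟨e⟩ := TorBal27.nonempty_tor_iso_flip (R := A) n
  let ε : (TC (ModuleCat.of A N) (ModuleCat.of A M)).homology n ≅ (TC (ModuleCat.of A M) (ModuleCat.of A N)).homology n :=
    (TorBal27.torIso n (ModuleCat.of A M) (ModuleCat.of A N)).symm ≪≫
      (e.app (ModuleCat.of A M)).app (ModuleCat.of A N) ≪≫ TorBal27.torIso n (ModuleCat.of A N) (ModuleCat.of A M)
  rw [Module.length_ne_top_iff]
  refine HilbSam.isFiniteLength_of_support fun p hp => ?_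
  have hmem : ∀ (a : A), ((∀ x : M, a • x = 0) ∨ ∀ x : N, a • x = 0) → a ∈ p.asIdeal := by
    intro a ha
    by_contra hap
    obtain ⟨η, hη⟩ := Module.mem_support_iff'.1 hp
    refine hη a hap ?_
    rcases ha with ha | ha
    · exact smul_homology (ModuleCat.of A N) (ModuleCat.of A M) n a ha η
    · refine ε.toLinearEquiv.injective ?_
      rw [map_smul, map_zero]
      exact smul_homology (ModuleCat.of A M) (ModuleCat.of A N) n a ha _
  have hM : p ∈ Module.support A M := by
    rw [Module.support_eq_zeroLocus]
    exact fun a ha => hmem a (Or.inl fun x => Module.mem_annihilator.1 ha x)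
  have hN : p ∈ Module.support A N := by
    rw [Module.support_eq_zeroLocus]
    exact fun a ha => hmem a (Or.inr fun x => Module.mem_annihilator.1 ha x)
  exact (h p hM hN) ▸ maximalIdeal.isMaximal A

theorem toNat_exact {V₁ V₂ V₃ : Type u} [AddCommGroup V₁] [Module A V₁] [AddCommGroup V₂] [Module A V₂]
    [AddCommGroup V₃] [Module A V₃] (f : V₁ →ₗ[A] V₂) (g : V₂ →ₗ[A] V₃) (h : Function.Exact f g)
    (hfin : Module.length A V₂ ≠ ⊤) :
    (Module.length A V₂).toNat = (Module.length A (LinearMap.range f)).toNat +
      (Module.length A (LinearMap.range g)).toNat := by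
  have he : Function.Exact (LinearMap.range f).subtype g.rangeRestrict := by
    intro x
    rw [show g.rangeRestrict x = 0 ↔ g x = 0 from Subtype.ext_iff, h x, Set.mem_range]
    exact ⟨fun ⟨y, hy⟩ => ⟨⟨f y, LinearMap.mem_range_self f y⟩, hy⟩,
      fun ⟨⟨z, w, hw⟩, hz⟩ => ⟨w, hw.trans hz⟩⟩
  have hadd := Module.length_eq_add_of_exact (LinearMap.range f).subtype g.rangeRestrict
    (Submodule.injective_subtype _) g.surjective_rangeRestrict he
  rw [hadd]
  refine ENat.toNat_add (ne_top_of_le_ne_top hfin ?_) (ne_top_of_le_ne_top hfin ?_)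
  · rw [hadd]; exact le_self_add
  · rw [hadd]; exact le_add_self

theorem chi_eq_sum [IsRegularLocalRing A] {t : ℕ} (ht : ringKrullDim A = t) (M N : Type u) [AddCommGroup M]
    [Module A M] [Module.Finite A M] [AddCommGroup N] [Module A N] :
    (∀ n, t < n → Subsingleton ((TC (ModuleCat.of A N) (ModuleCat.of A M)).homology n)) ∧
    IntMult.chi A M N = ∑ n ∈ Finset.range (t + 1),
      (-1 : ℤ) ^ n * ((Module.length A ((TC (ModuleCat.of A N) (ModuleCat.of A M)).homology n)).toNat : ℤ) := by
  haveI : Module.FinitePresentation A M := Module.finitePresentation_of_finite _ _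
  have hd : (maximalIdeal A).spanFinrank = t := by
    have h := IsRegularLocalRing.spanFinrank_maximalIdeal (R := A)
    rw [ht] at h
    exact_mod_cast h
  have hpd := RegLoc.pd_le_spanFinrank t A hd M
  have hz : ∀ n, t < n → Subsingleton ((TC (ModuleCat.of A N) (ModuleCat.of A M)).homology n) := fun n hn =>
    ModuleCat.subsingleton_of_isZero
      ((IntMult26.isZero_tor_of_pd t M hpd n hn (ModuleCat.of A N)).of_iso (TorBal27.torIso n _ _).symm)
  refine ⟨hz, ?_⟩
  unfold IntMult.chi
  have hlen : ∀ n, Module.length A (DRing.Tor A n M N) =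
      Module.length A ((TC (ModuleCat.of A N) (ModuleCat.of A M)).homology n) := fun n =>
    (TorBal27.torIso n (ModuleCat.of A M) (ModuleCat.of A N)).toLinearEquiv.length_eq
  simp only [hlen]
  refine finsum_eq_sum_of_support_subset _ fun n hn => ?_
  rw [Finset.coe_range, Set.mem_Iio]
  by_contra hlt
  haveI := hz n (by omega)
  exact hn (by simp [Module.length_eq_zero])

/-- The Tor multiplicity is additive. -/
theorem chi_add [IsRegularLocalRing A] {M' M M'' N : Type u} [AddCommGroup M'] [Module A M'] [Module.Finite A M']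
    [AddCommGroup M] [Module A M] [Module.Finite A M] [AddCommGroup M''] [Module A M''] [Module.Finite A M'']
    [AddCommGroup N] [Module A N] [Module.Finite A N] (i : M' →ₗ[A] M) (p : M →ₗ[A] M'') (hi : Function.Injective i)
    (hp : Function.Surjective p) (hex : Function.Exact i p) (h : Meet (A := A) M N) :
    IntMult.chi A M N = IntMult.chi A M' N + IntMult.chi A M'' N := by
  obtain ⟨t, ht⟩ := RegLoc.exists_dim_eq_nat (R := A)
  obtain ⟨-, e2⟩ := chi_eq_sum ht M N
  obtain ⟨z1, e1⟩ := chi_eq_sum ht M' N
  obtain ⟨-, e3⟩ := chi_eq_sum ht M'' N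
  rw [e1, e2, e3]
  have hS : (ShortComplex.mk (ModuleCat.ofHom i) (ModuleCat.ofHom p)
      (ModuleCat.hom_ext (LinearMap.ext fun x => (hex (i x)).2 ⟨x, rfl⟩))).ShortExact :=
    { exact := (ShortComplex.ShortExact.moduleCat_exact_iff_function_exact _).2 hex
      mono_f := (ModuleCat.mono_iff_injective _).2 hi
      epi_g := (ModuleCat.epi_iff_surjective _).2 hp }
  have hT := shortExact_tm (ModuleCat.of A N) hS
  have h' : Meet (A := A) M' N := h.mono (Module.support_subset_of_injective i hi)
  have h'' : Meet (A := A) M'' N := h.mono (Module.support_subset_of_surjective p hp)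
  let a := fun n => ((Module.length A ((TC (ModuleCat.of A N) (ModuleCat.of A M')).homology n)).toNat : ℤ)
  let b := fun n => ((Module.length A ((TC (ModuleCat.of A N) (ModuleCat.of A M)).homology n)).toNat : ℤ)
  let c := fun n => ((Module.length A ((TC (ModuleCat.of A N) (ModuleCat.of A M'')).homology n)).toNat : ℤ)
  let F := fun n => (HomologicalComplex.homologyMap (tm (ModuleCat.of A N) (ModuleCat.ofHom i)) n).hom
  let G := fun n => (HomologicalComplex.homologyMap (tm (ModuleCat.of A N) (ModuleCat.ofHom p)) n).hom
  let D := fun n => (hT.δ (n + 1) n rfl).hom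
  let r := fun n => ((Module.length A (LinearMap.range (D n))).toNat : ℤ)
  let P := fun n => ((Module.length A (LinearMap.range (F n))).toNat : ℤ)
  let Q := fun n => ((Module.length A (LinearMap.range (G n))).toNat : ℤ)
  have hb : ∀ n, b n = P n + Q n := fun n => by
    simp only [b, P, Q]
    rw [toNat_exact (F n) (G n) ((ShortComplex.ShortExact.moduleCat_exact_iff_function_exact _).1 (hT.homology_exact₂ n))
      (length_ne_top_tor h n)]
    push_cast
    rfl
  have ha : ∀ n, a n = r n + P n := fun n => by
    simp only [a, P, r]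
    rw [toNat_exact (D n) (F n) ((ShortComplex.ShortExact.moduleCat_exact_iff_function_exact _).1
      (hT.homology_exact₁ (n + 1) n rfl)) (length_ne_top_tor h' n)]
    push_cast
    rfl
  have hc : ∀ n, c (n + 1) = Q (n + 1) + r n := fun n => by
    simp only [c, Q, r]
    rw [toNat_exact (G (n + 1)) (D n) ((ShortComplex.ShortExact.moduleCat_exact_iff_function_exact _).1
      (hT.homology_exact₃ (n + 1) n rfl)) (length_ne_top_tor h'' (n + 1))]
    push_cast
    rfl
  have hc0 : c 0 = Q 0 := by
    have hsurj : Function.Surjective (G 0) := by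
      intro y
      obtain ⟨w, hw⟩ := LinearMap.rTensor_surjective (ModuleCat.of A N : ModuleCat.{u} A) hp
        (TorBal27.phi (ModuleCat.of A M'') (ModuleCat.of A N) 0 y)
      obtain ⟨η, rfl⟩ := TorBal27.phi_zero_surjective (ModuleCat.of A M) (ModuleCat.of A N) w
      exact ⟨η, TorBal27.phi_injective (ModuleCat.of A M'') (ModuleCat.of A N) 0
        ((TorBal27.phi_natural (ModuleCat.ofHom p) (𝟙 (ModuleCat.of A N)) 0 η).trans hw)⟩
    simp only [c, Q]
    rw [LinearMap.range_eq_top.2 hsurj, Submodule.topEquiv.length_eq]
  have key : ∀ m, ∑ n ∈ Finset.range (m + 1), (-1 : ℤ) ^ n * (b n - a n - c n) = -((-1 : ℤ) ^ m * r m) := by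
    intro m
    induction m with
    | zero =>
      simp only [zero_add, Finset.range_one, Finset.sum_singleton, pow_zero, one_mul]
      linear_combination hb 0 - ha 0 - hc0
    | succ m ih =>
      rw [Finset.sum_range_succ, ih]
      linear_combination (-1 : ℤ) ^ (m + 1) * hb (m + 1) - (-1 : ℤ) ^ (m + 1) * ha (m + 1) - (-1 : ℤ) ^ (m + 1) * hc m
  have hr : r t = 0 := by
    have hD : D t = 0 := by
      ext η
      haveI : Subsingleton ((TC (ModuleCat.of A N) (ModuleCat.of A M'')).homology (t + 1)) :=
        (chi_eq_sum ht M'' N).1 (t + 1) (Nat.lt_succ_self t)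
      rw [Subsingleton.elim η 0, map_zero, map_zero]
    haveI : Subsingleton (LinearMap.range (D t)) := by
      rw [hD, LinearMap.range_zero]
      infer_instance
    simp [r, Module.length_eq_zero]
  have hk := key t
  rw [hr, mul_zero, neg_zero] at hk
  simp only [mul_sub, Finset.sum_sub_distrib] at hk
  linear_combination hk

theorem finite_top (M : Type u) [AddCommGroup M] [Module A M] [Module.Finite A M] {a : ℕ}
    (hM : Module.supportDim A M ≤ a) :
    {p : PrimeSpectrum A | ringKrullDim (A ⧸ p.asIdeal) = a ∧ p ∈ Module.support A M}.Finite := by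
  refine (((Module.annihilator A M).finite_minimalPrimes_of_isNoetherianRing A).preimage
    (f := PrimeSpectrum.asIdeal) fun x _ y _ e => PrimeSpectrum.ext e).subset ?_
  rintro p ⟨hp, hps⟩
  rw [Module.support_eq_zeroLocus] at hps
  refine ⟨⟨p.2, hps⟩, fun q hq hle => ?_⟩
  haveI := hq.1
  by_contra hne
  have hlt : (⟨q, hq.1⟩ : PrimeSpectrum A) < p :=
    lt_of_le_of_ne hle fun e => hne (e ▸ le_rfl)
  have h1 := IntMult26.ringKrullDim_quotient_succ_le hlt
  have hqs : (⟨q, hq.1⟩ : PrimeSpectrum A) ∈ Module.support A M := by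
    rw [Module.support_eq_zeroLocus]
    exact hq.2
  have h2 := DepthLib.ringKrullDim_quotient_le_supportDim hqs
  rw [hp] at h1
  have h3 : ((a : ℕ) : WithBot ℕ∞) + 1 ≤ a := h1.trans (h2.trans hM)
  exact absurd (show a + 1 ≤ a by exact_mod_cast h3) (by omega)

/-- Devissage of the Tor multiplicity to the top primes. -/
theorem chi_devissage [IsRegularLocalRing A] (N : Type u) [AddCommGroup N] [Module A N] [Module.Finite A N] (a : ℕ)
    (hlow : ∀ p : PrimeSpectrum A, Meet (A := A) (A ⧸ p.asIdeal) N → ringKrullDim (A ⧸ p.asIdeal) < a →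
      IntMult.chi A (A ⧸ p.asIdeal) N = 0)
    (M : Type u) [AddCommGroup M] [Module A M] [Module.Finite A M] (hMN : Meet (A := A) M N)
    (hM : Module.supportDim A M ≤ a) :
    IntMult.chi A M N = ∑ p ∈ (finite_top M hM).toFinset,
      ((locLen p M).toNat : ℤ) * IntMult.chi A (A ⧸ p.asIdeal) N := by
  classical
  suffices H : ∀ (M : Type u) [AddCommGroup M] [Module A M] [Module.Finite A M], Meet (A := A) M N →
      ∀ hM : Module.supportDim A M ≤ a,
        (∀ p, ringKrullDim (A ⧸ p.asIdeal) = a → locLen p M ≠ ⊤) ∧
        IntMult.chi A M N = ∑ p ∈ (finite_top M hM).toFinset,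
          ((locLen p M).toNat : ℤ) * IntMult.chi A (A ⧸ p.asIdeal) N from (H M hMN hM).2
  intro M _ _ i
  clear hMN hM
  induction i using IsNoetherianRing.induction_on_isQuotientEquivQuotientPrime A with
  | subsingleton M =>
    intro hMN hM
    have h0 : Module.support A M = ∅ := Module.support_eq_empty_iff.2 inferInstance
    refine ⟨fun p _ => ?_, ?_⟩
    · rw [locLen_eq_zero (by rw [h0]; exact Set.notMem_empty _)]
      exact ENat.zero_ne_top
    · obtain ⟨t, ht⟩ := RegLoc.exists_dim_eq_nat (R := A)
      have he : (finite_top M hM).toFinset = ∅ := by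
        ext p
        simp [h0]
      rw [he, Finset.sum_empty, (chi_eq_sum ht M N).2]
      refine Finset.sum_eq_zero fun n _ => ?_
      have hz : Module.length A ((TC (ModuleCat.of A N) (ModuleCat.of A M)).homology n) = 0 := by
        rw [Module.length_eq_zero_iff]
        refine subsingleton_of_forall_eq 0 fun η => ?_
        rw [← one_smul A η]
        exact smul_homology (ModuleCat.of A N) (ModuleCat.of A M) n 1 (fun x => Subsingleton.elim _ _) η
      simp [hz]
  | quotient M q φ =>
    intro hMN hM
    have hsup : Module.support A M = Module.support A (A ⧸ q.asIdeal) := LinearEquiv.support_eq φ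
    have hq : ∀ p, p ∈ Module.support A M ↔ q.asIdeal ≤ p.asIdeal := fun p => by
      rw [hsup, Module.support_eq_zeroLocus, Ideal.annihilator_quotient]
      exact Iff.rfl
    have hdim : Module.supportDim A M = ringKrullDim (A ⧸ q.asIdeal) := by
      rw [Module.supportDim_eq_of_equiv φ, Module.supportDim_quotient_eq_ringKrullDim]
    have hchi : IntMult.chi A M N = IntMult.chi A (A ⧸ q.asIdeal) N := by
      unfold IntMult.chi
      refine finsum_congr fun n => ?_
      have h : Module.length A (DRing.Tor A n M N) = Module.length A (DRing.Tor A n (A ⧸ q.asIdeal) N) :=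
        (((Tor (ModuleCat.{u} A) n).mapIso φ.toModuleIso).app (ModuleCat.of A N)).toLinearEquiv.length_eq
      rw [h]
    have hloc : ∀ p, ringKrullDim (A ⧸ p.asIdeal) = a → p ∈ Module.support A M → p = q := by
      intro p hp hps
      by_contra hne
      have h1 := IntMult26.ringKrullDim_quotient_succ_le
        (lt_of_le_of_ne ((PrimeSpectrum.asIdeal_le_asIdeal _ _).1 ((hq p).1 hps)) (Ne.symm hne))
      rw [hp] at h1
      have h3 : ((a : ℕ) : WithBot ℕ∞) + 1 ≤ a := h1.trans (hdim.symm.le.trans hM)
      exact absurd (show a + 1 ≤ a by exact_mod_cast h3) (by omega)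
    have hlq : locLen q M = 1 := by
      rw [show locLen q M = locLen q (A ⧸ q.asIdeal) from AssPts11.length_localized_eq φ q.asIdeal,
        locLen_quotient_self]
    refine ⟨fun p hp => ?_, ?_⟩
    · by_cases hps : p ∈ Module.support A M
      · rw [hloc p hp hps, hlq]
        exact ENat.one_ne_top
      · rw [locLen_eq_zero hps]
        exact ENat.zero_ne_top
    · by_cases hqa : ringKrullDim (A ⧸ q.asIdeal) = a
      · have he : (finite_top M hM).toFinset = {q} := by
          ext p
          simp only [Set.Finite.mem_toFinset, Set.mem_setOf_eq, Finset.mem_singleton]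
          exact ⟨fun h => hloc p h.1 h.2, fun h => h ▸ ⟨hqa, (hq q).2 le_rfl⟩⟩
        rw [he, Finset.sum_singleton, hlq, hchi]
        simp
      · have he : (finite_top M hM).toFinset = ∅ := by
          ext p
          simp only [Set.Finite.mem_toFinset, Set.mem_setOf_eq, Finset.notMem_empty, iff_false]
          exact fun h => hqa (hloc p h.1 h.2 ▸ h.1)
        rw [he, Finset.sum_empty, hchi]
        exact hlow q (hMN.mono hsup.ge) (lt_of_le_of_ne (hdim.symm.le.trans hM) hqa)
  | exact M₁ M₂ M₃ f g hf hg hfg h₁ h₃ =>
    intro hMN hM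
    obtain ⟨a₁, e₁⟩ := h₁ (hMN.mono (Module.support_subset_of_injective f hf))
      ((Module.supportDim_le_of_injective f hf).trans hM)
    obtain ⟨a₃, e₃⟩ := h₃ (hMN.mono (Module.support_subset_of_surjective g hg))
      ((Module.supportDim_le_of_surjective g hg).trans hM)
    refine ⟨fun p hp => ?_, ?_⟩
    · rw [locLen_add p f g hf hg hfg]
      exact WithTop.add_ne_top.2 ⟨a₁ p hp, a₃ p hp⟩
    · rw [chi_add f g hf hg hfg hMN, e₁, e₃,
        Finset.sum_subset (s₂ := (finite_top M₂ hM).toFinset) (f := fun p => ((locLen p M₁).toNat : ℤ) * _)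
          (fun p hp => by
            simp only [Set.Finite.mem_toFinset, Set.mem_setOf_eq] at hp ⊢
            exact ⟨hp.1, Module.support_subset_of_injective f hf hp.2⟩)
          (fun p hp hp' => by
            simp only [Set.Finite.mem_toFinset, Set.mem_setOf_eq] at hp hp'
            rw [locLen_eq_zero fun h => hp' ⟨hp.1, h⟩]
            simp),
        Finset.sum_subset (s₂ := (finite_top M₂ hM).toFinset) (f := fun p => ((locLen p M₃).toNat : ℤ) * _)
          (fun p hp => by
            simp only [Set.Finite.mem_toFinset, Set.mem_setOf_eq] at hp ⊢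
            exact ⟨hp.1, Module.support_subset_of_surjective g hg hp.2⟩)
          (fun p hp hp' => by
            simp only [Set.Finite.mem_toFinset, Set.mem_setOf_eq] at hp hp'
            rw [locLen_eq_zero fun h => hp' ⟨hp.1, h⟩]
            simp),
        ← Finset.sum_add_distrib]
      refine Finset.sum_congr rfl fun p hp => ?_
      simp only [Set.Finite.mem_toFinset, Set.mem_setOf_eq] at hp
      rw [locLen_add p f g hf hg hfg, ENat.toNat_add (a₁ p hp.1) (a₃ p hp.1)]
      push_cast
      ring

end Groth.Agent.Diag27
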