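import Groth.Agent.Lib.Diag27.Local
import Groth.Agent.Lib.SmoothReg17.Basic
import Mathlib.RingTheory.TensorProduct.Quotient
import Mathlib.RingTheory.Flat.Localization
import Mathlib.RingTheory.Smooth.Basic
import Mathlib.RingTheory.Localization.Ideal

/-!
# Positivity of the Tor multiplicity over localisations of smooth algebras over a field
-/

set_option autoImplicit false
set_option linter.style.haveILetI false

universe u

open TensorProduct IsLocalRing Groth.Agent

noncomputable section

namespace Groth.Agent.Diag27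

/-- Flatness of quotients descends to the localisations. -/
theorem flat_quot_localization {R T A B : Type u} [CommRing R] [CommRing T] [CommRing A] [CommRing B] [Algebra R A]
    [Algebra T B] (S : Submonoid R) [IsLocalization S A] (Q : Submonoid T) [IsLocalization Q B]
    (u v : R →+* T) (hq : ∀ J' : Ideal R, ((Ideal.Quotient.mk (J'.map v)).comp u).Flat) (ι κ : A →+* B)
    (hι : ι.comp (algebraMap R A) = (algebraMap T B).comp u) (hκ : κ.comp (algebraMap R A) = (algebraMap T B).comp v)
    (J : Ideal A) : ((Ideal.Quotient.mk (J.map κ)).comp ι).Flat := by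
  set L := (J.comap (algebraMap R A)).map v
  have hL : J.map κ = L.map (algebraMap T B) := by
    conv_lhs => rw [← IsLocalization.map_comap S A J]
    rw [Ideal.map_map, hκ, ← Ideal.map_map]
  haveI : Module.Flat (T ⧸ L) (B ⧸ L.map (algebraMap T B)) :=
    IsLocalization.flat _ (Algebra.algebraMapSubmonoid (T ⧸ L) Q)
  have h1 := RingHom.Flat.comp (hq (J.comap (algebraMap R A)))
    (RingHom.flat_algebraMap_iff.2 ‹Module.Flat (T ⧸ L) (B ⧸ L.map (algebraMap T B))›)
  rw [hL]
  have e : (algebraMap (T ⧸ L) (B ⧸ L.map (algebraMap T B))).comp ((Ideal.Quotient.mk L).comp u) =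
      ((Ideal.Quotient.mk (L.map (algebraMap T B))).comp ι).comp (algebraMap R A) := by
    rw [RingHom.comp_assoc, hι]
    rfl
  rw [e] at h1
  set ψ := (Ideal.Quotient.mk (L.map (algebraMap T B))).comp ι
  letI := ψ.toAlgebra
  letI := (ψ.comp (algebraMap R A)).toAlgebra
  haveI : IsScalarTower R A (B ⧸ L.map (algebraMap T B)) := IsScalarTower.of_algebraMap_eq' rfl
  haveI : Module.Flat R (B ⧸ L.map (algebraMap T B)) := h1
  exact (Module.flat_iff_of_isLocalization A S (M := B ⧸ L.map (algebraMap T B))).2 ‹_›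

variable {K R : Type u} [Field K] [CommRing R] [Algebra K R]

theorem flat_prod_left (J : Ideal R) :
    ((Ideal.Quotient.mk (J.map (Algebra.TensorProduct.includeRight : R →ₐ[K] R ⊗[K] R))).comp
      (Algebra.TensorProduct.includeLeftRingHom : R →+* R ⊗[K] R)).Flat := by
  haveI : Module.Flat R ((R ⊗[K] R) ⧸ J.map (Algebra.TensorProduct.includeRight : R →ₐ[K] R ⊗[K] R)) :=
    Module.Flat.of_linearEquiv (Algebra.TensorProduct.tensorQuotientEquiv (R := K) (S := R) (A := R) (T := R) J).symm.toLinearEquiv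
  exact RingHom.flat_algebraMap_iff.2 this

theorem flat_prod_right (J : Ideal R) :
    ((Ideal.Quotient.mk (J.map (Algebra.TensorProduct.includeLeftRingHom : R →+* R ⊗[K] R))).comp
      (Algebra.TensorProduct.includeRight : R →ₐ[K] R ⊗[K] R).toRingHom).Flat := by
  let c : R ⊗[K] R →+* R ⊗[K] R := (Algebra.TensorProduct.comm K R R).toAlgHom.toRingHom
  have hc : c.comp (Algebra.TensorProduct.includeRight : R →ₐ[K] R ⊗[K] R).toRingHom =
      (Algebra.TensorProduct.includeLeftRingHom : R →+* R ⊗[K] R) := RingHom.ext fun x => rfl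
  have hc' : c.comp (Algebra.TensorProduct.includeLeftRingHom : R →+* R ⊗[K] R) =
      (Algebra.TensorProduct.includeRight : R →ₐ[K] R ⊗[K] R).toRingHom := RingHom.ext fun x => rfl
  let e := Ideal.quotientEquiv (J.map (Algebra.TensorProduct.includeRight : R →ₐ[K] R ⊗[K] R).toRingHom)
    (J.map (Algebra.TensorProduct.includeLeftRingHom : R →+* R ⊗[K] R))
    (Algebra.TensorProduct.comm K R R).toRingEquiv (by rw [Ideal.map_map]; exact congrArg (J.map ·) hc.symm)
  have h : (e.toRingHom.comp ((Ideal.Quotient.mk (J.map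
      (Algebra.TensorProduct.includeRight : R →ₐ[K] R ⊗[K] R).toRingHom)).comp
      (Algebra.TensorProduct.includeLeftRingHom : R →+* R ⊗[K] R))).Flat :=
    (flat_prod_left (K := K) J).comp (g := e.toRingHom) (RingHom.Flat.of_bijective e.bijective)
  have he : e.toRingHom.comp ((Ideal.Quotient.mk (J.map
      (Algebra.TensorProduct.includeRight : R →ₐ[K] R ⊗[K] R).toRingHom)).comp
      (Algebra.TensorProduct.includeLeftRingHom : R →+* R ⊗[K] R)) =
      (Ideal.Quotient.mk _).comp (Algebra.TensorProduct.includeRight : R →ₐ[K] R ⊗[K] R).toRingHom :=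
    RingHom.ext fun x => rfl
  rwa [he] at h

/-- Serre's positivity for a localisation of a smooth algebra over a field. -/
theorem chi_pos_of_smooth [Algebra.Smooth K R] {A : Type u} [CommRing A] [IsRegularLocalRing A] [Algebra R A]
    (P : Ideal R) [P.IsPrime] [IsLocalization.AtPrime A P]
    (I J : Ideal A) (hI : I ≠ ⊤) (hJ : J ≠ ⊤) {t a b : ℕ} (ht : ringKrullDim A = t)
    (ha : ringKrullDim (A ⧸ J) = a) (hb : ringKrullDim (A ⧸ I) = b) (hab : t ≤ a + b)
    (hsupp : ∀ p : PrimeSpectrum A, J ≤ p.asIdeal → I ≤ p.asIdeal → p.asIdeal = maximalIdeal A) :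
    0 < IntMult.chi A (A ⧸ J) (A ⧸ I) := by
  let μ : R ⊗[K] R →+* R := (Algebra.TensorProduct.lmul' K : R ⊗[K] R →ₐ[K] R).toRingHom
  let u : R →+* R ⊗[K] R := Algebra.TensorProduct.includeLeftRingHom
  let v : R →+* R ⊗[K] R := (Algebra.TensorProduct.includeRight : R →ₐ[K] R ⊗[K] R).toRingHom
  have hμu : ∀ x, μ (u x) = x := fun x => by simp [μ, u]
  have hμv : ∀ x, μ (v x) = x := fun x => by simp [μ, v]
  haveI : Algebra.Smooth R (R ⊗[K] R) := inferInstance
  haveI : Algebra.Smooth K (R ⊗[K] R) := Algebra.Smooth.comp K R (R ⊗[K] R)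
  let Q := P.comap μ
  let B := Localization.AtPrime Q
  haveI : IsRegularLocalRing B :=
    SmoothReg17.isRegularLocalRing_of_smooth (algebraMap K (R ⊗[K] R)) (RingHom.smooth_algebraMap.2 inferInstance) Q
  have hlift : ∀ w : R →+* R ⊗[K] R, (∀ x, μ (w x) = x) → ∀ s : P.primeCompl,
      IsUnit (((algebraMap (R ⊗[K] R) B).comp w) s) := fun w hw s =>
    IsLocalization.map_units B (⟨w s, fun h : μ (w s) ∈ P => s.2 (hw s ▸ h)⟩ : Q.primeCompl)
  letI : Algebra A B := (IsLocalization.lift (M := P.primeCompl) (S := A) (hlift u hμu)).toAlgebra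
  let π : B →+* A := IsLocalization.lift (M := Q.primeCompl) (S := B) (g := (algebraMap R A).comp μ)
    fun s => IsLocalization.map_units A (⟨μ s, s.2⟩ : P.primeCompl)
  let ι₂ : A →+* B := IsLocalization.lift (M := P.primeCompl) (S := A) (hlift v hμv)
  have hι : (algebraMap A B).comp (algebraMap R A) = (algebraMap (R ⊗[K] R) B).comp u :=
    IsLocalization.lift_comp _
  have hκ : ι₂.comp (algebraMap R A) = (algebraMap (R ⊗[K] R) B).comp v := IsLocalization.lift_comp _
  have hsec : ∀ (w : R →+* R ⊗[K] R) (κ : A →+* B), (∀ x, μ (w x) = x) →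
      κ.comp (algebraMap R A) = (algebraMap (R ⊗[K] R) B).comp w → ∀ y, π (κ y) = y := fun w κ hw hκ' y =>
    RingHom.congr_fun (IsLocalization.ringHom_ext P.primeCompl (j := π.comp κ) (k := RingHom.id A) (by
      rw [RingHom.comp_assoc, hκ', ← RingHom.comp_assoc, IsLocalization.lift_comp]
      exact RingHom.ext fun x => congrArg (algebraMap R A) (hw x))) y
  refine chi_pos π ι₂ (hsec u _ hμu hι) (hsec v _ hμv hκ) (fun J' => ?_) (fun J' => ?_) I J hI hJ ht ha hb hab hsupp
  · have h := flat_quot_localization P.primeCompl Q.primeCompl u v (fun J'' => flat_prod_left J'') (algebraMap A B) ι₂ hι hκ J'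
    have e : (Ideal.Quotient.mk (J'.map ι₂)).comp (algebraMap A B) = algebraMap A (B ⧸ J'.map ι₂) := rfl
    rw [e] at h
    exact RingHom.flat_algebraMap_iff.1 h
  · exact flat_quot_localization P.primeCompl Q.primeCompl v u (fun J'' => flat_prod_right J'') ι₂ (algebraMap A B) hκ hι J'

/-- Serre's vanishing for a localisation of a smooth algebra over a field. -/
theorem chi_eq_zero_of_smooth [Algebra.Smooth K R] {A : Type u} [CommRing A] [IsRegularLocalRing A] [Algebra R A]
    (P : Ideal R) [P.IsPrime] [IsLocalization.AtPrime A P]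
    (I J : Ideal A) (hI : I ≠ ⊤) (hJ : J ≠ ⊤) {t a b : ℕ} (ht : ringKrullDim A = t)
    (ha : ringKrullDim (A ⧸ J) = a) (hb : ringKrullDim (A ⧸ I) = b) (hab : a + b < t)
    (hsupp : ∀ p : PrimeSpectrum A, J ≤ p.asIdeal → I ≤ p.asIdeal → p.asIdeal = maximalIdeal A) :
    IntMult.chi A (A ⧸ J) (A ⧸ I) = 0 := by
  let μ : R ⊗[K] R →+* R := (Algebra.TensorProduct.lmul' K : R ⊗[K] R →ₐ[K] R).toRingHom
  let u : R →+* R ⊗[K] R := Algebra.TensorProduct.includeLeftRingHom
  let v : R →+* R ⊗[K] R := (Algebra.TensorProduct.includeRight : R →ₐ[K] R ⊗[K] R).toRingHom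
  have hμu : ∀ x, μ (u x) = x := fun x => by simp [μ, u]
  have hμv : ∀ x, μ (v x) = x := fun x => by simp [μ, v]
  haveI : Algebra.Smooth R (R ⊗[K] R) := inferInstance
  haveI : Algebra.Smooth K (R ⊗[K] R) := Algebra.Smooth.comp K R (R ⊗[K] R)
  let Q := P.comap μ
  let B := Localization.AtPrime Q
  haveI : IsRegularLocalRing B :=
    SmoothReg17.isRegularLocalRing_of_smooth (algebraMap K (R ⊗[K] R)) (RingHom.smooth_algebraMap.2 inferInstance) Q
  have hlift : ∀ w : R →+* R ⊗[K] R, (∀ x, μ (w x) = x) → ∀ s : P.primeCompl,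
      IsUnit (((algebraMap (R ⊗[K] R) B).comp w) s) := fun w hw s =>
    IsLocalization.map_units B (⟨w s, fun h : μ (w s) ∈ P => s.2 (hw s ▸ h)⟩ : Q.primeCompl)
  letI : Algebra A B := (IsLocalization.lift (M := P.primeCompl) (S := A) (hlift u hμu)).toAlgebra
  let π : B →+* A := IsLocalization.lift (M := Q.primeCompl) (S := B) (g := (algebraMap R A).comp μ)
    fun s => IsLocalization.map_units A (⟨μ s, s.2⟩ : P.primeCompl)
  let ι₂ : A →+* B := IsLocalization.lift (M := P.primeCompl) (S := A) (hlift v hμv)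
  have hι : (algebraMap A B).comp (algebraMap R A) = (algebraMap (R ⊗[K] R) B).comp u :=
    IsLocalization.lift_comp _
  have hκ : ι₂.comp (algebraMap R A) = (algebraMap (R ⊗[K] R) B).comp v := IsLocalization.lift_comp _
  have hsec : ∀ (w : R →+* R ⊗[K] R) (κ : A →+* B), (∀ x, μ (w x) = x) →
      κ.comp (algebraMap R A) = (algebraMap (R ⊗[K] R) B).comp w → ∀ y, π (κ y) = y := fun w κ hw hκ' y =>
    RingHom.congr_fun (IsLocalization.ringHom_ext P.primeCompl (j := π.comp κ) (k := RingHom.id A) (by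
      rw [RingHom.comp_assoc, hκ', ← RingHom.comp_assoc, IsLocalization.lift_comp]
      exact RingHom.ext fun x => congrArg (algebraMap R A) (hw x))) y
  refine chi_eq_zero π ι₂ (hsec u _ hμu hι) (hsec v _ hμv hκ) (fun J' => ?_) (fun J' => ?_) I J hI hJ ht ha hb hab hsupp
  · have h := flat_quot_localization P.primeCompl Q.primeCompl u v (fun J'' => flat_prod_left J'') (algebraMap A B) ι₂ hι hκ J'
    have e : (Ideal.Quotient.mk (J'.map ι₂)).comp (algebraMap A B) = algebraMap A (B ⧸ J'.map ι₂) := rfl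
    rw [e] at h
    exact RingHom.flat_algebraMap_iff.1 h
  · exact flat_quot_localization P.primeCompl Q.primeCompl v u (fun J'' => flat_prod_right J'') ι₂ (algebraMap A B) hκ hι J'


end Groth.Agent.Diag27
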