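import Groth.Agent.Lib.Diag27.Additive
import Groth.Agent.Lib.Diag27.Prod
import Groth.Agent.Lib.Cyc26.StalkLoc
import Groth.Agent.Lib.Cyc26.DegC1
import Groth.Agent.Lib.UCat26.DimFun
import Groth.Prelude.Def_IntMult

/-!
# Local form of the intersection product on a smooth variety
-/

set_option autoImplicit false
set_option backward.isDefEq.respectTransparency.types false
set_option linter.style.haveILetI false

universe u

open CategoryTheory AlgebraicGeometry IsLocalRing Groth.Agent Groth.Agent.Herbrand26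

noncomputable section

namespace Groth.Agent.Diag27

theorem supportDim_le_of_forall {A M : Type u} [CommRing A] [AddCommGroup M] [Module A M] {a : WithBot ℕ∞}
    (h : ∀ p ∈ Module.support A M, ringKrullDim (A ⧸ p.asIdeal) ≤ a) : Module.supportDim A M ≤ a := by
  rw [Module.supportDim, Order.krullDim]
  refine iSup_le fun s => ?_
  refine le_trans ?_ (h s.head.1 s.head.2)
  rw [ringKrullDim_quotient, Order.krullDim]
  exact le_iSup_of_le (⟨s.length, fun i => ⟨(s i).1, s.head_le i⟩, s.step⟩ : LTSeries _) le_rfl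

theorem chi_eq_zero_of_subsingleton {A : Type u} [CommRing A] [IsLocalRing A] [IsNoetherianRing A] (M N : Type u)
    [AddCommGroup M] [Module A M] [AddCommGroup N] [Module A N] [Subsingleton M] : IntMult.chi A M N = 0 := by
  unfold IntMult.chi
  refine finsum_eq_zero_of_forall_eq_zero fun n => ?_
  have h : Module.length A (DRing.Tor A n M N) = 0 := by
    rw [(TorBal27.torIso n (ModuleCat.of A M) (ModuleCat.of A N)).toLinearEquiv.length_eq, Module.length_eq_zero_iff]
    refine subsingleton_of_forall_eq 0 fun η => ?_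
    rw [← one_smul A η]
    exact smul_homology (ModuleCat.of A N) (ModuleCat.of A M) n 1 (fun x => Subsingleton.elim _ _) η
  rw [h]
  simp

variable {X : Scheme.{u}}

/-- The prime of the local ring at `x` of a generalisation. -/
def genPrime {ξ x : X} (h : ξ ⤳ x) : PrimeSpectrum (X.presheaf.stalk x) :=
  ⟨RingHom.ker (Cyc.specMap x ξ h), RingHom.ker_isPrime _⟩

theorem fromSpecStalk_genPrime {ξ x : X} (h : ξ ⤳ x) : X.fromSpecStalk x (genPrime h) = ξ :=
  UCat26.fromSpecStalk_ker h

theorem fromSpecStalk_specializes (x : X) (p : PrimeSpectrum (X.presheaf.stalk x)) : X.fromSpecStalk x p ⤳ x := by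
  have h : X.fromSpecStalk x p ∈ Set.range (X.fromSpecStalk x) := ⟨p, rfl⟩
  rwa [Scheme.range_fromSpecStalk] at h

theorem genPrime_fromSpecStalk {x : X} (p : PrimeSpectrum (X.presheaf.stalk x)) (h : X.fromSpecStalk x p ⤳ x) :
    genPrime h = p :=
  (X.fromSpecStalk x).isEmbedding.injective (fromSpecStalk_genPrime h)

theorem genPrime_congr {ξ η x : X} (e : ξ = η) (h : ξ ⤳ x) (h' : η ⤳ x) : genPrime h = genPrime h' := by
  subst e
  rfl

theorem genPrime_injective {ξ η x : X} (h : ξ ⤳ x) (h' : η ⤳ x) (e : genPrime h = genPrime h') : ξ = η := by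
  rw [← fromSpecStalk_genPrime h, ← fromSpecStalk_genPrime h', e]

theorem genPrime_refl (x : X) : (genPrime (specializes_refl x)).asIdeal = maximalIdeal (X.presheaf.stalk x) := by
  have h : genPrime (specializes_refl x) = closedPoint (X.presheaf.stalk x) :=
    (X.fromSpecStalk x).isEmbedding.injective
      ((fromSpecStalk_genPrime _).trans Scheme.fromSpecStalk_closedPoint.symm)
  rw [h]
  rfl

theorem genPrime_eq_bot [IsIntegral X] (x : X) : (genPrime (genericPoint_specializes x)).asIdeal = ⊥ := by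
  let b : PrimeSpectrum (X.presheaf.stalk x) := ⟨⊥, Ideal.bot_prime⟩
  have h1 : X.fromSpecStalk x b ⤳ genericPoint X := by
    have h := ((PrimeSpectrum.le_iff_specializes b (genPrime (genericPoint_specializes x))).1
      (show (⊥ : Ideal _) ≤ _ from bot_le)).map (X.fromSpecStalk x).continuous
    rwa [fromSpecStalk_genPrime] at h
  have h2 : X.fromSpecStalk x b = genericPoint X := (h1.antisymm (genericPoint_specializes _)).eq
  have h : genPrime (genericPoint_specializes x) = b :=
    (X.fromSpecStalk x).isEmbedding.injective ((fromSpecStalk_genPrime _).trans h2.symm)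
  rw [h]

theorem stalkIdeal_ptIdeal {ξ x : X} (h : ξ ⤳ x) :
    IntMult.stalkIdeal (IntMult.ptIdeal ξ) x = (genPrime h).asIdeal := by
  have key : ∀ (U : X.affineOpens) (hx : x ∈ (U : X.Opens)),
      ((IntMult.ptIdeal ξ).ideal U).map (X.presheaf.germ U x hx).hom = (genPrime h).asIdeal := by
    rintro ⟨U, hU'⟩ hx
    have hU : IsAffineOpen U := hU'
    have hξ : ξ ∈ U := h.mem_open U.isOpen hx
    letI := X.presheaf.algebra_section_stalk (⟨x, hx⟩ : U)
    haveI := hU.isLocalization_stalk ⟨x, hx⟩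
    have e1 : (IntMult.ptIdeal ξ).ideal ⟨U, hU⟩ = (hU.primeIdealOf ⟨ξ, hξ⟩).asIdeal := by
      show PrimeSpectrum.vanishingIdeal (hU.fromSpec ⁻¹' closure {ξ}) = _
      have hpre : hU.fromSpec ⁻¹' {ξ} = {hU.primeIdealOf ⟨ξ, hξ⟩} := by
        ext q
        simp only [Set.mem_preimage, Set.mem_singleton_iff]
        exact ⟨fun e => hU.fromSpec.isEmbedding.injective (e.trans (hU.fromSpec_primeIdealOf ⟨ξ, hξ⟩).symm),
          fun e => e ▸ hU.fromSpec_primeIdealOf ⟨ξ, hξ⟩⟩
      have h3 : hU.fromSpec ⁻¹' closure {ξ} = closure {hU.primeIdealOf ⟨ξ, hξ⟩} :=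
        (hU.fromSpec.isOpenEmbedding.isOpenMap.preimage_closure_eq_closure_preimage hU.fromSpec.continuous _).trans
          (congrArg closure hpre)
      exact (congrArg (fun s : Set (PrimeSpectrum Γ(X, U)) => PrimeSpectrum.vanishingIdeal s) h3).trans
        ((PrimeSpectrum.vanishingIdeal_closure _).trans (PrimeSpectrum.vanishingIdeal_singleton _))
    have e2 : (hU.primeIdealOf ⟨ξ, hξ⟩).asIdeal = (genPrime h).asIdeal.comap (X.presheaf.germ U x hx).hom := by
      have hsp : ∀ r : Γ(X, U), X.presheaf.stalkSpecializes h (X.presheaf.germ U x hx r) = X.presheaf.germ U ξ hξ r :=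
        fun r => TopCat.Presheaf.germ_stalkSpecializes_apply X.presheaf hx h r
      ext r
      rw [hU.primeIdealOf_eq_map_closedPoint]
      show X.presheaf.germ U ξ hξ r ∈ maximalIdeal _ ↔ X.residue ξ (X.presheaf.stalkSpecializes h (X.presheaf.germ U x hx r)) = 0
      rw [hsp]
      exact (IsLocalRing.residue_eq_zero_iff _).symm
    show ((IntMult.ptIdeal ξ).ideal ⟨U, hU⟩).map _ = _
    rw [e1, e2]
    exact IsLocalization.map_comap (hU.primeIdealOf ⟨x, hx⟩).asIdeal.primeCompl (X.presheaf.stalk x) _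
  refine le_antisymm (iSup₂_le fun U hx => (key U hx).le) ?_
  obtain ⟨U, hU, hx, -⟩ := exists_isAffineOpen_mem_and_subset (show x ∈ (⊤ : X.Opens) from trivial)
  exact (key ⟨U, hU⟩ hx).ge.trans
    (le_iSup₂ (f := fun (U : X.affineOpens) (hx : x ∈ (U : X.Opens)) =>
      ((IntMult.ptIdeal ξ).ideal U).map (X.presheaf.germ U x hx).hom) ⟨U, hU⟩ hx)

variable {δ : X → ℤ}

theorem delta_le (hd : Cyc.IsDimFun X δ) {ξ x : X} (h : ξ ⤳ x) : δ x ≤ δ ξ := by
  by_cases e : ξ = x
  · rw [e]
  · exact (hd ξ x h e).1.le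

theorem eq_of_delta_le (hd : Cyc.IsDimFun X δ) {ξ x : X} (h : ξ ⤳ x) (hle : δ ξ ≤ δ x) : ξ = x := by
  by_contra e
  exact absurd (hd ξ x h e).1 (not_lt.2 hle)

theorem dim_genPrime (hd : Cyc.IsDimFun X δ) {ξ x : X} (h : ξ ⤳ x) :
    ringKrullDim (X.presheaf.stalk x ⧸ (genPrime h).asIdeal) = ((δ ξ - δ x).toNat : WithBot ℕ∞) :=
  UCat26.ringKrullDim_locQuot hd ξ x h

theorem dim_stalk [IsIntegral X] (hd : Cyc.IsDimFun X δ) (x : X) :
    ringKrullDim (X.presheaf.stalk x) = ((δ (genericPoint X) - δ x).toNat : WithBot ℕ∞) := by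
  rw [← dim_genPrime hd (genericPoint_specializes x), genPrime_eq_bot]
  exact (ringKrullDim_eq_of_ringEquiv (RingEquiv.quotientBot _)).symm

/-- Serre's vanishing for two subvarieties of too small dimension. -/
theorem chi_prime_eq_zero {K : Type u} [Field K] (f : X ⟶ Spec (CommRingCat.of K)) [Smooth f] [IsIntegral X]
    (hd : Cyc.IsDimFun X δ) {ζ : X} [IsRegularLocalRing (X.presheaf.stalk ζ)]
    {ξ η : X} (hξ : ξ ⤳ ζ) (hη : η ⤳ ζ)
    (hmeet : Meet (A := X.presheaf.stalk ζ) (X.presheaf.stalk ζ ⧸ (genPrime hξ).asIdeal)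
      (X.presheaf.stalk ζ ⧸ (genPrime hη).asIdeal))
    (hlt : δ ξ + δ η - δ (genericPoint X) < δ ζ) :
    IntMult.chi (X.presheaf.stalk ζ) (X.presheaf.stalk ζ ⧸ (genPrime hξ).asIdeal)
      (X.presheaf.stalk ζ ⧸ (genPrime hη).asIdeal) = 0 := by
  obtain ⟨V, hV, hxV, -⟩ := exists_isAffineOpen_mem_and_subset (show ζ ∈ (⊤ : X.Opens) from trivial)
  have h1 := f.smooth_appLE (isAffineOpen_top (Spec (CommRingCat.of K))) hV (le_top : V ≤ f ⁻¹ᵁ ⊤)
  let e := (Scheme.ΓSpecIso (CommRingCat.of K)).symm.commRingCatIsoToRingEquiv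
  have h2 : ((f.appLE ⊤ V le_top).hom.comp e.toRingHom).Smooth :=
    RingHom.Smooth.comp (RingHom.Smooth.of_bijective e.bijective) h1
  letI : Algebra K Γ(X, V) := ((f.appLE ⊤ V le_top).hom.comp e.toRingHom).toAlgebra
  haveI : Algebra.Smooth K Γ(X, V) := h2
  letI := X.presheaf.algebra_section_stalk (⟨ζ, hxV⟩ : V)
  haveI := hV.isLocalization_stalk ⟨ζ, hxV⟩
  have a1 := delta_le hd hξ
  have a2 := delta_le hd hη
  have a3 := delta_le hd (genericPoint_specializes ζ)
  refine chi_eq_zero_of_smooth (K := K) (R := Γ(X, V)) (hV.primeIdealOf ⟨ζ, hxV⟩).asIdeal _ _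
    (genPrime hη).2.ne_top (genPrime hξ).2.ne_top (dim_stalk hd ζ) (dim_genPrime hd hξ) (dim_genPrime hd hη)
    (by omega) fun p hp hp' => hmeet p ?_ ?_
  · rwa [Module.support_eq_zeroLocus, Ideal.annihilator_quotient]
  · rwa [Module.support_eq_zeroLocus, Ideal.annihilator_quotient]

end Groth.Agent.Diag27
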