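import Groth.Agent.Lib.Diag27.Apps
import Groth.Agent.S2428
import Groth.Agent.Lib.Cyc26.Length
import Groth.Agent.Lib.Cyc26.PullSheaf

/-!
# The Tor multiplicity under flat base change
-/

set_option autoImplicit false
set_option backward.isDefEq.respectTransparency.types false
set_option linter.style.haveILetI false

universe u

open CategoryTheory AlgebraicGeometry IsLocalRing TensorProduct Groth.Agent

noncomputable section

namespace Groth.Agent.Diag27

theorem chi_baseChange (A B : Type u) [CommRing A] [CommRing B] [IsLocalRing A] [IsLocalRing B] [Algebra A B]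
    [Module.Flat A B] [IsLocalHom (algebraMap A B)] (M N : Type u) [AddCommGroup M] [Module A M]
    [AddCommGroup N] [Module A N] :
    IntMult.chi B (B ⊗[A] M) (B ⊗[A] N) =
      IntMult.chi A M N * ((Module.length B (B ⧸ (maximalIdeal A).map (algebraMap A B))).toNat : ℤ) := by
  have e : Module.length B (B ⧸ (maximalIdeal A).map (algebraMap A B)) = Module.length B (B ⊗[A] (A ⧸ maximalIdeal A)) :=
    (Algebra.TensorProduct.quotIdealMapEquivTensorQuot B (maximalIdeal A)).toLinearEquiv.length_eq
  unfold IntMult.chi
  rw [finsum_mul]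
  refine finsum_congr fun i => ?_
  obtain ⟨φ⟩ := S2428.result A B M N i
  rw [← φ.length_eq, Cyc26.length_baseChange, e, ENat.toNat_mul]
  push_cast
  ring

/-- The multiplicity of the pulled back stalks. -/
theorem chi_pullback {X Y : Scheme.{u}} (f : X ⟶ Y) [Flat f] (F G : Y.Modules) (x : X) :
    IntMult.chi (X.presheaf.stalk x) (((Scheme.Modules.pullback f).obj F).presheaf.stalk x)
        (((Scheme.Modules.pullback f).obj G).presheaf.stalk x) =
      IntMult.chi (Y.presheaf.stalk (f x)) (F.presheaf.stalk (f x)) (G.presheaf.stalk (f x)) *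
        ((Module.length (X.presheaf.stalk x) (X.presheaf.stalk x ⧸ Ideal.map (f.stalkMap x).hom
          (IsLocalRing.maximalIdeal (Y.presheaf.stalk (f x))))).toNat : ℤ) := by
  letI : Algebra (Y.presheaf.stalk (f x)) (X.presheaf.stalk x) := (f.stalkMap x).hom.toAlgebra
  haveI : Module.Flat (Y.presheaf.stalk (f x)) (X.presheaf.stalk x) := (Flat.iff_flat_stalkMap f).1 inferInstance x
  haveI : IsLocalHom (algebraMap (Y.presheaf.stalk (f x)) (X.presheaf.stalk x)) :=
    inferInstanceAs (IsLocalHom (f.stalkMap x).hom)
  rw [← chi_congr (M2.pullStalkEquiv f x F), chi_comm, ← chi_congr (M2.pullStalkEquiv f x G), chi_comm]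
  exact chi_baseChange _ _ _ _

end Groth.Agent.Diag27
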