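import Groth.Agent.Lib.Diag27.Iter
import Groth.Agent.Lib.Diag27.BaseChange
import Groth.Agent.Lib.TorSymm3.Basic
import Groth.Agent.S3537

/-!
# Associativity of the local intersection multiplicity through the diagonal
-/

set_option autoImplicit false
set_option backward.isDefEq.respectTransparency false
set_option linter.style.haveILetI false

universe u

open CategoryTheory CategoryTheory.Limits TensorProduct IsLocalRing RingTheory.Sequence Pointwise Groth.Agent

noncomputable section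

namespace Groth.Agent.Diag27

/-- The multiplicity of a triple. -/
def Sig (A : Type u) [CommRing A] (t : ℕ) (p q r : Ideal A) : ℤ :=
  ∑ i ∈ Finset.range (t + 1), (-1 : ℤ) ^ i *
    IntMult.chi A ((TC (ModuleCat.of A (A ⧸ q)) (ModuleCat.of A (A ⧸ r))).homology i) (A ⧸ p)

variable {A B : Type u} [CommRing A] [CommRing B] [IsRegularLocalRing A] [IsRegularLocalRing B]

theorem exists_reduction [Algebra A B] (π : B →+* A) (ι₂ : A →+* B) (h1 : ∀ a, π (algebraMap A B a) = a)
    (h2 : ∀ a, π (ι₂ a) = a) (hf2 : ∀ J : Ideal A, ((Ideal.Quotient.mk (J.map (algebraMap A B))).comp ι₂).Flat)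
    (J : Ideal A) :
    ∃ σ : (B ⧸ J.map ι₂) →ₗ[A] A ⧸ J, Function.Surjective σ ∧
      LinearMap.ker σ = ((RingHom.ker π) • (⊤ : Submodule B (B ⧸ J.map ι₂))).restrictScalars A ∧
      ∀ j : ℕ, IsZero (((Tor (ModuleCat.{u} B) (j + 1)).obj (ModuleCat.of B (B ⧸ J.map ι₂))).obj
        (ModuleCat.of B (B ⧸ RingHom.ker π))) := by
  have hsurj : Function.Surjective π := fun a => ⟨_, h1 a⟩
  set Δ := RingHom.ker π
  let eΔ : (B ⧸ Δ) ≃+* A := RingHom.quotientKerEquivOfSurjective hsurj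
  let J₂ : Ideal B := J.map ι₂
  have hπle : ∀ {K : Ideal A}, K.map ι₂ ≤ K.comap π := fun {K} =>
    Ideal.map_le_iff_le_comap.2 fun x hx => by
      show π (ι₂ x) ∈ K
      rwa [h2]
  -- the reduction
  have hsec : ∀ x : B, ∃ y : A, x - algebraMap A B y ∈ Δ := fun x =>
    ⟨π x, by rw [RingHom.mem_ker, map_sub, h1, sub_self]⟩
  let σ : (B ⧸ J₂) →ₗ[A] A ⧸ J :=
    { toFun := Ideal.quotientMap J π hπle
      map_add' := map_add _
      map_smul' := fun y x => by
        rw [Algebra.smul_def, map_mul, RingHom.id_apply, Algebra.smul_def]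
        congr 1
        show Ideal.Quotient.mk J (π (algebraMap A B y)) = _
        rw [h1]
        rfl }
  have hσ : Function.Surjective σ := fun y => by
    obtain ⟨y, rfl⟩ := Ideal.Quotient.mk_surjective y
    exact ⟨Ideal.Quotient.mk J₂ (algebraMap A B y), congrArg (Ideal.Quotient.mk J) (h1 y)⟩
  have hk : LinearMap.ker σ = (Δ • (⊤ : Submodule B (B ⧸ J₂))).restrictScalars A := by
    apply le_antisymm
    · intro w hw
      obtain ⟨x, rfl⟩ := Ideal.Quotient.mk_surjective w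
      have hx : π x ∈ J := Ideal.Quotient.eq_zero_iff_mem.1 (hw : Ideal.Quotient.mk J (π x) = 0)
      rw [Submodule.restrictScalars_mem]
      have e : Ideal.Quotient.mk J₂ x = (x - ι₂ (π x)) • (1 : B ⧸ J₂) := by
        rw [Algebra.smul_def, mul_one, Ideal.Quotient.algebraMap_eq, map_sub,
          Ideal.Quotient.eq_zero_iff_mem.2 (Ideal.mem_map_of_mem ι₂ hx), sub_zero]
      rw [e]
      exact Submodule.smul_mem_smul (by rw [RingHom.mem_ker, map_sub, h2, sub_self]) trivial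
    · intro w hw
      rw [Submodule.restrictScalars_mem] at hw
      refine Submodule.smul_induction_on hw (fun x hx v _ => ?_) fun p q hp hq => add_mem hp hq
      obtain ⟨v, rfl⟩ := Ideal.Quotient.mk_surjective v
      show Ideal.Quotient.mk J (π (x * v)) = 0
      rw [map_mul, RingHom.mem_ker.1 hx, zero_mul, map_zero]
  have hW : ∀ j : ℕ, IsZero (((Tor (ModuleCat.{u} B) (j + 1)).obj (ModuleCat.of B (B ⧸ J₂))).obj
      (ModuleCat.of B (B ⧸ Δ))) := fun j => by
    have hι : ι₂.Flat := by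
      have h := RingHom.Flat.comp (hf2 ⊥) (g := (RingEquiv.quotientBot B).toRingHom.comp
        (Ideal.quotEquivOfEq (Ideal.map_bot (f := algebraMap A B))).toRingHom) (RingHom.Flat.of_bijective
          ((RingEquiv.quotientBot B).bijective.comp (Ideal.quotEquivOfEq _).bijective))
      have e : ((RingEquiv.quotientBot B).toRingHom.comp
        (Ideal.quotEquivOfEq (Ideal.map_bot (f := algebraMap A B))).toRingHom).comp
          ((Ideal.Quotient.mk _).comp ι₂) = ι₂ := RingHom.ext fun _ => rfl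
      rw [e] at h
      exact h
    letI := ι₂.toAlgebra
    haveI : Module.Flat A B := hι
    haveI : Module.Flat A (B ⧸ Δ) := by
      have h : (algebraMap A (B ⧸ Δ)) = eΔ.symm.toRingHom := RingHom.ext fun x => eΔ.injective (by
        simp only [RingEquiv.toRingHom_eq_coe, RingHom.coe_coe, RingEquiv.apply_symm_apply]
        exact h2 x)
      rw [← RingHom.flat_algebraMap_iff, h]
      exact RingHom.Flat.of_bijective eΔ.symm.bijective
    exact isZero_tor_baseChange Δ J j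
  exact ⟨σ, hσ, hk, hW⟩

theorem quot_smul_equiv (M : Ideal B) (K : Ideal B) :
    Nonempty (((B ⧸ M) ⧸ (K • ⊤ : Submodule B (B ⧸ M))) ≃ₗ[B] B ⧸ (M ⊔ K)) := by
  have hK : (K • ⊤ : Submodule B (B ⧸ M)) = Submodule.map (Submodule.mkQ M : B →ₗ[B] B ⧸ M) (M ⊔ K : Submodule B B) := by
    rw [Submodule.map_sup, Submodule.mkQ_map_self, bot_sup_eq]
    conv_rhs => rw [← mul_one K, Ideal.one_eq_top, ← smul_eq_mul]
    rw [Submodule.map_smul'', Submodule.map_top, Submodule.range_mkQ]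
  exact ⟨(Submodule.quotEquivOfEq _ _ hK).trans
    (Submodule.quotientQuotientEquivQuotient (M : Submodule B B) (M ⊔ K : Submodule B B) le_sup_left)⟩

/-- The triple multiplicity computed on the square. -/
theorem sig_eq (π : B →+* A) (κ ι₂ : A →+* B) (h1 : ∀ a, π (κ a) = a) (h2 : ∀ a, π (ι₂ a) = a)
    (hfκ : ∀ J : Ideal A, ((Ideal.Quotient.mk (J.map ι₂)).comp κ).Flat)
    (hfι : ∀ J : Ideal A, ((Ideal.Quotient.mk (J.map κ)).comp ι₂).Flat)
    (J I r : Ideal A) {t : ℕ} (ht : ringKrullDim A = t)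
    (hsupp : ∀ p : PrimeSpectrum A, J ≤ p.asIdeal → I ≤ p.asIdeal → r ≤ p.asIdeal → p.asIdeal = maximalIdeal A) :
    Sig A t J I r = IntMult.chi B (B ⧸ (J.map ι₂ ⊔ I.map κ)) (B ⧸ r.comap π) := by
  letI : Algebra A B := κ.toAlgebra
  have hsurj : Function.Surjective π := fun a => ⟨_, h1 a⟩
  have hf1 : ∀ J : Ideal A, Module.Flat A (B ⧸ J.map ι₂) := fun J => by
    have h := hfκ J
    have e : (Ideal.Quotient.mk (J.map ι₂)).comp κ = algebraMap A (B ⧸ J.map ι₂) := rfl
    rw [e] at h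
    exact RingHom.flat_algebraMap_iff.1 h
  obtain ⟨σ, hσ, hk, hW⟩ := exists_reduction π ι₂ h1 h2 hfι J
  set Δ := RingHom.ker π
  have hsec : ∀ x : B, ∃ y : A, x - algebraMap A B y ∈ Δ := fun x =>
    ⟨π x, by rw [RingHom.mem_ker, map_sub, show π (algebraMap A B (π x)) = π x from h1 _, sub_self]⟩
  let eΔ : (B ⧸ Δ) ≃+* A := RingHom.quotientKerEquivOfSurjective hsurj
  haveI : IsRegularLocalRing (B ⧸ Δ) := IsRegularLocalRing.of_ringEquiv eΔ.symm
  obtain ⟨c, g, hg, hreg⟩ := exists_regular_generators Δ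
  obtain ⟨β, hβ⟩ := RegLoc.exists_dim_eq_nat (R := B)
  set l := List.ofFn g
  have hl : Ideal.ofList l = Δ := by
    rw [hg, Ideal.ofList]
    congr 1
    ext x
    simp [l]
  have htβ : t ≤ β := by
    have h := ringKrullDim_add_length_eq_ringKrullDim_of_isRegular _ hreg
    rw [hl, List.length_ofFn, ringKrullDim_eq_of_ringEquiv eΔ, ht, hβ] at h
    have : t + c = β := by exact_mod_cast h
    omega
  haveI : Module.Flat A B := by
    haveI := hf1 ⊥
    exact Module.Flat.of_linearEquiv (M := B ⧸ (⊥ : Ideal A).map ι₂)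
      (((Submodule.quotEquivOfEqBot _ Ideal.map_bot).restrictScalars A).symm)
  haveI : Module.Flat A (B ⧸ Δ) := by
    have h : (algebraMap A (B ⧸ Δ)) = eΔ.symm.toRingHom := RingHom.ext fun x => eΔ.injective (by
      simp only [RingEquiv.toRingHom_eq_coe, RingHom.coe_coe, RingEquiv.apply_symm_apply]
      exact h1 x)
    rw [← RingHom.flat_algebraMap_iff, h]
    exact RingHom.Flat.of_bijective eΔ.symm.bijective
  haveI hCflat : Module.Flat A (B ⧸ J.map ι₂) := hf1 J
  let r' : Ideal B := r.map (algebraMap A B)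
  have hmem : ∀ y ∈ l, y ∈ maximalIdeal B := fun y hy =>
    le_maximalIdeal (RingHom.ker_ne_top π) (hl.le (Ideal.subset_span hy))
  have hExB : CI2.Ex B B l := CI2.ex_of_isWeaklyRegular l B hreg.toIsWeaklyRegular
  have hExQ : CI2.Ex B (B ⧸ r') l := (CI2.forall_isZero_tor_iff_ex hExB (B ⧸ r')).1 fun i hi => by
    obtain ⟨j, rfl⟩ : ∃ j, i = j + 1 := ⟨i - 1, by omega⟩
    rw [TorSymm3.isZero_tor_comm, hl]
    exact isZero_tor_baseChange Δ r j
  have hgB := isWeaklyRegular_reverse B l hmem hExB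
  have hgQ := isWeaklyRegular_reverse (B ⧸ r') l hmem hExQ
  have hrev : Ideal.ofList l.reverse = Δ := by rw [← hl]; simp [Ideal.ofList]
  obtain ⟨eX, -⟩ := exists_equiv_tensor_quot (A := A) (J.map ι₂) I
  obtain ⟨eQ⟩ := quot_smul_equiv r' (Ideal.ofList l.reverse)
  let X := (B ⧸ J.map ι₂) ⊗[A] (A ⧸ I)
  haveI : Module.Finite B X := Module.Finite.equiv eX.symm
  have hK := sum_chi hβ l.reverse hgB X (B ⧸ r') hgQ ?_
  swap
  · rintro p ⟨⟨hpX, hpQ⟩, hpg⟩
    rw [eX.support_eq, Module.support_eq_zeroLocus, Ideal.annihilator_quotient] at hpX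
    rw [Module.support_eq_zeroLocus, Ideal.annihilator_quotient] at hpQ
    have hΔ : Δ ≤ p.asIdeal := hrev ▸ Ideal.span_le.2 hpg
    haveI : (p.asIdeal.map π).IsPrime := Ideal.map_isPrime_of_surjective hsurj hΔ
    have hJp : J ≤ p.asIdeal.map π := fun x hx => h2 x ▸ Ideal.mem_map_of_mem π
      (hpX (le_sup_left (b := I.map (algebraMap A B)) (Ideal.mem_map_of_mem ι₂ hx)))
    have hIp : I ≤ p.asIdeal.map π := fun x hx => h1 x ▸ Ideal.mem_map_of_mem π
      (hpX (le_sup_right (a := J.map ι₂) (Ideal.mem_map_of_mem (algebraMap A B) hx)))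
    have hrp : r ≤ p.asIdeal.map π := fun x hx => h1 x ▸ Ideal.mem_map_of_mem π
      (hpQ (Ideal.mem_map_of_mem (algebraMap A B) hx))
    have h := hsupp ⟨_, ‹_›⟩ hJp hIp hrp
    have hc' : p.asIdeal = (maximalIdeal A).comap π := by
      refine Eq.trans ?_ (congrArg (Ideal.comap π) h)
      show p.asIdeal = (p.asIdeal.map π).comap π
      rw [Ideal.comap_map_of_surjective π hsurj]
      exact (sup_eq_left.2 hΔ).symm
    show p.asIdeal = _
    rw [hc']
    haveI : IsLocalHom π := IsLocalHom.of_surjective π hsurj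
    exact ((local_hom_TFAE π).out 0 4).1 ‹_›
  have hsup : r' ⊔ Ideal.ofList l.reverse = r.comap π := by
    rw [hrev]
    refine le_antisymm (sup_le (Ideal.map_le_iff_le_comap.2 fun x hx => ?_) fun x hx => ?_) fun x hx => ?_
    · show π (κ x) ∈ r
      rwa [h1]
    · show π x ∈ r
      rw [RingHom.mem_ker.1 hx]
      exact r.zero_mem
    · have : x = algebraMap A B (π x) + (x - algebraMap A B (π x)) := by ring
      rw [this]
      refine Submodule.add_mem_sup (Ideal.mem_map_of_mem _ hx) ?_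
      rw [RingHom.mem_ker, map_sub, show π (algebraMap A B (π x)) = π x from h1 _, sub_self]
  rw [chi_comm, chi_congr eX, chi_comm,
    chi_congr (eQ.trans (Submodule.quotEquivOfEq _ (r.comap π) hsup))] at hK
  rw [chi_comm (B ⧸ (J.map ι₂ ⊔ I.map κ))]
  refine Eq.trans ?_ hK
  let C := B ⧸ J.map ι₂
  haveI hfin : ∀ i, Module.Finite A ((TC (ModuleCat.of A (A ⧸ I)) (ModuleCat.of A (A ⧸ r))).homology i) :=
    fun i => finite_homology (A ⧸ I) i (A ⧸ r)
  let T := fun i => (TC (ModuleCat.of A (A ⧸ I)) (ModuleCat.of A (A ⧸ r))).homology i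
  have hP : ∀ q : ℕ, 0 < q → Subsingleton (DRing.Tor B q (B ⧸ r') C) := fun q hq => by
    obtain ⟨j, rfl⟩ : ∃ j, q = j + 1 := ⟨q - 1, by omega⟩
    exact ModuleCat.subsingleton_of_isZero (isZero_tor_baseChange (J.map ι₂) r j)
  let eP : C ⊗[B] (B ⧸ r') ≃ₗ[C] C ⊗[A] (A ⧸ r) :=
    (TensorProduct.AlgebraTensorModule.congr (LinearEquiv.refl C C)
      ((Submodule.quotEquivOfEq r' (r.map (algebraMap A B) • ⊤ : Submodule B B)
        (by rw [Ideal.smul_eq_mul, Ideal.mul_top])).trans (FlatDepth.tensorQuotEquiv B r).symm)).trans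
      (TensorProduct.AlgebraTensorModule.cancelBaseChange A B C C (A ⧸ r))
  have hiso : ∀ i, Nonempty ((C ⊗[A] T i) ≃ₗ[B] (TC (ModuleCat.of B X) (ModuleCat.of B (B ⧸ r'))).homology i) := by
    intro i
    obtain ⟨φ, hφ⟩ := S3537.result B C (B ⧸ r') X hP i
    obtain ⟨ψ⟩ := S2428.result A C (A ⧸ r) (A ⧸ I) i
    let χ : DRing.Tor C i (C ⊗[B] (B ⧸ r')) X ≃ₗ[C] DRing.Tor C i (C ⊗[A] (A ⧸ r)) X :=
      (((Tor (ModuleCat.{u} C) i).mapIso eP.toModuleIso).app (ModuleCat.of C X)).toLinearEquiv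
    let τ : T i ≃ₗ[A] DRing.Tor A i (A ⧸ r) (A ⧸ I) :=
      (TorBal27.torIso i (ModuleCat.of A (A ⧸ r)) (ModuleCat.of A (A ⧸ I))).toLinearEquiv.symm
    let χ' : DRing.Tor C i (C ⊗[B] (B ⧸ r')) X ≃ₗ[C] C ⊗[A] T i :=
      χ.trans (ψ.symm.trans (TensorProduct.AlgebraTensorModule.congr (LinearEquiv.refl C C) τ.symm))
    let Φ : DRing.Tor B i (B ⧸ r') X →ₗ[B] C ⊗[A] T i :=
      { toFun := fun y => χ' (φ y)
        map_add' := fun a b => by rw [map_add, map_add]
        map_smul' := fun b y => by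
          rw [RingHom.id_apply, map_smulₛₗ, map_smul, algebraMap_smul] }
    let eΦ := LinearEquiv.ofBijective Φ (χ'.bijective.comp hφ)
    exact ⟨eΦ.symm.trans (TorBal27.torIso i (ModuleCat.of B (B ⧸ r')) (ModuleCat.of B X)).toLinearEquiv⟩
  have hterm : ∀ i, IntMult.chi A (T i) (A ⧸ J) = IntMult.chi B
      ((TC (ModuleCat.of B X) (ModuleCat.of B (B ⧸ r'))).homology i) (B ⧸ Ideal.ofList l.reverse) := fun i => by
    obtain ⟨e⟩ := hiso i
    rw [← chi_congr e, chi_comm (C ⊗[A] T i), chi_congr (Submodule.quotEquivOfEq _ _ hrev), chi_comm (B ⧸ Δ)]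
    exact (chi_reduce hsec σ hσ hk hW (T i)).symm
  unfold Sig
  rw [Finset.sum_subset (Finset.range_subset_range.2 (by omega : t + 1 ≤ β + 1))]
  · exact Finset.sum_congr rfl fun i _ => congrArg ((-1 : ℤ) ^ i * ·) (hterm i)
  · intro i _ hi
    rw [Finset.mem_range, not_lt] at hi
    haveI : Subsingleton (T i) := (chi_eq_sum ht (A ⧸ r) (A ⧸ I)).1 i hi
    rw [chi_eq_zero_of_subsingleton, mul_zero]

/-- The triple multiplicity is symmetric in the first two entries. -/
theorem sig_swap (π : B →+* A) (κ ι₂ : A →+* B) (h1 : ∀ a, π (κ a) = a) (h2 : ∀ a, π (ι₂ a) = a)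
    (hfκ : ∀ J : Ideal A, ((Ideal.Quotient.mk (J.map ι₂)).comp κ).Flat)
    (hfι : ∀ J : Ideal A, ((Ideal.Quotient.mk (J.map κ)).comp ι₂).Flat)
    (p q r : Ideal A) {t : ℕ} (ht : ringKrullDim A = t)
    (hsupp : ∀ x : PrimeSpectrum A, p ≤ x.asIdeal → q ≤ x.asIdeal → r ≤ x.asIdeal → x.asIdeal = maximalIdeal A) :
    Sig A t p q r = Sig A t q p r := by
  rw [sig_eq π κ ι₂ h1 h2 hfκ hfι p q r ht hsupp,
    sig_eq π ι₂ κ h2 h1 hfι hfκ q p r ht (fun x a b c => hsupp x b a c),
    sup_comm]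

/-- The triple multiplicity is symmetric in the last two entries. -/
theorem sig_comm (t : ℕ) (p q r : Ideal A) : Sig A t p q r = Sig A t p r q := by
  refine Finset.sum_congr rfl fun i _ => ?_
  obtain ⟨e⟩ := TorBal27.nonempty_tor_iso_flip (R := A) i
  refine congrArg ((-1 : ℤ) ^ i * ·) (chi_congr ?_)
  exact ((TorBal27.torIso i (ModuleCat.of A (A ⧸ r)) (ModuleCat.of A (A ⧸ q))).symm ≪≫
    (e.app (ModuleCat.of A (A ⧸ r))).app (ModuleCat.of A (A ⧸ q)) ≪≫
      TorBal27.torIso i (ModuleCat.of A (A ⧸ q)) (ModuleCat.of A (A ⧸ r))).toLinearEquiv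

end Groth.Agent.Diag27
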