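import Groth.Agent.Lib.Diag27.Assoc
import Groth.Agent.Lib.Diag27.Apps
import Groth.Agent.Lib.Cyc26.PullDiv
import Groth.Agent.Lib.SmoothReg17.Basic
import Mathlib.RingTheory.Localization.BaseChange

/-!
# Triple intersection products on a smooth variety
-/

set_option autoImplicit false
set_option backward.isDefEq.respectTransparency.types false
set_option linter.style.haveILetI false

universe u

open CategoryTheory AlgebraicGeometry IsLocalRing TensorProduct Groth.Agent Groth.Agent.Herbrand26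

noncomputable section

namespace Groth.Agent.Diag27

/-- Symmetry of the triple multiplicity over localisations of smooth algebras over a field. -/
theorem sig_cycle_of_smooth {K R : Type u} [Field K] [CommRing R] [Algebra K R] [Algebra.Smooth K R]
    {A : Type u} [CommRing A] [IsRegularLocalRing A] [Algebra R A] (P : Ideal R) [P.IsPrime]
    [IsLocalization.AtPrime A P] (p q r : Ideal A) {t : ℕ} (ht : ringKrullDim A = t)
    (hsupp : ∀ x : PrimeSpectrum A, p ≤ x.asIdeal → q ≤ x.asIdeal → r ≤ x.asIdeal → x.asIdeal = maximalIdeal A) :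
    Sig A t p q r = Sig A t r p q := by
  let μ : R ⊗[K] R →+* R := (Algebra.TensorProduct.lmul' K : R ⊗[K] R →ₐ[K] R).toRingHom
  let u : R →+* R ⊗[K] R := Algebra.TensorProduct.includeLeftRingHom
  let v : R →+* R ⊗[K] R := (Algebra.TensorProduct.includeRight : R →ₐ[K] R ⊗[K] R).toRingHom
  have hμu : ∀ x, μ (u x) = x := fun x => by simp [μ, u]
  have hμv : ∀ x, μ (v x) = x := fun x => by simp [μ, v]
  haveI : Algebra.Smooth R (R ⊗[K] R) := inferInstance
  haveI : Algebra.Smooth K (R ⊗[K] R) := Algebra.Smooth.comp K R (R ⊗[K] R)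
  let Q := P.comap μ
  let B := Localization.AtPrime Q
  haveI : IsRegularLocalRing B :=
    SmoothReg17.isRegularLocalRing_of_smooth (algebraMap K (R ⊗[K] R)) (RingHom.smooth_algebraMap.2 inferInstance) Q
  have hlift : ∀ w : R →+* R ⊗[K] R, (∀ x, μ (w x) = x) → ∀ s : P.primeCompl,
      IsUnit (((algebraMap (R ⊗[K] R) B).comp w) s) := fun w hw s =>
    IsLocalization.map_units B (⟨w s, fun h : μ (w s) ∈ P => s.2 (hw s ▸ h)⟩ : Q.primeCompl)
  let κ : A →+* B := IsLocalization.lift (M := P.primeCompl) (S := A) (hlift u hμu)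
  let π : B →+* A := IsLocalization.lift (M := Q.primeCompl) (S := B) (g := (algebraMap R A).comp μ)
    fun s => IsLocalization.map_units A (⟨μ s, s.2⟩ : P.primeCompl)
  let ι₂ : A →+* B := IsLocalization.lift (M := P.primeCompl) (S := A) (hlift v hμv)
  have hι : κ.comp (algebraMap R A) = (algebraMap (R ⊗[K] R) B).comp u := IsLocalization.lift_comp _
  have hκ : ι₂.comp (algebraMap R A) = (algebraMap (R ⊗[K] R) B).comp v := IsLocalization.lift_comp _
  have hsec : ∀ (w : R →+* R ⊗[K] R) (j : A →+* B), (∀ x, μ (w x) = x) →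
      j.comp (algebraMap R A) = (algebraMap (R ⊗[K] R) B).comp w → ∀ y, π (j y) = y := fun w j hw hj y =>
    RingHom.congr_fun (IsLocalization.ringHom_ext P.primeCompl (j := π.comp j) (k := RingHom.id A) (by
      rw [RingHom.comp_assoc, hj, ← RingHom.comp_assoc, IsLocalization.lift_comp]
      exact RingHom.ext fun x => congrArg (algebraMap R A) (hw x))) y
  rw [sig_comm t p q r, sig_swap π κ ι₂ (hsec u _ hμu hι) (hsec v _ hμv hκ)
    (fun J => flat_quot_localization P.primeCompl Q.primeCompl u v (fun J'' => flat_prod_left J'') κ ι₂ hι hκ J)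
    (fun J => flat_quot_localization P.primeCompl Q.primeCompl v u (fun J'' => flat_prod_right J'') ι₂ κ hκ hι J)
    p r q ht
    fun x a b c => hsupp x a c b]

theorem locLen_eq_length_baseChange {A : Type u} [CommRing A] (p : PrimeSpectrum A) (L : Type u) [CommRing L]
    [Algebra A L] [IsLocalization.AtPrime L p.asIdeal] (T : Type u) [AddCommGroup T] [Module A T] :
    locLen p T = Module.length L (L ⊗[A] T) := by
  let σ : Localization.AtPrime p.asIdeal ≃ₐ[A] L := IsLocalization.algEquiv p.asIdeal.primeCompl _ _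
  let e := IsLocalizedModule.iso p.asIdeal.primeCompl (TensorProduct.mk A L T 1)
  refine Cyc26.length_eq_of_semilinear σ.toRingEquiv.toRingHom σ.surjective e.toAddEquiv fun r m => ?_
  obtain ⟨⟨a, s⟩, hs⟩ := IsLocalization.surj p.asIdeal.primeCompl r
  have hu : IsUnit (algebraMap A L s) := IsLocalization.map_units _ s
  refine hu.smul_left_cancel.1 ?_
  show algebraMap A L (s : A) • e (r • m) = algebraMap A L (s : A) • σ r • e m
  rw [algebraMap_smul, ← e.map_smul, ← algebraMap_smul (Localization.AtPrime p.asIdeal) (s : A) (r • m),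
    ← mul_smul, ← mul_smul, mul_comm _ r, hs, algebraMap_smul, e.map_smul,
    ← algebraMap_smul L a (e m), ← σ.commutes s, ← map_mul, mul_comm _ r, hs, σ.commutes]

variable {X : Scheme.{u}} {δ : X → ℤ}

/-- The multiplicity at a generalisation, from the torsion groups below. -/
theorem mult_eq_sum_locLen {ζ η ξV ξW : X} [IsRegularLocalRing (X.presheaf.stalk ζ)] {t : ℕ}
    (ht : ringKrullDim (X.presheaf.stalk ζ) = t) (hη : η ⤳ ζ) (hV : ξV ⤳ η) (hW : ξW ⤳ η) :
    IntMult.mult (IntMult.ptIdeal ξV) (IntMult.ptIdeal ξW) η = ∑ i ∈ Finset.range (t + 1), (-1 : ℤ) ^ i *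
      ((locLen (genPrime hη) ((TC (ModuleCat.of (X.presheaf.stalk ζ) (X.presheaf.stalk ζ ⧸ (genPrime (hV.trans hη)).asIdeal))
        (ModuleCat.of (X.presheaf.stalk ζ) (X.presheaf.stalk ζ ⧸ (genPrime (hW.trans hη)).asIdeal))).homology i)).toNat : ℤ) := by
  let A := X.presheaf.stalk ζ
  let L := X.presheaf.stalk η
  letI : Algebra A L := (X.presheaf.stalkSpecializes hη).hom.toAlgebra
  haveI hloc : IsLocalization.AtPrime L (genPrime hη).asIdeal := Cyc26.isLocalization_stalkSpecializes hη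
  haveI : Module.Flat A L := IsLocalization.flat L (genPrime hη).asIdeal.primeCompl
  have hmap : ∀ {ξ : X} (h : ξ ⤳ η), (genPrime (h.trans hη)).asIdeal.map (algebraMap A L) = (genPrime h).asIdeal := by
    intro ξ h
    have e : (genPrime (h.trans hη)).asIdeal = (genPrime h).asIdeal.comap (algebraMap A L) := by
      show RingHom.ker ((X.presheaf.stalkSpecializes (h.trans hη) ≫ X.residue ξ).hom) = _
      rw [← X.presheaf.stalkSpecializes_comp h hη, Category.assoc]
      rfl
    rw [e]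
    exact IsLocalization.map_comap (genPrime hη).asIdeal.primeCompl L _
  have eq1 : ∀ {ξ : X} (h : ξ ⤳ η), Nonempty ((L ⊗[A] (A ⧸ (genPrime (h.trans hη)).asIdeal)) ≃ₗ[L] L ⧸ (genPrime h).asIdeal) :=
    fun {ξ} h => ⟨(FlatDepth.tensorQuotEquiv L _).trans
      (Submodule.quotEquivOfEq _ _ (by rw [Ideal.smul_eq_mul, Ideal.mul_top, hmap h]))⟩
  obtain ⟨eV⟩ := eq1 hV
  obtain ⟨eW⟩ := eq1 hW
  unfold IntMult.mult
  rw [stalkIdeal_ptIdeal hV, stalkIdeal_ptIdeal hW, ← chi_congr eW, chi_comm, ← chi_congr eV, chi_comm]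
  unfold IntMult.chi
  have hlen : ∀ i, Module.length L (DRing.Tor L i (L ⊗[A] (A ⧸ (genPrime (hW.trans hη)).asIdeal))
      (L ⊗[A] (A ⧸ (genPrime (hV.trans hη)).asIdeal))) = locLen (genPrime hη)
        ((TC (ModuleCat.of A (A ⧸ (genPrime (hV.trans hη)).asIdeal))
          (ModuleCat.of A (A ⧸ (genPrime (hW.trans hη)).asIdeal))).homology i) := fun i => by
    obtain ⟨φ⟩ := S2428.result A L (A ⧸ (genPrime (hW.trans hη)).asIdeal) (A ⧸ (genPrime (hV.trans hη)).asIdeal) i
    rw [← φ.length_eq, locLen_eq_length_baseChange (genPrime hη) L]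
    exact (TensorProduct.AlgebraTensorModule.congr (LinearEquiv.refl L L)
      (TorBal27.torIso i (ModuleCat.of A _) (ModuleCat.of A _)).toLinearEquiv).length_eq
  simp only [hlen]
  refine finsum_eq_sum_of_support_subset _ fun n hn => ?_
  rw [Finset.coe_range, Set.mem_Iio]
  by_contra hlt
  haveI : Subsingleton ((TC (ModuleCat.of A (A ⧸ (genPrime (hV.trans hη)).asIdeal))
      (ModuleCat.of A (A ⧸ (genPrime (hW.trans hη)).asIdeal))).homology n) :=
    (chi_eq_sum ht (A ⧸ (genPrime (hW.trans hη)).asIdeal) (A ⧸ (genPrime (hV.trans hη)).asIdeal)).1 n (by omega)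
  exact hn (by dsimp only; rw [locLen_eq_zero (by simp [Module.support_eq_empty_iff.2])]; simp)

open Classical in
theorem interProd_indicator (n : ℤ) (ξV ξW η : X) :
    IntMult.interProd δ n (Set.indicator {ξV} 1) (Set.indicator {ξW} 1) η =
      if ξV ⤳ η ∧ ξW ⤳ η ∧ δ ξV + δ ξW - n = δ η then IntMult.mult (IntMult.ptIdeal ξV) (IntMult.ptIdeal ξW) η else 0 := by
  unfold IntMult.interProd
  split_ifs with h
  · rw [finsum_eq_single _ (⟨(ξV, ξW), h⟩ : {p : X × X // p.1 ⤳ η ∧ p.2 ⤳ η ∧ δ p.1 + δ p.2 - n = δ η})]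
    · simp
    · rintro ⟨⟨a, b⟩, hp⟩ hne
      by_contra hc
      have ha := Set.mem_of_indicator_ne_zero (left_ne_zero_of_mul (left_ne_zero_of_mul hc))
      have hb := Set.mem_of_indicator_ne_zero (right_ne_zero_of_mul (left_ne_zero_of_mul hc))
      exact hne (Subtype.ext (Prod.ext ha hb))
  · refine finsum_eq_zero_of_forall_eq_zero fun p => ?_
    by_contra hc
    have ha : p.1.1 = ξV := Set.mem_singleton_iff.1 <| Set.mem_of_indicator_ne_zero (left_ne_zero_of_mul (left_ne_zero_of_mul hc))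
    have hb : p.1.2 = ξW := Set.mem_singleton_iff.1 <| Set.mem_of_indicator_ne_zero (right_ne_zero_of_mul (left_ne_zero_of_mul hc))
    have := p.2
    rw [ha, hb] at this
    exact h this

theorem mult_comm (ξ η : X) (z : X) :
    IntMult.mult (IntMult.ptIdeal ξ) (IntMult.ptIdeal η) z = IntMult.mult (IntMult.ptIdeal η) (IntMult.ptIdeal ξ) z :=
  chi_comm _ _

theorem interProd_comm (n : ℤ) (α β : X → ℤ) : IntMult.interProd δ n α β = IntMult.interProd δ n β α := by
  funext ζ
  refine finsum_eq_of_bijective (fun p => ⟨(p.1.2, p.1.1), p.2.2.1, p.2.1, by rw [add_comm]; exact p.2.2.2⟩)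
    ⟨fun p q e => Subtype.ext (Prod.ext (congrArg (fun z => z.1.2) e) (congrArg (fun z => z.1.1) e)),
      fun p => ⟨⟨(p.1.2, p.1.1), p.2.2.1, p.2.1, by rw [add_comm]; exact p.2.2.2⟩, rfl⟩⟩ fun p => ?_
  rw [mult_comm, mul_comm (α p.1.1)]

/-- The product of a subvariety with the product of two others, at a point of expected dimension. -/
theorem interProd_triple_local {K : Type u} [Field K] (f : X ⟶ Spec (CommRingCat.of K)) [Smooth f] [IsIntegral X]
    (hd : Cyc.IsDimFun X δ) {n : ℤ} (hn : δ (genericPoint X) = n) {ξU ξV ξW ζ : X}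
    [IsRegularLocalRing (X.presheaf.stalk ζ)] (hU : ξU ⤳ ζ) (hV : ξV ⤳ ζ) (hW : ξW ⤳ ζ)
    (hζ : δ ζ = δ ξU + δ ξV + δ ξW - 2 * n)
    (hVW : ∀ η : X, η ⤳ ζ → ξV ⤳ η → ξW ⤳ η → δ η ≤ δ ξV + δ ξW - n)
    (hUVW : ∀ η : X, η ⤳ ζ → ξU ⤳ η → ξV ⤳ η → ξW ⤳ η → δ η ≤ δ ξU + δ ξV + δ ξW - 2 * n) :
    IntMult.interProd δ n (Set.indicator {ξU} 1)
        (IntMult.interProd δ n (Set.indicator {ξV} 1) (Set.indicator {ξW} 1)) ζ =
      Sig (X.presheaf.stalk ζ) (n - δ ζ).toNat (genPrime hU).asIdeal (genPrime hV).asIdeal (genPrime hW).asIdeal := by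
  classical
  let A := X.presheaf.stalk ζ
  let t := (n - δ ζ).toNat
  have ht : ringKrullDim A = t := by rw [dim_stalk hd ζ, hn]
  have hUn := delta_le hd (genericPoint_specializes ξU)
  have hUζ := delta_le hd hU
  rw [hn] at hUn
  let b := (δ ξV + δ ξW - n - δ ζ).toNat
  let pU := genPrime hU
  let M0 := A ⧸ ((genPrime hV).asIdeal ⊔ (genPrime hW).asIdeal)
  let P : PrimeSpectrum A → X := fun p => X.fromSpecStalk ζ p
  have hP : ∀ p, P p ⤳ ζ := fun p => fromSpecStalk_specializes ζ p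
  have hgP : ∀ p, genPrime (hP p) = p := fun p => genPrime_fromSpecStalk p (hP p)
  have hspec : ∀ {ξ : X} (h : ξ ⤳ ζ) (p : PrimeSpectrum A), (genPrime h).asIdeal ≤ p.asIdeal → ξ ⤳ P p := by
    intro ξ h p hp
    have h2 := ((PrimeSpectrum.le_iff_specializes (genPrime h) p).1 hp).map (X.fromSpecStalk ζ).continuous
    rwa [fromSpecStalk_genPrime] at h2
  have hle : ∀ {ξ : X} (h : ξ ⤳ ζ) (p : PrimeSpectrum A), ξ ⤳ P p → (genPrime h).asIdeal ≤ p.asIdeal := by
    intro ξ h p hp
    refine (PrimeSpectrum.asIdeal_le_asIdeal _ _).2 ((PrimeSpectrum.le_iff_specializes _ _).2 ?_)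
    refine (X.fromSpecStalk ζ).isEmbedding.isInducing.specializes_iff.1 ?_
    rw [fromSpecStalk_genPrime]
    exact hp
  have hM0 : ∀ p, p ∈ Module.support A M0 ↔ (genPrime hV).asIdeal ≤ p.asIdeal ∧ (genPrime hW).asIdeal ≤ p.asIdeal := by
    intro p
    rw [Module.support_eq_zeroLocus, Ideal.annihilator_quotient, PrimeSpectrum.mem_zeroLocus, SetLike.coe_subset_coe]
    exact sup_le_iff
  have hdim : ∀ p : PrimeSpectrum A, ringKrullDim (A ⧸ p.asIdeal) = ((δ (P p) - δ ζ).toNat : WithBot ℕ∞) := fun p => by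
    have h := dim_genPrime hd (hP p)
    rwa [hgP p] at h
  have hM0b : Module.supportDim A M0 ≤ b := supportDim_le_of_forall fun p hp => by
    rw [hdim p]
    have := hVW _ (hP p) (hspec hV p ((hM0 p).1 hp).1) (hspec hW p ((hM0 p).1 hp).2)
    exact_mod_cast (show (δ (P p) - δ ζ).toNat ≤ b by omega)
  let E := (finite_top M0 hM0b).toFinset
  have hE : ∀ p, p ∈ E ↔ δ (P p) = δ ξV + δ ξW - n ∧ ξV ⤳ P p ∧ ξW ⤳ P p := by
    intro p
    simp only [E, Set.Finite.mem_toFinset, Set.mem_setOf_eq, hM0, hdim p]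
    have := delta_le hd (hP p)
    constructor
    · rintro ⟨h1, h2, h3⟩
      have h1' : (δ (P p) - δ ζ).toNat = b := by exact_mod_cast h1
      exact ⟨by omega, hspec hV p h2, hspec hW p h3⟩
    · rintro ⟨h1, h2, h3⟩
      exact ⟨by rw [h1], hle hV p h2, hle hW p h3⟩
  have hmax : ∀ p : PrimeSpectrum A, pU.asIdeal ≤ p.asIdeal → (genPrime hV).asIdeal ≤ p.asIdeal →
      (genPrime hW).asIdeal ≤ p.asIdeal → p.asIdeal = maximalIdeal A := by
    intro p h1 h2 h3
    have h := hUVW _ (hP p) (hspec hU p h1) (hspec hV p h2) (hspec hW p h3)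
    have e := eq_of_delta_le hd (hP p) (by omega)
    rw [← hgP p, genPrime_congr e (hP p) (specializes_refl ζ), genPrime_refl]
  -- the left side as a sum over the top primes
  let Ψ : PrimeSpectrum A → ℤ := fun q => if q ∈ E then
    IntMult.mult (IntMult.ptIdeal ξV) (IntMult.ptIdeal ξW) (P q) * IntMult.chi A (A ⧸ q.asIdeal) (A ⧸ pU.asIdeal) else 0
  set γ := IntMult.interProd δ n (Set.indicator {ξV} 1) (Set.indicator {ξW} 1) with hγ
  have hLHS : IntMult.interProd δ n (Set.indicator {ξU} 1)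
      γ ζ = ∑ q ∈ E, Ψ q := by
    unfold IntMult.interProd
    let g : {p : X × X // p.1 ⤳ ζ ∧ p.2 ⤳ ζ ∧ δ p.1 + δ p.2 - n = δ ζ} → PrimeSpectrum A × PrimeSpectrum A :=
      fun p => (genPrime p.2.1, genPrime p.2.2.1)
    have hg : Function.Injective g := fun p q e =>
      Subtype.ext (Prod.ext (genPrime_injective p.2.1 q.2.1 (congrArg Prod.fst e))
        (genPrime_injective p.2.2.1 q.2.2.1 (congrArg Prod.snd e)))
    have hterm : ∀ p, Set.indicator {ξU} (1 : X → ℤ) p.1.1 *
        γ p.1.2 *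
        IntMult.mult (IntMult.ptIdeal p.1.1) (IntMult.ptIdeal p.1.2) ζ =
        (fun y => if y.1 = pU then Ψ y.2 else 0) (g p) := by
      rintro ⟨⟨ξ, η⟩, h1, h2, h3⟩
      simp only [g]
      by_cases hξ : ξ = ξU
      · subst hξ
        rw [if_pos rfl, Set.indicator_of_mem (Set.mem_singleton ξ), Pi.one_apply, one_mul, hγ, interProd_indicator]
        have e : P (genPrime h2) = η := fromSpecStalk_genPrime h2
        simp only [Ψ, hE, e]
        by_cases hc : ξV ⤳ η ∧ ξW ⤳ η ∧ δ ξV + δ ξW - n = δ η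
        · rw [if_pos hc, if_pos ⟨hc.2.2.symm, hc.1, hc.2.1⟩]
          unfold IntMult.mult
          rw [stalkIdeal_ptIdeal h1, stalkIdeal_ptIdeal h2]
        · rw [if_neg hc, zero_mul, if_neg fun h => hc ⟨h.2.1, h.2.2, h.1.symm⟩]
      · rw [if_neg fun e => hξ (genPrime_injective h1 hU e), Set.indicator_of_notMem (by simpa using hξ), zero_mul, zero_mul]
    rw [finsum_congr hterm]
    refine (finsum_mem_range (f := fun y => if y.1 = pU then Ψ y.2 else 0) hg).symm.trans ?_
    rw [finsum_mem_eq_sum_of_subset _ (t := {pU} ×ˢ E), Finset.sum_product, Finset.sum_singleton]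
    · exact Finset.sum_congr rfl fun q _ => if_pos rfl
    · rintro y ⟨-, hy⟩
      simp only [Function.mem_support, Ψ] at hy
      split_ifs at hy with h h'
      · exact Finset.mem_product.2 ⟨Finset.mem_singleton.2 h, h'⟩
      · exact absurd rfl hy
      · exact absurd rfl hy
    · rintro ⟨x, q⟩ hy
      rw [Finset.mem_coe, Finset.mem_product, Finset.mem_singleton] at hy
      obtain ⟨rfl, hq⟩ := hy
      refine ⟨⟨(ξU, P q), hU, hP q, ?_⟩, Prod.ext rfl (hgP q)⟩
      show δ ξU + δ (P q) - n = δ ζ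
      rw [((hE q).1 hq).1, hζ]
      ring
  rw [hLHS]
  let T := fun i => (TC (ModuleCat.of A (A ⧸ (genPrime hV).asIdeal)) (ModuleCat.of A (A ⧸ (genPrime hW).asIdeal))).homology i
  haveI hfin : ∀ i, Module.Finite A (T i) := fun i => finite_homology (A ⧸ (genPrime hV).asIdeal) i (A ⧸ (genPrime hW).asIdeal)
  have hsT : ∀ i, Module.support A (T i) ⊆ Module.support A M0 := fun i p hp => by
    obtain ⟨h1, h2⟩ := support_homology (A ⧸ (genPrime hW).asIdeal) (A ⧸ (genPrime hV).asIdeal) i hp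
    rw [Module.support_eq_zeroLocus, Ideal.annihilator_quotient] at h1 h2
    exact (hM0 p).2 ⟨h1, h2⟩
  have hTb : ∀ i, Module.supportDim A (T i) ≤ b := fun i => supportDim_le_of_forall fun p hp =>
    (DepthLib.ringKrullDim_quotient_le_supportDim (hsT i hp)).trans hM0b
  have hMeet : ∀ i, Meet (A := A) (T i) (A ⧸ pU.asIdeal) := fun i p hp hp' => by
    rw [Module.support_eq_zeroLocus, Ideal.annihilator_quotient] at hp'
    exact hmax p hp' ((hM0 p).1 (hsT i hp)).1 ((hM0 p).1 (hsT i hp)).2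
  have hlow : ∀ p : PrimeSpectrum A, Meet (A := A) (A ⧸ p.asIdeal) (A ⧸ pU.asIdeal) →
      ringKrullDim (A ⧸ p.asIdeal) < b → IntMult.chi A (A ⧸ p.asIdeal) (A ⧸ pU.asIdeal) = 0 := by
    intro p hm hlt
    rw [hdim p] at hlt
    have hlt' : (δ (P p) - δ ζ).toNat < b := by exact_mod_cast hlt
    have := delta_le hd (hP p)
    have h := chi_prime_eq_zero f hd (hP p) hU
    rw [hgP p] at h
    exact h hm (by rw [hn]; omega)
  have hchi : ∀ i, IntMult.chi A (T i) (A ⧸ pU.asIdeal) =
      ∑ q ∈ E, ((locLen q (T i)).toNat : ℤ) * IntMult.chi A (A ⧸ q.asIdeal) (A ⧸ pU.asIdeal) := fun i => by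
    rw [chi_devissage (A ⧸ pU.asIdeal) b hlow (T i) (hMeet i) (hTb i)]
    refine Finset.sum_subset (fun q hq => ?_) fun q hq hq' => ?_
    · simp only [E, Set.Finite.mem_toFinset, Set.mem_setOf_eq] at hq ⊢
      exact ⟨hq.1, hsT i hq.2⟩
    · simp only [E, Set.Finite.mem_toFinset, Set.mem_setOf_eq] at hq hq'
      rw [locLen_eq_zero fun h => hq' ⟨hq.1, h⟩]
      simp
  unfold Sig
  rw [Finset.sum_congr rfl fun i _ => congrArg ((-1 : ℤ) ^ i * ·) (hchi i)]
  simp only [Finset.mul_sum]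
  rw [Finset.sum_comm]
  refine Finset.sum_congr rfl fun q hq => ?_
  obtain ⟨-, hVq, hWq⟩ := (hE q).1 hq
  simp only [Ψ, if_pos hq]
  rw [mult_eq_sum_locLen ht (hP q) hVq hWq, Finset.sum_mul]
  refine Finset.sum_congr rfl fun i _ => ?_
  rw [hgP q, mul_assoc]

/-- The product of a subvariety with the product of two others, at a point of expected dimension. -/
theorem interProd_triple {K : Type u} [Field K] (f : X ⟶ Spec (CommRingCat.of K)) [Smooth f] [IsIntegral X]
    (hd : Cyc.IsDimFun X δ) {n : ℤ} (hn : δ (genericPoint X) = n) {ξU ξV ξW ζ : X}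
    [IsRegularLocalRing (X.presheaf.stalk ζ)] (hU : ξU ⤳ ζ) (hV : ξV ⤳ ζ) (hW : ξW ⤳ ζ)
    (hζ : δ ζ = δ ξU + δ ξV + δ ξW - 2 * n)
    (hVW : ∀ η : X, ξV ⤳ η → ξW ⤳ η → δ η ≤ δ ξV + δ ξW - n)
    (hUVW : ∀ η : X, ξU ⤳ η → ξV ⤳ η → ξW ⤳ η → δ η ≤ δ ξU + δ ξV + δ ξW - 2 * n) :
    IntMult.interProd δ n (Set.indicator {ξU} 1)
        (IntMult.interProd δ n (Set.indicator {ξV} 1) (Set.indicator {ξW} 1)) ζ =
      Sig (X.presheaf.stalk ζ) (n - δ ζ).toNat (genPrime hU).asIdeal (genPrime hV).asIdeal (genPrime hW).asIdeal :=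
  interProd_triple_local f hd hn hU hV hW hζ (fun η _ => hVW η) (fun η _ => hUVW η)

end Groth.Agent.Diag27
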