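import Groth.Agent.Lib.Diag27.ProdCycle
import Groth.Agent.Lib.Cyc26.PushDiv
import Groth.Agent.Lib.Bivar12.PushMap
import Groth.Agent.Lib.WeilH13.Cl
import Groth.Agent.Lib.SmoothReg17.Basic
import Groth.Agent.Lib.NumPoly18.Euler

/-!
# The exterior product of two points against the diagonal
-/

set_option autoImplicit false
set_option linter.style.haveILetI false

universe u

open CategoryTheory CategoryTheory.Limits AlgebraicGeometry IsLocalRing Groth.Agent Groth.Agent.VarDim

noncomputable section

namespace Groth.Agent.Diag27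

theorem genPrime_map_generic {T Z : Scheme.{u}} (i : T ⟶ Z) [IsIntegral T] (t : T) :
    (genPrime ((genericPoint_specializes t).map i.continuous)).asIdeal = RingHom.ker (i.stalkMap t).hom := by
  have e : PrimeSpectrum.comap (i.stalkMap t).hom (genPrime (genericPoint_specializes t)) =
      genPrime ((genericPoint_specializes t).map i.continuous) := by
    refine (Z.fromSpecStalk (i t)).isEmbedding.injective ?_
    rw [fromSpecStalk_genPrime]
    have h1 : Z.fromSpecStalk (i t) (Spec.map (i.stalkMap t) (genPrime (genericPoint_specializes t))) =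
        i (T.fromSpecStalk t (genPrime (genericPoint_specializes t))) := by
      rw [← Scheme.Hom.comp_apply, Scheme.SpecMap_stalkMap_fromSpecStalk, Scheme.Hom.comp_apply]
    rw [fromSpecStalk_genPrime] at h1
    exact h1
  rw [← e]
  show Ideal.comap _ (genPrime (genericPoint_specializes t)).asIdeal = _
  rw [genPrime_eq_bot]
  rfl

theorem mem_support_ptIdeal {X : Scheme.{u}} {a x : X} (h : a ⤳ x) : x ∈ (IntMult.ptIdeal a).support := by
  rw [IntMult.ptIdeal, ← SetLike.mem_coe, Scheme.IdealSheafData.coe_support_vanishingIdeal]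
  exact h.mem_closure

theorem isIntegral_ptIdeal {X : Scheme.{u}} (a : X) : IsIntegral (IntMult.ptIdeal a).subscheme :=
  (NumPoly18.isIntegral_pt a).1

variable {K : Type u} [Field K] [IsAlgClosed K] {X : Scheme.{u}} (f : X ⟶ Spec (CommRingCat.of K))
  [LocallyOfFiniteType f]

/-- The generic point of the product of the closures of two points. -/
theorem exists_prod_gen (a b : X) :
    ∃ w : ↥(pullback f f), pullback.fst f f w = a ∧ pullback.snd f f w = b ∧
      sdim (pullback.fst f f ≫ f) w = sdim f a + sdim f b ∧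
      ∀ (z : ↥(pullback f f)) {x y : X} (hp : pullback.fst f f z = x) (hq : pullback.snd f f z = y)
        (ha : a ⤳ x) (hb : b ⤳ y), ∃ h : w ⤳ z, (genPrime h).asIdeal =
          (genPrime ha).asIdeal.map (locMap (pullback.fst f f) hp).hom ⊔
            (genPrime hb).asIdeal.map (locMap (pullback.snd f f) hq).hom := by
  set p := pullback.fst f f
  set q := pullback.snd f f
  set IV := IntMult.ptIdeal a
  set IW := IntMult.ptIdeal b
  haveI : IsIntegral IV.subscheme := isIntegral_ptIdeal a
  haveI : IsIntegral IW.subscheme := isIntegral_ptIdeal b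
  haveI : GeometricallyIntegral (IW.subschemeι ≫ f) := CubeField.geometricallyIntegral_of_isIntegral _
  haveI : IsLocallyNoetherian IV.subscheme := LocallyOfFiniteType.isLocallyNoetherian (IV.subschemeι ≫ f)
  let m := pullback.map (IV.subschemeι ≫ f) (IW.subschemeι ≫ f) f f IV.subschemeι IW.subschemeι (𝟙 _)
    (Category.comp_id _) (Category.comp_id _)
  haveI : IsClosedImmersion m := MorphismProperty.pullbackMap (P := @IsClosedImmersion) (i₁ := IV.subschemeι)
    (i₂ := IW.subschemeι) inferInstance inferInstance rfl rfl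
  have hrange : ∀ c : X, Set.range (IntMult.ptIdeal c).subschemeι = closure {c} := fun c => by
    rw [Scheme.IdealSheafData.range_subschemeι, IntMult.ptIdeal, Scheme.IdealSheafData.coe_support_vanishingIdeal]
    rfl
  have hmem : ∀ z, a ⤳ p z → b ⤳ q z → z ∈ Set.range m := fun z ha hb => by
    rw [Scheme.Pullback.range_map]
    exact ⟨(hrange a).ge ha.mem_closure, (hrange b).ge hb.mem_closure⟩
  let w := m (genericPoint (pullback (IV.subschemeι ≫ f) (IW.subschemeι ≫ f) : Scheme.{u}))
  have hgen : ∀ z, a ⤳ p z → b ⤳ q z → w ⤳ z := fun z ha hb => by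
    obtain ⟨t, rfl⟩ := hmem z ha hb
    exact (genericPoint_specializes t).map m.continuous
  obtain ⟨z₀, hz₀, hz₀'⟩ := Scheme.Pullback.exists_preimage_pullback (f := f) (g := f) a b
    (Subsingleton.elim (α := Spec (CommRingCat.of K)) _ _)
  have hw0 : a ⤳ p w ∧ b ⤳ q w := by
    have hw : w ∈ Set.range m := ⟨_, rfl⟩
    rw [Scheme.Pullback.range_map] at hw
    exact ⟨specializes_iff_mem_closure.2 ((hrange a).le hw.1), specializes_iff_mem_closure.2 ((hrange b).le hw.2)⟩
  have hww : w ⤳ z₀ := hgen z₀ (hz₀ ▸ specializes_rfl) (hz₀' ▸ specializes_rfl)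
  have hpa : p w = a := ((hww.map p.continuous).trans (hz₀ ▸ specializes_rfl)).antisymm hw0.1 |>.eq
  have hqb : q w = b := ((hww.map q.continuous).trans (hz₀' ▸ specializes_rfl)).antisymm hw0.2 |>.eq
  refine ⟨w, hpa, hqb, ?_, fun z x y hp hq ha hb => ?_⟩
  · refine le_antisymm ((DimF18.sdim_prod f f w).1.trans (le_of_eq (by rw [hpa, hqb]))) ?_
    obtain ⟨m', -, h1, h2, h3⟩ := (DimF18.sdim_prod f f z₀).2
    rw [hz₀, hz₀'] at h3
    rw [← h3]
    exact sdim_mono _ (hgen m' ((h1.trans hz₀).symm ▸ specializes_rfl) ((h2.trans hz₀').symm ▸ specializes_rfl))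
  · have ha' : a ⤳ p z := hp.symm ▸ ha
    have hb' : b ⤳ q z := hq.symm ▸ hb
    refine ⟨hgen z ha' hb', ?_⟩
    obtain ⟨t, rfl⟩ := hmem z ha' hb'
    rw [genPrime_map_generic m t, ← stI_ker,
      ker_pullback_map f f IV IW m (pullback.lift_fst _ _ _) (pullback.lift_snd _ _ _), stI_sup,
      stI_map_locMap p IV hp, stI_map_locMap q IW hq, stalkIdeal_ptIdeal ha, stalkIdeal_ptIdeal hb]

variable [Smooth f] [IsSeparated f] [IsIntegral X]

/-- The multiplicity of a product of points against the diagonal. -/
theorem mult_diag_prod {a b x : X} (ha : a ⤳ x) (hb : b ⤳ x) {w : ↥(pullback f f)}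
    (hp : pullback.fst f f (pullback.diagonal f x) = x) (hq : pullback.snd f f (pullback.diagonal f x) = x)
    (hw : ∃ h : w ⤳ pullback.diagonal f x, (genPrime h).asIdeal =
      (genPrime ha).asIdeal.map (locMap (pullback.fst f f) hp).hom ⊔
        (genPrime hb).asIdeal.map (locMap (pullback.snd f f) hq).hom) :
    IntMult.mult (IntMult.ptIdeal (pullback.diagonal f (genericPoint X))) (IntMult.ptIdeal w) (pullback.diagonal f x) =
      IntMult.mult (IntMult.ptIdeal a) (IntMult.ptIdeal b) x := by
  set p := pullback.fst f f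
  set q := pullback.snd f f
  set z := pullback.diagonal f x
  obtain ⟨hwz, hwp⟩ := hw
  haveI := SmoothReg17.isRegularLocalRing_stalk f x
  haveI := SmoothReg17.isRegularLocalRing_stalk (p ≫ f) z
  rw [IntMult.mult, IntMult.mult, stalkIdeal_ptIdeal hwz, hwp,
    stalkIdeal_ptIdeal ((genericPoint_specializes x).map (pullback.diagonal f).continuous), genPrime_map_generic,
    stalkIdeal_ptIdeal ha, stalkIdeal_ptIdeal hb]
  letI : Algebra (X.presheaf.stalk x) ((pullback f f).presheaf.stalk z) := (locMap p hp).hom.toAlgebra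
  haveI : Module.Flat (X.presheaf.stalk x) ((pullback f f).presheaf.stalk z) := by
    have h : (locMap p hp).hom.Flat := by
      have h' : (p.stalkMap z).hom.Flat := Flat.stalkMap p z
      have e : IsIso (X.presheaf.stalkSpecializes (hp ▸ specializes_refl x : p z ⤳ x)) :=
        ⟨X.presheaf.stalkSpecializes (hp ▸ specializes_refl x), by simp, by simp⟩
      rw [locMap, CommRingCat.hom_comp]
      exact (RingHom.Flat.of_bijective (ConcreteCategory.bijective_of_isIso _)).comp h'
    exact h
  have hι : (locMap q hq).hom.Flat := by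
    have h' : (q.stalkMap z).hom.Flat := Flat.stalkMap q z
    have e : IsIso (X.presheaf.stalkSpecializes (hq ▸ specializes_refl x : q z ⤳ x)) :=
      ⟨X.presheaf.stalkSpecializes (hq ▸ specializes_refl x), by simp, by simp⟩
    rw [locMap, CommRingCat.hom_comp]
    exact (RingHom.Flat.of_bijective (ConcreteCategory.bijective_of_isIso _)).comp h'
  have h1 : locMap p hp ≫ (pullback.diagonal f).stalkMap x = 𝟙 _ :=
    locMap_unique p hp (𝟙 _) _ (by
      rw [Spec.map_id, Category.id_comp, Scheme.SpecMap_stalkMap_fromSpecStalk_assoc, pullback.diagonal_fst,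
        Category.comp_id])
  have h2 : locMap q hq ≫ (pullback.diagonal f).stalkMap x = 𝟙 _ :=
    locMap_unique q hq (𝟙 _) _ (by
      rw [Spec.map_id, Category.id_comp, Scheme.SpecMap_stalkMap_fromSpecStalk_assoc, pullback.diagonal_snd,
        Category.comp_id])
  have hflat : Module.Flat (X.presheaf.stalk x)
      ((pullback f f).presheaf.stalk z ⧸ (genPrime hb).asIdeal.map (locMap q hq).hom) := by
    rw [← stalkIdeal_ptIdeal hb]
    exact RingHom.flat_algebraMap_iff.1 (flat_quot_locMap f (IntMult.ptIdeal b) z hp hq (mem_support_ptIdeal hb))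
  rw [chi_diag ((pullback.diagonal f).stalkMap x).hom (locMap q hq).hom (fun a => congr($(h1) a))
    (fun a => congr($(h2) a)) hι (genPrime ha).asIdeal (genPrime hb).asIdeal hflat, chi_comm]
  rfl

end Groth.Agent.Diag27
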