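import Groth.Agent.Lib.Diag27.Local
import Groth.Agent.Lib.Diag27.Trans
import Groth.Agent.Lib.RegImm26.Noeth
import Groth.Agent.Lib.DivDesc12.Sheaf
import Mathlib.AlgebraicGeometry.Morphisms.Flat

/-!
# The Tor multiplicity as a multiplicity along the diagonal
-/

set_option autoImplicit false
set_option linter.style.haveILetI false

universe u

open CategoryTheory CategoryTheory.Limits AlgebraicGeometry TensorProduct IsLocalRing Groth.Agent

noncomputable section

namespace Groth.Agent.Diag27

variable {X Z : Scheme.{u}}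

theorem stI_map_locMap (g : Z ⟶ X) (I : X.IdealSheafData) {z : Z} {x : X} (h : g z = x) :
    IntMult.stalkIdeal (I.comap g) z = (IntMult.stalkIdeal I x).map (locMap g h).hom := by
  subst h
  rw [locMap, TopCat.Presheaf.stalkSpecializes_refl, Category.id_comp]
  exact DivDesc12.stI_comap I g z

theorem stI_sup (I J : X.IdealSheafData) (x : X) :
    IntMult.stalkIdeal (I ⊔ J) x = IntMult.stalkIdeal I x ⊔ IntMult.stalkIdeal J x := by
  obtain ⟨U, hU, hx⟩ := DivDesc12.exists_affine x
  change DivDesc12.stI (I ⊔ J) x = DivDesc12.stI I x ⊔ DivDesc12.stI J x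
  rw [DivDesc12.stI_eq _ ⟨U, hU⟩ hx, DivDesc12.stI_eq I ⟨U, hU⟩ hx, DivDesc12.stI_eq J ⟨U, hU⟩ hx,
    Scheme.IdealSheafData.ideal_sup, Pi.sup_apply, Ideal.map_sup]

theorem stI_ker (g : Z ⟶ X) [IsClosedImmersion g] (w : Z) :
    IntMult.stalkIdeal g.ker (g w) = RingHom.ker (g.stalkMap w).hom := by
  obtain ⟨U, hU, hx⟩ := DivDesc12.exists_affine (g w)
  change DivDesc12.stI g.ker (g w) = _
  rw [DivDesc12.stI_eq _ ⟨U, hU⟩ hx, RegImm26.ker_stalkMap_eq g w hU hx, Scheme.Hom.ker_apply]

/-- Flatness of the quotient by the pullback of an ideal from the second factor. -/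
theorem flat_quot_locMap {K : Type u} [Field K] (f : X ⟶ Spec (CommRingCat.of K)) (I : X.IdealSheafData)
    (z : ↥(pullback f f)) {ξ : X} (hp : pullback.fst f f z = ξ) (hq : pullback.snd f f z = ξ) (hξ : ξ ∈ I.support) :
    ((Ideal.Quotient.mk ((IntMult.stalkIdeal I ξ).map (locMap (pullback.snd f f) hq).hom)).comp
      (locMap (pullback.fst f f) hp).hom).Flat := by
  set p := pullback.fst f f
  set q := pullback.snd f f
  set j := pullback.fst q I.subschemeι
  haveI : Flat (I.subschemeι ≫ f) := inferInstance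
  have sq : IsPullback (j ≫ p) (pullback.snd q I.subschemeι) f (I.subschemeι ≫ f) :=
    (IsPullback.of_hasPullback q I.subschemeι).paste_horiz (IsPullback.of_hasPullback f f)
  haveI : Flat (j ≫ p) := MorphismProperty.of_isPullback sq.flip ‹Flat (I.subschemeι ≫ f)›
  have hjker : j.ker = I.comap q := rfl
  have hz : z ∈ Set.range j := by
    have h1 : z ∈ (I.comap q).support := by
      rw [Scheme.IdealSheafData.support_comap]
      show q z ∈ I.support
      rwa [hq]
    rwa [← hjker, ← SetLike.mem_coe, Scheme.Hom.support_ker, j.isClosedEmbedding.isClosed_range.closure_eq] at h1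
  obtain ⟨w, rfl⟩ := hz
  subst hp
  rw [← stI_map_locMap q I hq, ← hjker, stI_ker, locMap, TopCat.Presheaf.stalkSpecializes_refl, Category.id_comp]
  have h : ((j.stalkMap w).hom.comp (p.stalkMap (j w)).hom).Flat := by
    have := Flat.stalkMap (j ≫ p) w
    rw [Scheme.Hom.stalkMap_comp] at this
    exact this
  have h2 := h.comp (g := (RingHom.quotientKerEquivOfSurjective (j.stalkMap_surjective w)).symm.toRingHom)
    (RingHom.Flat.of_bijective (RingEquiv.bijective _))
  convert h2 using 1
  refine RingHom.ext fun a => ?_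
  exact ((RingEquiv.symm_apply_eq _).2
    (RingHom.quotientKerEquivOfSurjective_apply_mk (hf := j.stalkMap_surjective w) (p.stalkMap (j w) a)).symm).symm

theorem ker_pullback_map {Y S : Scheme.{u}} (f : X ⟶ S) (g : Y ⟶ S) (I : X.IdealSheafData) (J : Y.IdealSheafData)
    (m : pullback (I.subschemeι ≫ f) (J.subschemeι ≫ g) ⟶ pullback f g)
    (hm1 : m ≫ pullback.fst f g = pullback.fst _ _ ≫ I.subschemeι)
    (hm2 : m ≫ pullback.snd f g = pullback.snd _ _ ≫ J.subschemeι) :
    m.ker = I.comap (pullback.fst f g) ⊔ J.comap (pullback.snd f g) := by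
  refine le_antisymm ?_ (sup_le ?_ ?_)
  · set T := I.comap (pullback.fst f g) ⊔ J.comap (pullback.snd f g)
    let a : T.subscheme ⟶ I.subscheme := Scheme.IdealSheafData.inclusion le_sup_left ≫
      (I.comapIso (pullback.fst f g)).hom ≫ pullback.snd _ _
    let b : T.subscheme ⟶ J.subscheme := Scheme.IdealSheafData.inclusion le_sup_right ≫
      (J.comapIso (pullback.snd f g)).hom ≫ pullback.snd _ _
    have ha : a ≫ I.subschemeι = T.subschemeι ≫ pullback.fst f g := by simp [a, ← pullback.condition]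
    have hb : b ≫ J.subschemeι = T.subschemeι ≫ pullback.snd f g := by simp [b, ← pullback.condition]
    let ℓ : T.subscheme ⟶ pullback (I.subschemeι ≫ f) (J.subschemeι ≫ g) := pullback.lift a b (by
      rw [← Category.assoc, ← Category.assoc, ha, hb, Category.assoc, Category.assoc, pullback.condition])
    have hℓ : ℓ ≫ m = T.subschemeι := by
      apply pullback.hom_ext
      · rw [Category.assoc, hm1, pullback.lift_fst_assoc, ha]
      · rw [Category.assoc, hm2, pullback.lift_snd_assoc, hb]
    refine (Scheme.Hom.le_ker_comp ℓ m).trans ?_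
    rw [hℓ, Scheme.IdealSheafData.ker_subschemeι]
  · show (pullback.fst (pullback.fst f g) I.subschemeι).ker ≤ _
    rw [← pullback.lift_fst (f := pullback.fst f g) (g := I.subschemeι) m (pullback.fst _ _) hm1]
    exact Scheme.Hom.le_ker_comp _ _
  · show (pullback.fst (pullback.snd f g) J.subschemeι).ker ≤ _
    rw [← pullback.lift_fst (f := pullback.snd f g) (g := J.subschemeι) m (pullback.snd _ _) hm2]
    exact Scheme.Hom.le_ker_comp _ _

/-- Reduction to the diagonal, for a ring with two sections of its quotient. -/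
theorem chi_diag {A B : Type u} [CommRing A] [CommRing B] [IsRegularLocalRing A] [IsRegularLocalRing B] [Algebra A B]
    (π : B →+* A) (ι₂ : A →+* B) (h1 : ∀ a, π (algebraMap A B a) = a) (h2 : ∀ a, π (ι₂ a) = a)
    (hι : ι₂.Flat) (I J : Ideal A) (hf1 : Module.Flat A (B ⧸ J.map ι₂)) [Module.Flat A B] :
    IntMult.chi A (A ⧸ J) (A ⧸ I) =
      IntMult.chi B (B ⧸ RingHom.ker π) (B ⧸ (I.map (algebraMap A B) ⊔ J.map ι₂)) := by
  have hsurj : Function.Surjective π := fun a => ⟨_, h1 a⟩
  set Δ := RingHom.ker π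
  let eΔ : (B ⧸ Δ) ≃+* A := RingHom.quotientKerEquivOfSurjective hsurj
  let J₂ : Ideal B := J.map ι₂
  have hπle : J₂ ≤ J.comap π :=
    Ideal.map_le_iff_le_comap.2 fun x hx => by
      show π (ι₂ x) ∈ J
      rwa [h2]
  have hsec : ∀ x : B, ∃ y : A, x - algebraMap A B y ∈ Δ := fun x =>
    ⟨π x, by rw [RingHom.mem_ker, map_sub, h1, sub_self]⟩
  let σ : (B ⧸ J₂) →ₗ[A] A ⧸ J :=
    { toFun := Ideal.quotientMap J π hπle
      map_add' := map_add _
      map_smul' := fun y x => by
        rw [Algebra.smul_def, map_mul, RingHom.id_apply, Algebra.smul_def]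
        congr 1
        show Ideal.Quotient.mk J (π (algebraMap A B y)) = _
        rw [h1]
        rfl }
  have hσ : Function.Surjective σ := fun y => by
    obtain ⟨y, rfl⟩ := Ideal.Quotient.mk_surjective y
    exact ⟨Ideal.Quotient.mk J₂ (algebraMap A B y), congrArg (Ideal.Quotient.mk J) (h1 y)⟩
  have hk : LinearMap.ker σ = (Δ • (⊤ : Submodule B (B ⧸ J₂))).restrictScalars A := by
    apply le_antisymm
    · intro w hw
      obtain ⟨x, rfl⟩ := Ideal.Quotient.mk_surjective w
      rw [Submodule.restrictScalars_mem]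
      have hx : π x ∈ J := Ideal.Quotient.eq_zero_iff_mem.1 (hw : Ideal.Quotient.mk J (π x) = 0)
      have e : Ideal.Quotient.mk J₂ x = (x - ι₂ (π x)) • (1 : B ⧸ J₂) := by
        rw [Algebra.smul_def, mul_one, Ideal.Quotient.algebraMap_eq, map_sub,
          Ideal.Quotient.eq_zero_iff_mem.2 (Ideal.mem_map_of_mem ι₂ hx), sub_zero]
      rw [e]
      exact Submodule.smul_mem_smul (by rw [RingHom.mem_ker, map_sub, h2, sub_self]) trivial
    · intro w hw
      rw [Submodule.restrictScalars_mem] at hw
      refine Submodule.smul_induction_on hw (fun x hx v _ => ?_) fun p q hp hq => add_mem hp hq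
      obtain ⟨v, rfl⟩ := Ideal.Quotient.mk_surjective v
      show Ideal.Quotient.mk J (π (x * v)) = 0
      rw [map_mul, RingHom.mem_ker.1 hx, zero_mul, map_zero]
  have hW : ∀ j : ℕ, IsZero (((Tor (ModuleCat.{u} B) (j + 1)).obj (ModuleCat.of B (B ⧸ J₂))).obj
      (ModuleCat.of B (B ⧸ Δ))) := fun j => by
    letI := ι₂.toAlgebra
    haveI : Module.Flat A B := hι
    haveI : Module.Flat A (B ⧸ Δ) := by
      have h : (algebraMap A (B ⧸ Δ)) = eΔ.symm.toRingHom := RingHom.ext fun x => eΔ.injective (by
        simp only [RingEquiv.toRingHom_eq_coe, RingHom.coe_coe, RingEquiv.apply_symm_apply]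
        exact h2 x)
      rw [← RingHom.flat_algebraMap_iff, h]
      exact RingHom.Flat.of_bijective eΔ.symm.bijective
    exact isZero_tor_baseChange Δ J j
  haveI := hf1
  obtain ⟨e, -⟩ := exists_equiv_tensor_quot (A := A) J₂ I
  rw [chi_comm, ← chi_reduce hsec σ hσ hk hW (A ⧸ I), chi_congr e, chi_comm, sup_comm]

end Groth.Agent.Diag27
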