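import Groth.Agent.Lib.Diag27.ProjGeom
import Groth.Agent.Lib.EquiDim4
import Groth.Agent.Lib.Cyc26.ChernFun
import Groth.Agent.Lib.Cyc26.DegC1
import Groth.Agent.Lib.IntMult26.CMLength
import Groth.Agent.Lib.TorBal.Dim

/-!
# The graph of a flat morphism against a pulled-back cycle
-/

set_option autoImplicit false
set_option backward.isDefEq.respectTransparency false
set_option linter.style.haveILetI false

universe u

open CategoryTheory CategoryTheory.Limits AlgebraicGeometry TensorProduct IsLocalRing Groth.Agent

noncomputable section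

namespace Groth.Agent.Diag27

/-- The multiplicity against a quotient that is flat over the base. -/
theorem chi_flat_quot {A B L : Type u} [CommRing A] [CommRing B] [CommRing L] [Algebra A B] [Module.Flat A B]
    [Algebra B L] [Algebra A L] [IsScalarTower A B L] [Module.Flat A L] (hsurj : Function.Surjective (algebraMap B L))
    (N : Type u) [AddCommGroup N] [Module A N] :
    IntMult.chi B L (B ⊗[A] N) = ((Module.length L (L ⊗[A] N)).toNat : ℤ) := by
  rw [IntMult.chi, finsum_eq_single _ 0 fun i hi => ?_]
  · let e := AlgebraTensorModule.cancelBaseChange A B L L N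
    rw [IntMult26.length_tor_zero, (e.restrictScalars B).length_eq,
      Module.length_eq_of_surjective (R := L) (S := B) (M := L ⊗[A] N) hsurj]
    simp
  · obtain ⟨i, rfl⟩ := Nat.exists_eq_succ_of_ne_zero hi
    obtain ⟨φ, hφ⟩ := Groth.Agent.S4494.result A B L N (i + 1)
    haveI : Subsingleton (DRing.Tor A (i + 1) L N) :=
      ModuleCat.subsingleton_of_isZero (TorBal.isZero_tor_flat_left L i (ModuleCat.of A N))
    haveI : Subsingleton (DRing.Tor B (i + 1) L (B ⊗[A] N)) := hφ.2.subsingleton
    rw [Module.length_eq_zero]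
    simp

variable {K : Type u} [Field K] {X Y : Scheme.{u}}

theorem rd_le_of_flat_integral (f : X ⟶ Y) [Flat f] [IsIntegral X] [IsIntegral Y] (gX : X ⟶ Spec (CommRingCat.of K))
    (gY : Y ⟶ Spec (CommRingCat.of K)) [LocallyOfFiniteType gX] [LocallyOfFiniteType gY] (hf : f ≫ gY = gX) :
    ∃ r : ℕ, Cyc.HasRelDim f r ∧
      VarDim.sdim gX (genericPoint X) = VarDim.sdim gY (genericPoint Y) + r := by
  haveI : LocallyOfFiniteType f := by
    haveI : LocallyOfFiniteType (f ≫ gY) := hf.symm ▸ inferInstance
    exact locallyOfFiniteType_of_comp f gY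
  have hgen : f (genericPoint X) = genericPoint Y := by
    obtain ⟨x, hx, he⟩ := Flat.generalizingMap f ((genericPoint_spec Y).specializes (y := f (genericPoint X)) trivial)
    rw [← he, (hx.antisymm (genericPoint_specializes x)).eq]
  have h1 := FibGen4.sdim_eq_add_rd gX gY f hf (genericPoint X)
  rw [hgen] at h1
  refine ⟨_, (FibGen4.forall_dim_eq_iff_hasRelDim gX gY f hf _).1 fun Z hZ => ?_, h1⟩
  rw [show Z = closure {genericPoint X} from ?_, VarDim.dim_closure_singleton gX,
    VarDim.dim_eq_sdim_genericPoint gY, h1]
  · push_cast; rfl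
  · have huniv : closure {genericPoint X} = Set.univ := genericPoint_spec X
    rw [huniv]
    rw [irreducibleComponents_eq_singleton] at hZ
    exact hZ

theorem hasRelDim_toField (gX : X ⟶ Spec (CommRingCat.of K)) [LocallyOfFiniteType gX] [IsIntegral X] :
    Cyc.HasRelDim gX (VarDim.sdim gX (genericPoint X)) := by
  refine (FibDim14.hasRelDim_iff gX _).2 fun x hx => ?_
  have e : genericPoint X = x := hx _ (genericPoint_specializes x) (Subsingleton.elim _ _)
  rw [FibGen4.rd_eq_sdim gX x, e]

end Groth.Agent.Diag27
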