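import Groth.Agent.Lib.Diag27.Reduce
import Groth.Agent.Lib.RegLoc.Sop
import Groth.Agent.Lib.UCat.Flat
import Groth.Agent.Lib.RegLoc.Basic
import Groth.Agent.S4494

/-!
# Positivity of the Tor multiplicity through the diagonal, locally
-/

set_option autoImplicit false
set_option linter.style.haveILetI false

universe u

open CategoryTheory CategoryTheory.Limits TensorProduct IsLocalRing RingTheory.Sequence Groth.Agent

noncomputable section

namespace Groth.Agent.Diag27

theorem exists_regular_generators {B : Type u} [CommRing B] [IsRegularLocalRing B] (Δ : Ideal B)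
    [IsRegularLocalRing (B ⧸ Δ)] :
    ∃ (c : ℕ) (g : Fin c → B), Δ = Ideal.span (Set.range g) ∧ IsRegular B (List.ofFn g) := by
  obtain ⟨x, c, hc, hx, hΔ⟩ := RegLoc.exists_generators_of_regular_quotient _ B Δ rfl
  refine ⟨c, fun i => x (Fin.castLE hc i), hΔ, ?_⟩
  have hall := RegLoc.isRegular_of_span_range _ B x hx rfl
  have htake : List.ofFn (fun i : Fin c => x (Fin.castLE hc i)) = (List.ofFn x).take c :=
    List.ext_getElem (by simp [hc]) fun i h1 h2 => by simp [Fin.castLE]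
  refine DepthLib.isRegular_of_isWeaklyRegular (I := maximalIdeal B) ?_ (fun y hy => ?_)
    (DepthLib.smul_top_ne_top (maximalIdeal.isMaximal B).ne_top)
  rotate_left
  · rw [htake] at hy
    obtain ⟨i, rfl⟩ := List.mem_ofFn.1 (List.mem_of_mem_take hy)
    exact hx ▸ Ideal.subset_span ⟨i, rfl⟩
  · have h := hall.toIsWeaklyRegular
    rw [← List.take_append_drop c (List.ofFn x), isWeaklyRegular_append_iff] at h
    rw [htake]
    exact h.1

theorem exists_dim_drop {R S : Type u} [CommRing R] [CommRing S] [IsNoetherianRing R] [IsNoetherianRing S]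
    [IsLocalRing R] [IsLocalRing S] [Algebra R S] [IsLocalHom (algebraMap R S)] [Module.Flat R S]
    (J : Ideal R) (hJ : J ≠ ⊤) {t a c : ℕ} (ht : ringKrullDim R = t) (ha : ringKrullDim (R ⧸ J) = a)
    (hc : ringKrullDim S = c) :
    ∃ d : ℕ, c = t + d ∧ ringKrullDim (S ⧸ J.map (algebraMap R S)) = (a + d : ℕ) := by
  haveI : IsLocalRing (EGA4.FibRing R S) :=
    RegLoc.isLocalRing_quotient (UCat.map_ne_top (maximalIdeal.isMaximal R).ne_top)
  obtain ⟨d, hd⟩ := RegLoc.exists_dim_eq_nat (R := EGA4.FibRing R S)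
  have h0 := UCat.dim_quotient_map (B := S) (⊥ : Ideal R) bot_ne_top
  rw [Ideal.map_bot, ringKrullDim_eq_of_ringEquiv (RingEquiv.quotientBot S),
    ringKrullDim_eq_of_ringEquiv (RingEquiv.quotientBot R), hc, ht, hd] at h0
  refine ⟨d, by exact_mod_cast h0, ?_⟩
  rw [UCat.dim_quotient_map (B := S) J hJ, ha, hd]
  rfl

theorem exists_dim_drop' {R S : Type u} [CommRing R] [CommRing S] [IsNoetherianRing R] [IsNoetherianRing S]
    [IsLocalRing R] [IsLocalRing S] (φ : R →+* S) [hl : IsLocalHom φ] (hφ : φ.Flat)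
    (J : Ideal R) (hJ : J ≠ ⊤) {t a c : ℕ} (ht : ringKrullDim R = t) (ha : ringKrullDim (R ⧸ J) = a)
    (hc : ringKrullDim S = c) : ∃ d : ℕ, c = t + d ∧ ringKrullDim (S ⧸ J.map φ) = (a + d : ℕ) := by
  letI := φ.toAlgebra
  haveI : IsLocalHom (algebraMap R S) := hl
  haveI : Module.Flat R S := hφ
  exact exists_dim_drop J hJ ht ha hc

/-- The base change of a quotient by a flat map has no torsion against a flat quotient. -/
theorem isZero_tor_baseChange {A B : Type u} [CommRing A] [CommRing B] [Algebra A B] [Module.Flat A B]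
    (Δ : Ideal B) [Module.Flat A (B ⧸ Δ)] (J : Ideal A) (j : ℕ) :
    IsZero (((Tor (ModuleCat.{u} B) (j + 1)).obj (ModuleCat.of B (B ⧸ J.map (algebraMap A B)))).obj
      (ModuleCat.of B (B ⧸ Δ))) := by
  haveI : Subsingleton (DRing.Tor A (j + 1) (B ⧸ Δ) (A ⧸ J)) :=
    ModuleCat.subsingleton_of_isZero (TorBal.isZero_tor_flat_left (B ⧸ Δ) j (ModuleCat.of A (A ⧸ J)))
  obtain ⟨φ, hφ⟩ := S4494.result A B (B ⧸ Δ) (A ⧸ J) (j + 1)
  haveI : Subsingleton (DRing.Tor B (j + 1) (B ⧸ Δ) (B ⊗[A] (A ⧸ J))) := hφ.2.subsingleton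
  obtain ⟨e⟩ := TorBal27.nonempty_tor_iso_flip (R := B) (j + 1)
  let i : B ⊗[A] (A ⧸ J) ≃ₗ[B] B ⧸ J.map (algebraMap A B) :=
    (FlatDepth.tensorQuotEquiv B J).trans (Submodule.quotEquivOfEq _ _ (by rw [Ideal.smul_eq_mul, Ideal.mul_top]))
  exact (ModuleCat.isZero_of_subsingleton (ModuleCat.of B (DRing.Tor B (j + 1) (B ⧸ Δ) (B ⊗[A] (A ⧸ J))))).of_iso
    ((e.app (ModuleCat.of B (B ⧸ J.map (algebraMap A B)))).app (ModuleCat.of B (B ⧸ Δ)) ≪≫
      (((Tor (ModuleCat.{u} B) (j + 1)).obj (ModuleCat.of B (B ⧸ Δ))).mapIso i.symm.toModuleIso))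

theorem chi_congr {B : Type u} [CommRing B] {X Y N : Type u} [AddCommGroup X] [Module B X] [AddCommGroup Y]
    [Module B Y] [AddCommGroup N] [Module B N] (e : X ≃ₗ[B] Y) : IntMult.chi B X N = IntMult.chi B Y N := by
  unfold IntMult.chi
  refine finsum_congr fun i => ?_
  have h : Module.length B (DRing.Tor B i X N) = Module.length B (DRing.Tor B i Y N) :=
    (((Tor (ModuleCat.{u} B) i).mapIso e.toModuleIso).app (ModuleCat.of B N)).toLinearEquiv.length_eq
  rw [h]

variable {A B : Type u} [CommRing A] [CommRing B] [IsRegularLocalRing A] [IsRegularLocalRing B] [Algebra A B]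

theorem exists_equiv_tensor_quot (L : Ideal B) (I : Ideal A) :
    ∃ e : (B ⧸ L) ⊗[A] (A ⧸ I) ≃ₗ[B] B ⧸ (L ⊔ I.map (algebraMap A B)), True := by
  let φ : B →ₗ[B] (B ⧸ L) ⊗[A] (A ⧸ I) := LinearMap.toSpanSingleton B _ (1 ⊗ₜ[A] 1)
  let ψ : (B ⧸ L) ⊗[A] (A ⧸ I) →ₐ[A] B ⧸ (L ⊔ I.map (algebraMap A B)) :=
    Algebra.TensorProduct.lift (Ideal.Quotient.factorₐ A le_sup_left)
      (Ideal.Quotient.liftₐ I (Algebra.ofId A _) fun x hx => by
        show algebraMap A _ x = 0
        rw [IsScalarTower.algebraMap_apply A B (B ⧸ _), Ideal.Quotient.algebraMap_eq, Ideal.Quotient.eq_zero_iff_mem]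
        exact le_sup_right (α := Ideal B) (Ideal.mem_map_of_mem _ hx))
      fun _ _ => Commute.all _ _
  have hφ : ∀ b : B, φ b = (Ideal.Quotient.mk L b) ⊗ₜ[A] (1 : A ⧸ I) := fun b => by
    simp only [φ, LinearMap.toSpanSingleton_apply]
    rw [TensorProduct.smul_tmul', Algebra.smul_def, Ideal.Quotient.algebraMap_eq, mul_one]
  have hsurj : Function.Surjective φ := fun z => by
    induction z using TensorProduct.induction_on with
    | zero => exact ⟨0, map_zero _⟩
    | add a b ha hb => obtain ⟨a, rfl⟩ := ha; obtain ⟨b, rfl⟩ := hb; exact ⟨a + b, map_add _ _ _⟩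
    | tmul w x =>
      obtain ⟨w, rfl⟩ := Ideal.Quotient.mk_surjective w
      obtain ⟨x, rfl⟩ := Ideal.Quotient.mk_surjective x
      refine ⟨x • w, ?_⟩
      rw [hφ, show Ideal.Quotient.mk L (x • w) = x • Ideal.Quotient.mk L w from rfl, TensorProduct.smul_tmul,
        Algebra.smul_def, Ideal.Quotient.algebraMap_eq, mul_one]
  have hker : LinearMap.ker φ = L ⊔ I.map (algebraMap A B) := by
    refine le_antisymm (fun b hb => ?_) (sup_le (fun b hb => ?_) (Ideal.map_le_iff_le_comap.2 fun x hx => ?_))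
    · have h : ψ (φ b) = 0 := by rw [LinearMap.mem_ker.1 hb, map_zero]
      rw [hφ] at h
      simpa [ψ, Ideal.Quotient.eq_zero_iff_mem] using h
    · rw [LinearMap.mem_ker, hφ, Ideal.Quotient.eq_zero_iff_mem.2 hb, TensorProduct.zero_tmul]
    · rw [Ideal.mem_comap, LinearMap.mem_ker, hφ, ← Ideal.Quotient.algebraMap_eq (I := L),
        ← IsScalarTower.algebraMap_apply A B (B ⧸ L), Algebra.algebraMap_eq_smul_one, TensorProduct.smul_tmul,
        Algebra.smul_def, mul_one, Ideal.Quotient.algebraMap_eq, Ideal.Quotient.eq_zero_iff_mem.2 hx,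
        TensorProduct.tmul_zero]
  exact ⟨(LinearMap.quotKerEquivOfSurjective φ hsurj).symm.trans (Submodule.quotEquivOfEq _ _ hker), trivial⟩

/-- The diagonal data of a pair of quotients meeting in the closed point only. -/
theorem exists_diag_data (π : B →+* A) (ι₂ : A →+* B) (h1 : ∀ a, π (algebraMap A B a) = a) (h2 : ∀ a, π (ι₂ a) = a)
    (hf1 : ∀ J : Ideal A, Module.Flat A (B ⧸ J.map ι₂))
    (hf2 : ∀ J : Ideal A, ((Ideal.Quotient.mk (J.map (algebraMap A B))).comp ι₂).Flat)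
    (I J : Ideal A) (hI : I ≠ ⊤) (hJ : J ≠ ⊤) {t a b : ℕ} (ht : ringKrullDim A = t)
    (ha : ringKrullDim (A ⧸ J) = a) (hb : ringKrullDim (A ⧸ I) = b)
    (hsupp : ∀ p : PrimeSpectrum A, J ≤ p.asIdeal → I ≤ p.asIdeal → p.asIdeal = maximalIdeal A) :
    ∃ (c d : ℕ) (L : Ideal B) (g : Fin c → B), c = t + d ∧ IsRegular B (List.ofFn g) ∧
      Ideal.span (Set.range g) ≤ maximalIdeal B ∧ L ≤ maximalIdeal B ∧ ringKrullDim (B ⧸ L) = (b + (a + d) : ℕ) ∧
      (∀ p : PrimeSpectrum B, L ≤ p.asIdeal → Ideal.span (Set.range g) ≤ p.asIdeal →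
        p.asIdeal = maximalIdeal B) ∧
      IntMult.chi A (A ⧸ J) (A ⧸ I) = IntMult.chi B (B ⧸ L) (B ⧸ Ideal.span (Set.range g)) := by
  have hsurj : Function.Surjective π := fun a => ⟨_, h1 a⟩
  haveI hl1 : IsLocalHom (algebraMap A B) := ⟨fun a h => by simpa [h1] using h.map π⟩
  haveI hl2 : IsLocalHom ι₂ := ⟨fun a h => by simpa [h2] using h.map π⟩
  set Δ := RingHom.ker π
  let eΔ : (B ⧸ Δ) ≃+* A := RingHom.quotientKerEquivOfSurjective hsurj
  haveI : IsRegularLocalRing (B ⧸ Δ) := IsRegularLocalRing.of_ringEquiv eΔ.symm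
  obtain ⟨c, g, hg, hreg⟩ := exists_regular_generators Δ
  obtain ⟨β, hβ⟩ := RegLoc.exists_dim_eq_nat (R := B)
  have hct : c + t = β := by
    have h := ringKrullDim_add_length_eq_ringKrullDim_of_isRegular _ hreg
    have hspan : Ideal.ofList (List.ofFn g) = Δ := by
      rw [hg, Ideal.ofList]
      congr 1
      ext x
      simp
    rw [hspan, List.length_ofFn, ringKrullDim_eq_of_ringEquiv eΔ, ht, hβ] at h
    have : t + c = β := by exact_mod_cast h
    omega
  haveI : Module.Flat A B := by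
    haveI := hf1 ⊥
    exact Module.Flat.of_linearEquiv (M := B ⧸ (⊥ : Ideal A).map ι₂)
      (((Submodule.quotEquivOfEqBot _ Ideal.map_bot).restrictScalars A).symm)
  let P₁ : Ideal B := (maximalIdeal A).map (algebraMap A B)
  let J₂ : Ideal B := J.map ι₂
  have hP₁ : P₁ ≠ ⊤ := UCat.map_ne_top (maximalIdeal.isMaximal A).ne_top
  have hπle : ∀ {K : Ideal A}, K.map ι₂ ≤ K.comap π := fun {K} =>
    Ideal.map_le_iff_le_comap.2 fun x hx => by
      show π (ι₂ x) ∈ K
      rwa [h2]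
  have hJ₂ : J₂ ≠ ⊤ := ne_top_of_le_ne_top (fun h => hJ (by
    rw [← Ideal.map_comap_of_surjective π hsurj J, h, Ideal.map_top])) hπle
  -- the dimension of the closed fibre of the first projection
  haveI : IsLocalRing (EGA4.FibRing A B) := RegLoc.isLocalRing_quotient hP₁
  obtain ⟨φ, hφ⟩ := RegLoc.exists_dim_eq_nat (R := EGA4.FibRing A B)
  have hdB := UCat.dim_quotient_map (B := B) (⊥ : Ideal A) bot_ne_top
  rw [Ideal.map_bot, ringKrullDim_eq_of_ringEquiv (RingEquiv.quotientBot B),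
    ringKrullDim_eq_of_ringEquiv (RingEquiv.quotientBot A), hβ, ht, hφ] at hdB
  have hdB' : β = t + φ := by exact_mod_cast hdB
  -- the second projection on that fibre
  obtain ⟨d, hd1, hd2⟩ : ∃ d : ℕ, φ = t + d ∧
      ringKrullDim ((B ⧸ P₁) ⧸ J.map ((Ideal.Quotient.mk P₁).comp ι₂)) = (a + d : ℕ) := by
    haveI hl : IsLocalHom ((Ideal.Quotient.mk P₁).comp ι₂) := ⟨fun x h => by
      obtain ⟨v, hv⟩ := Ideal.Quotient.mk_surjective (↑h.unit⁻¹ : B ⧸ P₁)
      by_contra hx
      refine hP₁ ((Ideal.eq_top_iff_one _).2 ?_)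
      have hmem : ι₂ x * v - 1 ∈ P₁ := by
        rw [← Ideal.Quotient.eq_zero_iff_mem, map_sub, map_mul, map_one, hv]
        show h.unit.1 * _ - 1 = 0
        rw [Units.mul_inv, sub_self]
      have hu : IsUnit (ι₂ x) → False := fun hu => hx (hl2.map_nonunit x hu)
      have h1mem : (1 : B) ∈ maximalIdeal B := by
        have hle : P₁ ≤ maximalIdeal B := le_maximalIdeal hP₁
        have := sub_mem ((maximalIdeal B).mul_mem_right v (show ι₂ x ∈ maximalIdeal B from hu)) (hle hmem)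
        simpa using this
      exact absurd ((Ideal.eq_top_iff_one _).2 h1mem) (maximalIdeal.isMaximal B).ne_top⟩
    exact exists_dim_drop' _ (hf2 (maximalIdeal A)) J hJ ht ha hφ
  -- the dimension of the product
  haveI : IsLocalRing (B ⧸ J₂) := RegLoc.isLocalRing_quotient hJ₂
  haveI := hf1 J
  haveI : IsLocalHom (algebraMap A (B ⧸ J₂)) := by
    rw [IsScalarTower.algebraMap_eq A B (B ⧸ J₂)]
    haveI := IsLocalHom.of_surjective (Ideal.Quotient.mk J₂) Ideal.Quotient.mk_surjective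
    exact RingHom.isLocalHom_comp _ _
  have hfib : ringKrullDim (EGA4.FibRing A (B ⧸ J₂)) = (a + d : ℕ) := by
    rw [← hd2]
    refine ringKrullDim_eq_of_ringEquiv ((Ideal.quotEquivOfEq ?_).trans
      ((DoubleQuot.quotQuotEquivQuotSup J₂ P₁).trans ((Ideal.quotEquivOfEq (sup_comm J₂ P₁)).trans
        ((DoubleQuot.quotQuotEquivQuotSup P₁ J₂).symm.trans (Ideal.quotEquivOfEq (Ideal.map_map ι₂ _))))))
    show (maximalIdeal A).map (algebraMap A (B ⧸ J₂)) = P₁.map (Ideal.Quotient.mk J₂)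
    rw [Ideal.map_map]
    rfl
  have hdL : ringKrullDim (B ⧸ (J₂ ⊔ I.map (algebraMap A B))) = (b + (a + d) : ℕ) := by
    have h := UCat.dim_quotient_map (B := B ⧸ J₂) I hI
    rw [hb, hfib, IsScalarTower.algebraMap_eq A B (B ⧸ J₂), ← Ideal.map_map, Ideal.Quotient.algebraMap_eq,
      ringKrullDim_eq_of_ringEquiv (DoubleQuot.quotQuotEquivQuotSup J₂ (I.map (algebraMap A B)))] at h
    rw [h]
    rfl
  -- the reduction
  have hsec : ∀ x : B, ∃ y : A, x - algebraMap A B y ∈ Δ := fun x =>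
    ⟨π x, by rw [RingHom.mem_ker, map_sub, h1, sub_self]⟩
  let σ : (B ⧸ J₂) →ₗ[A] A ⧸ J :=
    { toFun := Ideal.quotientMap J π hπle
      map_add' := map_add _
      map_smul' := fun y x => by
        rw [Algebra.smul_def, map_mul, RingHom.id_apply, Algebra.smul_def]
        congr 1
        show Ideal.Quotient.mk J (π (algebraMap A B y)) = _
        rw [h1]
        rfl }
  have hσ : Function.Surjective σ := fun y => by
    obtain ⟨y, rfl⟩ := Ideal.Quotient.mk_surjective y
    exact ⟨Ideal.Quotient.mk J₂ (algebraMap A B y), congrArg (Ideal.Quotient.mk J) (h1 y)⟩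
  have hk : LinearMap.ker σ = (Δ • (⊤ : Submodule B (B ⧸ J₂))).restrictScalars A := by
    apply le_antisymm
    · intro w hw
      obtain ⟨x, rfl⟩ := Ideal.Quotient.mk_surjective w
      have hx : π x ∈ J := Ideal.Quotient.eq_zero_iff_mem.1 (hw : Ideal.Quotient.mk J (π x) = 0)
      rw [Submodule.restrictScalars_mem]
      have e : Ideal.Quotient.mk J₂ x = (x - ι₂ (π x)) • (1 : B ⧸ J₂) := by
        rw [Algebra.smul_def, mul_one, Ideal.Quotient.algebraMap_eq, map_sub,
          Ideal.Quotient.eq_zero_iff_mem.2 (Ideal.mem_map_of_mem ι₂ hx), sub_zero]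
      rw [e]
      exact Submodule.smul_mem_smul (by rw [RingHom.mem_ker, map_sub, h2, sub_self]) trivial
    · intro w hw
      rw [Submodule.restrictScalars_mem] at hw
      refine Submodule.smul_induction_on hw (fun x hx v _ => ?_) fun p q hp hq => add_mem hp hq
      obtain ⟨v, rfl⟩ := Ideal.Quotient.mk_surjective v
      show Ideal.Quotient.mk J (π (x * v)) = 0
      rw [map_mul, RingHom.mem_ker.1 hx, zero_mul, map_zero]
  have hW : ∀ j : ℕ, IsZero (((Tor (ModuleCat.{u} B) (j + 1)).obj (ModuleCat.of B (B ⧸ J₂))).obj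
      (ModuleCat.of B (B ⧸ Δ))) := fun j => by
    have hι : ι₂.Flat := by
      have h := RingHom.Flat.comp (hf2 ⊥) (g := (RingEquiv.quotientBot B).toRingHom.comp
        (Ideal.quotEquivOfEq (Ideal.map_bot (f := algebraMap A B))).toRingHom) (RingHom.Flat.of_bijective
          ((RingEquiv.quotientBot B).bijective.comp (Ideal.quotEquivOfEq _).bijective))
      have e : ((RingEquiv.quotientBot B).toRingHom.comp
        (Ideal.quotEquivOfEq (Ideal.map_bot (f := algebraMap A B))).toRingHom).comp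
          ((Ideal.Quotient.mk _).comp ι₂) = ι₂ := RingHom.ext fun _ => rfl
      rw [e] at h
      exact h
    letI := ι₂.toAlgebra
    haveI : Module.Flat A B := hι
    haveI : Module.Flat A (B ⧸ Δ) := by
      have h : (algebraMap A (B ⧸ Δ)) = eΔ.symm.toRingHom := RingHom.ext fun x => eΔ.injective (by
        simp only [RingEquiv.toRingHom_eq_coe, RingHom.coe_coe, RingEquiv.apply_symm_apply]
        exact h2 x)
      rw [← RingHom.flat_algebraMap_iff, h]
      exact RingHom.Flat.of_bijective eΔ.symm.bijective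
    exact isZero_tor_baseChange Δ J j
  obtain ⟨e, -⟩ := exists_equiv_tensor_quot (A := A) J₂ I
  have hLne : J₂ ⊔ I.map (algebraMap A B) ≠ ⊤ := fun h => by
    haveI : Subsingleton (B ⧸ (J₂ ⊔ I.map (algebraMap A B))) := Ideal.Quotient.subsingleton_iff.2 h
    rw [ringKrullDim_eq_bot_of_subsingleton] at hdL
    exact WithBot.bot_ne_natCast _ hdL
  refine ⟨c, d, J₂ ⊔ I.map (algebraMap A B), g, by omega, hreg, hg ▸ le_maximalIdeal (RingHom.ker_ne_top π),
    le_maximalIdeal hLne, hdL, fun p hp hpg => ?_, by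
      rw [chi_comm, ← chi_reduce hsec σ hσ hk hW (A ⧸ I), chi_congr e, hg]⟩
  rw [← hg] at hpg
  haveI : (p.asIdeal.map π).IsPrime := Ideal.map_isPrime_of_surjective hsurj hpg
  have hJp : J ≤ p.asIdeal.map π := fun x hx => h2 x ▸ Ideal.mem_map_of_mem π (hp (le_sup_left (b := I.map (algebraMap A B)) (Ideal.mem_map_of_mem ι₂ hx)))
  have hIp : I ≤ p.asIdeal.map π := fun x hx => h1 x ▸ Ideal.mem_map_of_mem π (hp (le_sup_right (a := J₂) (Ideal.mem_map_of_mem _ hx)))
  have h := hsupp ⟨_, ‹_›⟩ hJp hIp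
  have hc' : p.asIdeal = (maximalIdeal A).comap π := by
    refine Eq.trans ?_ (congrArg (Ideal.comap π) h)
    show p.asIdeal = (p.asIdeal.map π).comap π
    rw [Ideal.comap_map_of_surjective π hsurj]
    exact (sup_eq_left.2 hpg).symm
  rw [hc']
  haveI : IsLocalHom π := IsLocalHom.of_surjective π hsurj
  exact ((local_hom_TFAE π).out 0 4).1 ‹_›

/-- Positivity of the intersection multiplicity, from the flatness of the two projections. -/
theorem chi_pos (π : B →+* A) (ι₂ : A →+* B) (h1 : ∀ a, π (algebraMap A B a) = a) (h2 : ∀ a, π (ι₂ a) = a)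
    (hf1 : ∀ J : Ideal A, Module.Flat A (B ⧸ J.map ι₂))
    (hf2 : ∀ J : Ideal A, ((Ideal.Quotient.mk (J.map (algebraMap A B))).comp ι₂).Flat)
    (I J : Ideal A) (hI : I ≠ ⊤) (hJ : J ≠ ⊤) {t a b : ℕ} (ht : ringKrullDim A = t)
    (ha : ringKrullDim (A ⧸ J) = a) (hb : ringKrullDim (A ⧸ I) = b) (hab : t ≤ a + b)
    (hsupp : ∀ p : PrimeSpectrum A, J ≤ p.asIdeal → I ≤ p.asIdeal → p.asIdeal = maximalIdeal A) :
    0 < IntMult.chi A (A ⧸ J) (A ⧸ I) := by
  obtain ⟨c, d, L, g, hc, hreg, hg, hL, hdL, hs, he⟩ := exists_diag_data π ι₂ h1 h2 hf1 hf2 I J hI hJ ht ha hb hsupp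
  rw [he]
  exact (tendsto_and_pos g hreg hg hL (by rw [hdL]; exact_mod_cast (by omega : c ≤ b + (a + d))) hs).2

/-- Vanishing of the intersection multiplicity below the expected dimension. -/
theorem chi_eq_zero (π : B →+* A) (ι₂ : A →+* B) (h1 : ∀ a, π (algebraMap A B a) = a) (h2 : ∀ a, π (ι₂ a) = a)
    (hf1 : ∀ J : Ideal A, Module.Flat A (B ⧸ J.map ι₂))
    (hf2 : ∀ J : Ideal A, ((Ideal.Quotient.mk (J.map (algebraMap A B))).comp ι₂).Flat)
    (I J : Ideal A) (hI : I ≠ ⊤) (hJ : J ≠ ⊤) {t a b : ℕ} (ht : ringKrullDim A = t)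
    (ha : ringKrullDim (A ⧸ J) = a) (hb : ringKrullDim (A ⧸ I) = b) (hab : a + b < t)
    (hsupp : ∀ p : PrimeSpectrum A, J ≤ p.asIdeal → I ≤ p.asIdeal → p.asIdeal = maximalIdeal A) :
    IntMult.chi A (A ⧸ J) (A ⧸ I) = 0 := by
  obtain ⟨c, d, L, g, hc, hreg, hg, hL, hdL, hs, he⟩ := exists_diag_data π ι₂ h1 h2 hf1 hf2 I J hI hJ ht ha hb hsupp
  rw [he]
  exact chi_eq_zero_of_dim_lt g hreg hg hL hdL (by omega) hs

end Groth.Agent.Diag27
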