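import Groth.Agent.Lib.Diag27.Additive
import Groth.Agent.Lib.Diag27.Local
import Groth.Agent.Lib.CI2.KoszulInv
import Groth.Agent.Lib.CI2.TorKoszul
import Mathlib.Algebra.Module.SnakeLemma
import Mathlib.RingTheory.Regular.RegularSequence

/-!
# Iterated multiplicities along a regular sequence commute with `Tor`
-/

set_option autoImplicit false
set_option backward.isDefEq.respectTransparency false
set_option linter.style.haveILetI false

universe u

open CategoryTheory CategoryTheory.Limits TensorProduct IsLocalRing RingTheory.Sequence Pointwise Groth.Agent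
open Groth.Agent.CanElt (KObj kd k0)

noncomputable section

namespace Groth.Agent.Diag27

variable {B : Type u} [CommRing B]

/-- The primes containing a list. -/
def Vl (g : List B) : Set (PrimeSpectrum B) := {p | ∀ y ∈ g, y ∈ p.asIdeal}

/-- Functions additive on finite modules supported in `W`. -/
structure IsAdd (W : Set (PrimeSpectrum B)) (φ : ModuleCat.{u} B → ℤ) : Prop where
  iso : ∀ {V V' : Type u} [AddCommGroup V] [Module B V] [AddCommGroup V'] [Module B V'],
    (V ≃ₗ[B] V') → φ (ModuleCat.of B V) = φ (ModuleCat.of B V')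
  add : ∀ (V : Type u) [AddCommGroup V] [Module B V] [Module.Finite B V], Module.support B V ⊆ W →
    ∀ S : Submodule B V, φ (ModuleCat.of B V) = φ (ModuleCat.of B S) + φ (ModuleCat.of B (V ⧸ S))

namespace IsAdd

variable {W : Set (PrimeSpectrum B)} {φ : ModuleCat.{u} B → ℤ}

theorem zero (h : IsAdd W φ) (V : Type u) [AddCommGroup V] [Module B V] [Subsingleton V] :
    φ (ModuleCat.of B V) = 0 := by
  have hs : Module.support B V ⊆ W := by
    rw [Module.support_eq_empty_iff.2 inferInstance]
    exact Set.empty_subset _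
  have := h.add V hs ⊤
  rw [h.iso Submodule.topEquiv, h.iso (LinearEquiv.ofSubsingleton (R := B) (V ⧸ (⊤ : Submodule B V)) V)] at this
  linarith

theorem exact (h : IsAdd W φ) {V₁ V₂ V₃ : Type u} [AddCommGroup V₁] [Module B V₁] [AddCommGroup V₂] [Module B V₂]
    [AddCommGroup V₃] [Module B V₃] [Module.Finite B V₂] (hs : Module.support B V₂ ⊆ W) (f : V₁ →ₗ[B] V₂)
    (g : V₂ →ₗ[B] V₃) (hex : Function.Exact f g) :
    φ (ModuleCat.of B V₂) = φ (ModuleCat.of B (LinearMap.range f)) + φ (ModuleCat.of B (LinearMap.range g)) := by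
  rw [h.add V₂ hs (LinearMap.ker g), h.iso g.quotKerEquivRange, h.iso (LinearEquiv.ofEq _ _ hex.linearMap_ker_eq)]

end IsAdd

/-- Iterating `φ(T/xT) − φ(T[x])`. -/
def ev (φ : ModuleCat.{u} B → ℤ) : List B → ModuleCat.{u} B → ℤ
  | [], T => φ T
  | x :: g, T => ev φ g (ModuleCat.of B (QuotSMulTop x T)) -
      ev φ g (ModuleCat.of B (LinearMap.ker (LinearMap.lsmul B T x)))

theorem support_subset_of_smul {V : Type u} [AddCommGroup V] [Module B V] {x : B} (h : ∀ v : V, x • v = 0) :
    Module.support B V ⊆ {p | x ∈ p.asIdeal} := by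
  intro p hp
  by_contra hx
  obtain ⟨v, hv⟩ := Module.mem_support_iff'.1 hp
  exact hv x hx (h v)

theorem smul_quotSMulTop {V : Type u} [AddCommGroup V] [Module B V] (x : B) (v : QuotSMulTop x V) : x • v = 0 :=
  Module.mem_annihilator.1 (QuotSMulTop.mem_annihilator V x) v

theorem smul_ker {V : Type u} [AddCommGroup V] [Module B V] (x : B) (v : LinearMap.ker (LinearMap.lsmul B V x)) :
    x • v = 0 :=
  Subtype.ext v.2

theorem exact_lsmul_mkQ (V : Type u) [AddCommGroup V] [Module B V] (x : B) :
    Function.Exact (LinearMap.lsmul B V x) (Submodule.mkQ (x • (⊤ : Submodule B V))) := by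
  intro v
  rw [Submodule.mkQ_apply, Submodule.Quotient.mk_eq_zero, Submodule.mem_smul_pointwise_iff_exists]
  exact ⟨fun ⟨w, h⟩ => ⟨w, h.2⟩, fun ⟨w, hw⟩ => ⟨w, trivial, hw⟩⟩

variable [IsNoetherianRing B]

theorem isAdd_ev : ∀ (g : List B) (W : Set (PrimeSpectrum B)) (φ : ModuleCat.{u} B → ℤ), IsAdd (W ∩ Vl g) φ →
    IsAdd W (ev φ g)
  | [], W, φ, h => by
    rw [show W ∩ Vl ([] : List B) = W from Set.inter_eq_left.2 fun p _ y hy => absurd hy List.not_mem_nil] at h
    exact h
  | x :: g, W, φ, h => by
    have ih : IsAdd (W ∩ {p | x ∈ p.asIdeal}) (ev φ g) := by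
      refine isAdd_ev g _ φ ?_
      convert h using 1
      ext p
      simp [Vl, and_assoc]
    refine ⟨fun {V V'} _ _ _ _ e => ?_, fun V _ _ _ hV S => ?_⟩
    · show _ - _ = _ - _
      rw [ih.iso (QuotSMulTop.congr x e), ih.iso (LinearEquiv.ofSubmodules e (LinearMap.ker (LinearMap.lsmul B V x))
        (LinearMap.ker (LinearMap.lsmul B V' x)) (by
          ext y
          simp [Submodule.mem_map_equiv, ← map_smul]))]
    let i₁ := LinearMap.lsmul B S x
    let i₂ := LinearMap.lsmul B V x
    let i₃ := LinearMap.lsmul B (V ⧸ S) x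
    have h1 : S.subtype.comp i₁ = i₂.comp S.subtype := LinearMap.ext fun _ => rfl
    have h2 : S.mkQ.comp i₂ = i₃.comp S.mkQ := LinearMap.ext fun _ => rfl
    let δ := SnakeLemma.δ' i₁ i₂ i₃ S.subtype S.mkQ (LinearMap.exact_subtype_mkQ S) S.subtype S.mkQ
      (LinearMap.exact_subtype_mkQ S) h1 h2 (LinearMap.ker i₃).subtype (LinearMap.exact_subtype_ker_map i₃)
      (Submodule.mkQ (x • (⊤ : Submodule B S))) (exact_lsmul_mkQ S x) S.mkQ_surjective S.injective_subtype
    let a : LinearMap.ker i₁ →ₗ[B] LinearMap.ker i₂ := S.subtype.restrict fun v hv => by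
      rw [LinearMap.mem_ker] at hv ⊢
      exact congrArg Subtype.val hv
    let b : LinearMap.ker i₂ →ₗ[B] LinearMap.ker i₃ := S.mkQ.restrict fun v hv => by
      rw [LinearMap.mem_ker] at hv ⊢
      show x • S.mkQ v = 0
      rw [← map_smul, show x • v = 0 from hv, map_zero]
    have hab : Function.Exact a b := by
      intro v
      constructor
      · intro hv
        have hvS : (v : V) ∈ S := (Submodule.Quotient.mk_eq_zero S).1 (congrArg Subtype.val hv)
        exact ⟨⟨⟨v, hvS⟩, Subtype.ext v.2⟩, rfl⟩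
      · rintro ⟨w, rfl⟩
        exact Subtype.ext ((Submodule.Quotient.mk_eq_zero S).2 w.1.2)
    have hbδ : Function.Exact b δ :=
      SnakeLemma.exact_δ'_right i₁ i₂ i₃ S.subtype S.mkQ (LinearMap.exact_subtype_mkQ S) S.subtype S.mkQ
        (LinearMap.exact_subtype_mkQ S) h1 h2 (LinearMap.ker i₂).subtype (LinearMap.exact_subtype_ker_map i₂)
        _ _ _ _ S.mkQ_surjective S.injective_subtype b (LinearMap.ext fun _ => rfl) (Submodule.injective_subtype _)
    have hδc : Function.Exact δ (QuotSMulTop.map x S.subtype) :=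
      SnakeLemma.exact_δ'_left i₁ i₂ i₃ S.subtype S.mkQ (LinearMap.exact_subtype_mkQ S) S.subtype S.mkQ
        (LinearMap.exact_subtype_mkQ S) h1 h2 _ _ _ _ (Submodule.mkQ (x • (⊤ : Submodule B V))) (exact_lsmul_mkQ V x)
        S.mkQ_surjective S.injective_subtype _ (LinearMap.ext fun _ => rfl) (Submodule.mkQ_surjective _)
    have hcd : Function.Exact (QuotSMulTop.map x S.subtype) (QuotSMulTop.map x S.mkQ) :=
      QuotSMulTop.map_exact x (LinearMap.exact_subtype_mkQ S) S.mkQ_surjective
    have sK : ∀ (U : Type u) [AddCommGroup U] [Module B U], Module.support B U ⊆ W →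
        Module.support B (LinearMap.ker (LinearMap.lsmul B U x)) ⊆ W ∩ {p | x ∈ p.asIdeal} := fun U _ _ hU =>
      Set.subset_inter ((Module.support_subset_of_injective _ (Submodule.injective_subtype _)).trans hU)
        (support_subset_of_smul (smul_ker x))
    have sC : ∀ (U : Type u) [AddCommGroup U] [Module B U], Module.support B U ⊆ W →
        Module.support B (QuotSMulTop x U) ⊆ W ∩ {p | x ∈ p.asIdeal} := fun U _ _ hU =>
      Set.subset_inter ((Module.support_subset_of_surjective _ (Submodule.mkQ_surjective _)).trans hU)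
        (support_subset_of_smul (smul_quotSMulTop x))
    have hS : Module.support B S ⊆ W := (Module.support_subset_of_injective _ S.injective_subtype).trans hV
    have hQ : Module.support B (V ⧸ S) ⊆ W := (Module.support_subset_of_surjective _ S.mkQ_surjective).trans hV
    have e2 := ih.exact (sK V hV) a b hab
    have e3 := ih.exact (sK _ hQ) b δ hbδ
    have c1 := ih.exact (sC S hS) δ _ hδc
    have c2 := ih.exact (sC V hV) _ _ hcd
    have ea : ev φ g (ModuleCat.of B (LinearMap.range a)) = ev φ g (ModuleCat.of B (LinearMap.ker i₁)) :=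
      (ih.iso (LinearEquiv.ofInjective a fun p q e => Subtype.ext (Subtype.ext (congrArg Subtype.val e :)))).symm
    have ed : ev φ g (ModuleCat.of B (LinearMap.range (QuotSMulTop.map x S.mkQ))) =
        ev φ g (ModuleCat.of B (QuotSMulTop x (V ⧸ S))) :=
      ih.iso ((LinearEquiv.ofEq _ _ (LinearMap.range_eq_top.2 (QuotSMulTop.map_surjective x S.mkQ_surjective))).trans
        Submodule.topEquiv)
    show _ - _ = (_ - _) + (_ - _)
    linarith

variable [IsLocalRing B]

/-- Length as an additive function near the closed point. -/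
theorem isAdd_length {W : Set (PrimeSpectrum B)} (h : ∀ p ∈ W, p.asIdeal = maximalIdeal B) :
    IsAdd W (fun T : ModuleCat.{u} B => ((Module.length B T).toNat : ℤ)) := by
  refine ⟨fun {V V'} _ _ _ _ e => ?_, fun V _ _ _ hV S => ?_⟩
  · show ((Module.length B V).toNat : ℤ) = (Module.length B V').toNat
    rw [e.length_eq]
  · show ((Module.length B V).toNat : ℤ) = (Module.length B S).toNat + (Module.length B (V ⧸ S)).toNat
    have hfin : Module.length B V ≠ ⊤ := Module.length_ne_top_iff.2
      (HilbSam.isFiniteLength_of_support fun p hp => h p (hV hp) ▸ maximalIdeal.isMaximal B)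
    have hadd := Module.length_eq_add_of_exact S.subtype S.mkQ S.injective_subtype S.mkQ_surjective
      (LinearMap.exact_subtype_mkQ S)
    rw [hadd] at hfin ⊢
    rw [ENat.toNat_add (ne_top_of_le_ne_top hfin le_self_add) (ne_top_of_le_ne_top hfin le_add_self)]
    push_cast
    rfl

theorem support_homology (Q X : Type u) [AddCommGroup Q] [Module B Q] [AddCommGroup X] [Module B X]
    [Module.Finite B Q] [Module.Finite B X] (n : ℕ) :
    Module.support B ((TC (ModuleCat.of B X) (ModuleCat.of B Q)).homology n) ⊆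
      Module.support B X ∩ Module.support B Q := by
  intro p hp
  obtain ⟨η, hη⟩ := Module.mem_support_iff'.1 hp
  obtain ⟨e⟩ := TorBal27.nonempty_tor_iso_flip (R := B) n
  let ε : (TC (ModuleCat.of B X) (ModuleCat.of B Q)).homology n ≅ (TC (ModuleCat.of B Q) (ModuleCat.of B X)).homology n :=
    (TorBal27.torIso n (ModuleCat.of B Q) (ModuleCat.of B X)).symm ≪≫
      (e.app (ModuleCat.of B Q)).app (ModuleCat.of B X) ≪≫ TorBal27.torIso n (ModuleCat.of B X) (ModuleCat.of B Q)
  constructor <;> rw [Module.support_eq_zeroLocus] <;> intro a ha <;> by_contra hap <;> refine hη a hap ?_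
  · refine ε.toLinearEquiv.injective ?_
    rw [map_smul, map_zero]
    exact smul_homology (ModuleCat.of B Q) (ModuleCat.of B X) n a (fun x => Module.mem_annihilator.1 ha x) _
  · exact smul_homology (ModuleCat.of B X) (ModuleCat.of B Q) n a (fun x => Module.mem_annihilator.1 ha x) η

theorem map_lsmul_homology (X : ModuleCat.{u} B) (Q : Type u) [AddCommGroup Q] [Module B Q] (x : B) (i : ℕ) :
    (HomologicalComplex.homologyMap (tm X (ModuleCat.ofHom (LinearMap.lsmul B Q x))) i).hom =
      LinearMap.lsmul B ((TC X (ModuleCat.of B Q)).homology i) x := by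
  refine LinearMap.ext fun η => TorBal27.phi_injective (ModuleCat.of B Q) X i ?_
  refine (TorBal27.phi_natural (ModuleCat.ofHom (LinearMap.lsmul B Q x)) (𝟙 X) i η).trans ?_
  show _ = TorBal27.phi (ModuleCat.of B Q) X i (x • η)
  rw [map_smul]
  generalize TorBal27.phi (ModuleCat.of B Q) X i η = z
  induction z using TensorProduct.induction_on with
  | zero => simp
  | add a b ha hb => rw [map_add, smul_add, ha, hb]
  | tmul q k =>
    simp [TensorProduct.smul_tmul']

/-- Iterated multiplicities commute with `Tor`. -/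
theorem sum_ev (X : Type u) [AddCommGroup X] [Module B X] [Module.Finite B X] {t : ℕ}
    (hvan : ∀ (Q : Type u) [AddCommGroup Q] [Module B Q] [Module.Finite B Q], ∀ n, t < n →
      Subsingleton ((TC (ModuleCat.of B X) (ModuleCat.of B Q)).homology n)) :
    ∀ (g : List B) (Q : Type u) [AddCommGroup Q] [Module B Q] [Module.Finite B Q] (W : Set (PrimeSpectrum B))
      (φ : ModuleCat.{u} B → ℤ), IsWeaklyRegular Q g → Module.support B X ∩ Module.support B Q ⊆ W →
      IsAdd (W ∩ Vl g) φ →
      ∑ i ∈ Finset.range (t + 1), (-1 : ℤ) ^ i * ev φ g ((TC (ModuleCat.of B X) (ModuleCat.of B Q)).homology i) =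
        ∑ i ∈ Finset.range (t + 1), (-1 : ℤ) ^ i *
          φ ((TC (ModuleCat.of B X) (ModuleCat.of B (Q ⧸ (Ideal.ofList g • ⊤ : Submodule B Q)))).homology i) := by
  intro g
  induction g with
  | nil =>
    intro Q _ _ _ W φ _ _ hφ
    refine Finset.sum_congr rfl fun i _ => ?_
    congr 1
    let e : Q ≃ₗ[B] Q ⧸ (Ideal.ofList ([] : List B) • ⊤ : Submodule B Q) :=
      (Submodule.quotEquivOfEqBot _ (by rw [Ideal.ofList_nil, Submodule.bot_smul])).symm
    exact hφ.iso (((TorBal27.torIso i (ModuleCat.of B Q) (ModuleCat.of B X)).symm ≪≫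
      ((Tor (ModuleCat.{u} B) i).mapIso e.toModuleIso).app (ModuleCat.of B X) ≪≫
        TorBal27.torIso i _ (ModuleCat.of B X)).toLinearEquiv)
  | cons x g ih =>
    intro Q _ _ _ W φ hreg hW hφ
    rw [isWeaklyRegular_cons_iff] at hreg
    have hφ' : IsAdd ((W ∩ {p | x ∈ p.asIdeal}) ∩ Vl g) φ := by
      convert hφ using 1
      ext p
      simp [Vl, and_assoc]
    have hW' : Module.support B X ∩ Module.support B (QuotSMulTop x Q) ⊆ W ∩ {p | x ∈ p.asIdeal} := fun p hp =>
      ⟨hW ⟨hp.1, Module.support_subset_of_surjective _ (Submodule.mkQ_surjective _) hp.2⟩,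
        support_subset_of_smul (smul_quotSMulTop x) hp.2⟩
    have h1 := ih (QuotSMulTop x Q) (W ∩ {p | x ∈ p.asIdeal}) φ hreg.2 hW' hφ'
    have hψ := isAdd_ev g _ φ hφ'
    let e₂ : (Q ⧸ (Ideal.ofList (x :: g) • ⊤ : Submodule B Q)) ≃ₗ[B]
        QuotSMulTop x Q ⧸ (Ideal.ofList g • ⊤ : Submodule B (QuotSMulTop x Q)) :=
      Submodule.quotOfListConsSMulTopEquivQuotSMulTopInner Q x g
    refine Eq.trans ?_ (h1.trans (Finset.sum_congr rfl fun i _ => congrArg ((-1 : ℤ) ^ i * ·)
      (hφ.iso ((((TorBal27.torIso i _ (ModuleCat.of B X)).symm ≪≫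
        ((Tor (ModuleCat.{u} B) i).mapIso e₂.toModuleIso).app (ModuleCat.of B X) ≪≫
          TorBal27.torIso i _ (ModuleCat.of B X)).symm).toLinearEquiv))))
    let N := ModuleCat.of B X
    let H := fun i => (TC N (ModuleCat.of B Q)).homology i
    let H' := fun i => (TC N (ModuleCat.of B (QuotSMulTop x Q))).homology i
    have hS : (ShortComplex.mk (ModuleCat.ofHom (LinearMap.lsmul B Q x))
        (ModuleCat.ofHom (Submodule.mkQ (x • (⊤ : Submodule B Q))))
        (ModuleCat.hom_ext (LinearMap.ext fun v => (exact_lsmul_mkQ Q x _).2 ⟨v, rfl⟩))).ShortExact :=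
      { exact := (ShortComplex.ShortExact.moduleCat_exact_iff_function_exact _).2 (exact_lsmul_mkQ Q x)
        mono_f := (ModuleCat.mono_iff_injective _).2 hreg.1
        epi_g := (ModuleCat.epi_iff_surjective _).2 (Submodule.mkQ_surjective _) }
    have hT := shortExact_tm N hS
    let G := fun n => (HomologicalComplex.homologyMap (tm N (ModuleCat.ofHom (Submodule.mkQ (x • (⊤ : Submodule B Q))))) n).hom
    let D := fun n => (hT.δ (n + 1) n rfl).hom
    have eFG : ∀ n, Function.Exact (LinearMap.lsmul B (H n) x) (G n) := fun n => by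
      have h := (ShortComplex.ShortExact.moduleCat_exact_iff_function_exact _).1 (hT.homology_exact₂ n)
      rw [← map_lsmul_homology N Q x n]
      exact h
    have eDF : ∀ n, Function.Exact (D n) (LinearMap.lsmul B (H n) x) := fun n => by
      have h := (ShortComplex.ShortExact.moduleCat_exact_iff_function_exact _).1 (hT.homology_exact₁ (n + 1) n rfl)
      rw [← map_lsmul_homology N Q x n]
      exact h
    have eGD : ∀ n, Function.Exact (G (n + 1)) (D n) := fun n =>
      (ShortComplex.ShortExact.moduleCat_exact_iff_function_exact _).1 (hT.homology_exact₃ (n + 1) n rfl)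
    have hfin : ∀ n, Module.Finite B (H' n) := fun n => finite_homology X n (QuotSMulTop x Q)
    have hsup : ∀ n, Module.support B (H' n) ⊆ W ∩ {p | x ∈ p.asIdeal} := fun n =>
      (support_homology (QuotSMulTop x Q) X n).trans hW'
    let u' := fun n => ev φ g (ModuleCat.of B (QuotSMulTop x (H n)))
    let v' := fun n => ev φ g (ModuleCat.of B (LinearMap.ker (LinearMap.lsmul B (H n) x)))
    have hG : ∀ n, ev φ g (ModuleCat.of B (LinearMap.range (G n))) = u' n := fun n => by
      have hk : LinearMap.ker (G n) = x • (⊤ : Submodule B (H n)) := by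
        rw [(eFG n).linearMap_ker_eq, ← LinearMap.exact_iff.1 (exact_lsmul_mkQ (H n) x), Submodule.ker_mkQ]
      exact hψ.iso ((G n).quotKerEquivRange.symm.trans (Submodule.quotEquivOfEq _ _ hk))
    have hD : ∀ n, ev φ g (ModuleCat.of B (LinearMap.range (D n))) = v' n := fun n =>
      hψ.iso (LinearEquiv.ofEq _ _ (eDF n).linearMap_ker_eq.symm)
    have hc : ∀ n, ev φ g (H' (n + 1)) = u' (n + 1) + v' n := fun n => by
      haveI := hfin (n + 1)
      rw [← hG, ← hD]
      exact hψ.exact (hsup (n + 1)) (G (n + 1)) (D n) (eGD n)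
    have hc0 : ev φ g (H' 0) = u' 0 := by
      have hsurj : Function.Surjective (G 0) := by
        intro y
        obtain ⟨w, hw⟩ := LinearMap.rTensor_surjective (N : ModuleCat.{u} B) (Submodule.mkQ_surjective (x • (⊤ : Submodule B Q)))
          (TorBal27.phi (ModuleCat.of B (QuotSMulTop x Q)) N 0 y)
        obtain ⟨η, rfl⟩ := TorBal27.phi_zero_surjective (ModuleCat.of B Q) N w
        exact ⟨η, TorBal27.phi_injective (ModuleCat.of B (QuotSMulTop x Q)) N 0
          ((TorBal27.phi_natural (ModuleCat.ofHom (Submodule.mkQ (x • (⊤ : Submodule B Q)))) (𝟙 N) 0 η).trans hw)⟩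
      rw [← hG 0]
      exact (hψ.iso ((LinearEquiv.ofEq _ _ (LinearMap.range_eq_top.2 hsurj)).trans Submodule.topEquiv)).symm
    have key : ∀ m, ∑ i ∈ Finset.range (m + 1), (-1 : ℤ) ^ i * ev φ g (H' i) =
        (∑ i ∈ Finset.range (m + 1), (-1 : ℤ) ^ i * (u' i - v' i)) + (-1 : ℤ) ^ m * v' m := by
      intro m
      induction m with
      | zero => simp [hc0]
      | succ m ihm =>
        rw [Finset.sum_range_succ, ihm, Finset.sum_range_succ (n := m + 1), hc m]
        ring
    have hv : v' t = 0 := by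
      haveI : Subsingleton (H' (t + 1)) := hvan (QuotSMulTop x Q) (t + 1) (Nat.lt_succ_self t)
      have hD0 : D t = 0 := LinearMap.ext fun η => by
        rw [Subsingleton.elim η 0, map_zero, map_zero]
      haveI : Subsingleton (LinearMap.range (D t)) := by
        rw [hD0, LinearMap.range_zero]
        infer_instance
      rw [← hD t]
      exact hψ.zero _
    have hk := key t
    rw [hv, mul_zero, add_zero] at hk
    exact hk.symm

variable [IsRegularLocalRing B]

/-- The iterated length is the multiplicity against the quotient by the sequence. -/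
theorem ev_length_eq_chi {t : ℕ} (ht : ringKrullDim B = t) (g : List B) (hg : IsWeaklyRegular B g)
    (T : Type u) [AddCommGroup T] [Module B T] [Module.Finite B T]
    (hT : Module.support B T ∩ Vl g ⊆ {p | p.asIdeal = maximalIdeal B}) :
    ev (fun V : ModuleCat.{u} B => ((Module.length B V).toNat : ℤ)) g (ModuleCat.of B T) =
      IntMult.chi B T (B ⧸ Ideal.ofList g) := by
  have hA := isAdd_length (B := B) (W := Module.support B T ∩ Vl g) fun p hp => hT hp
  have hev := isAdd_ev g (Module.support B T) _ hA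
  have h := sum_ev T (t := t) (fun Q _ _ _ => (chi_eq_sum ht Q T).1) g B (Module.support B T) _ hg
    Set.inter_subset_left hA
  rw [← (chi_eq_sum ht (B ⧸ (Ideal.ofList g • ⊤ : Submodule B B)) T).2,
    chi_congr (Submodule.quotEquivOfEq _ (Ideal.ofList g) (by rw [Ideal.smul_eq_mul, Ideal.mul_top])), chi_comm,
    Finset.sum_eq_single 0] at h
  · rw [← h, pow_zero, one_mul]
    let e : (TC (ModuleCat.of B T) (ModuleCat.of B B)).homology 0 ≃ₗ[B] T :=
      (LinearEquiv.ofBijective (TorBal27.phi (ModuleCat.of B B) (ModuleCat.of B T) 0)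
        ⟨TorBal27.phi_injective _ _ 0, TorBal27.phi_zero_surjective _ _⟩).trans (TensorProduct.lid B T)
    exact hev.iso e.symm
  · intro n _ hn
    obtain ⟨m, rfl⟩ : ∃ m, n = m + 1 := ⟨n - 1, by omega⟩
    haveI : Subsingleton ((TC (ModuleCat.of B T) (ModuleCat.of B B)).homology (m + 1)) :=
      ModuleCat.subsingleton_of_isZero ((TorBal.isZero_tor_flat_left B m (ModuleCat.of B T)).of_iso
        (TorBal27.torIso (m + 1) (ModuleCat.of B B) (ModuleCat.of B T)).symm)
    rw [hev.zero ((TC (ModuleCat.of B T) (ModuleCat.of B B)).homology (m + 1)), mul_zero]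
  · simp

/-- Multiplicities along a regular sequence commute with `Tor`. -/
theorem sum_chi {t : ℕ} (ht : ringKrullDim B = t) (g : List B) (hg : IsWeaklyRegular B g)
    (X Q : Type u) [AddCommGroup X] [Module B X] [Module.Finite B X] [AddCommGroup Q] [Module B Q] [Module.Finite B Q]
    (hQ : IsWeaklyRegular Q g)
    (hW : Module.support B X ∩ Module.support B Q ∩ Vl g ⊆ {p | p.asIdeal = maximalIdeal B}) :
    ∑ i ∈ Finset.range (t + 1), (-1 : ℤ) ^ i *
        IntMult.chi B ((TC (ModuleCat.of B X) (ModuleCat.of B Q)).homology i) (B ⧸ Ideal.ofList g) =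
      IntMult.chi B (Q ⧸ (Ideal.ofList g • ⊤ : Submodule B Q)) X := by
  rw [(chi_eq_sum ht (Q ⧸ (Ideal.ofList g • ⊤ : Submodule B Q)) X).2,
    ← sum_ev X (fun Q' _ _ _ => (chi_eq_sum ht Q' X).1) g Q (Module.support B X ∩ Module.support B Q)
      (fun V => ((Module.length B V).toNat : ℤ)) hQ le_rfl (isAdd_length fun p hp => hW hp)]
  refine Finset.sum_congr rfl fun i _ => ?_
  haveI := finite_homology (A := B) X i Q
  rw [← ev_length_eq_chi ht g hg ((TC (ModuleCat.of B X) (ModuleCat.of B Q)).homology i)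
    (fun p hp => hW ⟨support_homology Q X i hp.1, hp.2⟩)]

omit [IsRegularLocalRing B] in
/-- Koszul acyclicity gives a regular sequence after reversing. -/
theorem isWeaklyRegular_reverse (M : Type u) [AddCommGroup M] [Module B M] [Module.Finite B M] :
    ∀ (l : List B), (∀ y ∈ l, y ∈ maximalIdeal B) → CI2.Ex B M l → IsWeaklyRegular M l.reverse := by
  intro l
  induction l with
  | nil => exact fun _ _ => IsWeaklyRegular.nil B M
  | cons f l ih =>
    intro hl h
    obtain ⟨h1, h2⟩ := (CI2.ex_cons_iff f l).1 h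
    have hf : f ∈ maximalIdeal B := hl f (List.mem_cons_self ..)
    have hex : CI2.Ex B M l := by
      intro n z hz
      haveI := CI2.finite_KObj_module M l (n + 1)
      have hle : LinearMap.ker (kd B M l n) ≤ LinearMap.range (kd B M l (n + 1)) ⊔
          (Ideal.span {f}) • LinearMap.ker (kd B M l n) := fun z hz => by
        obtain ⟨w, c, hc, rfl⟩ := h1 n z hz
        exact add_mem (Submodule.mem_sup_left (LinearMap.mem_range_self _ w))
          (Submodule.mem_sup_right (Submodule.smul_mem_smul (Ideal.mem_span_singleton_self f) hc))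
      exact Submodule.le_of_le_smul_of_le_jacobson_bot (IsNoetherian.noetherian _)
        (by rw [IsLocalRing.jacobson_eq_maximalIdeal ⊥ bot_ne_top, Ideal.span_singleton_le_iff_mem]; exact hf) hle hz
    rw [List.reverse_cons, isWeaklyRegular_append_iff]
    refine ⟨ih (fun y hy => hl y (List.mem_cons_of_mem _ hy)) hex, ?_⟩
    rw [isWeaklyRegular_cons_iff]
    refine ⟨?_, IsWeaklyRegular.nil B _⟩
    rw [isSMulRegular_iff_right_eq_zero_of_smul]
    intro q hq
    obtain ⟨b, rfl⟩ := Submodule.Quotient.mk_surjective _ q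
    rw [← Submodule.Quotient.mk_smul, Submodule.Quotient.mk_eq_zero] at hq
    rw [Submodule.Quotient.mk_eq_zero]
    have hrev : Ideal.ofList l.reverse = Ideal.ofList l := by
      simp [Ideal.ofList]
    rw [hrev] at hq ⊢
    obtain ⟨w, hw⟩ := (CanElt.mem_range_kd_zero B M l (f • (k0 B M l).symm b)).2
      (by rw [map_smul, LinearEquiv.apply_symm_apply]; exact hq)
    obtain ⟨v, hv⟩ := h2 0 ((k0 B M l).symm b) trivial ⟨w, hw⟩
    have := (CanElt.mem_range_kd_zero B M l ((k0 B M l).symm b)).1 ⟨v, hv⟩
    rwa [LinearEquiv.apply_symm_apply] at this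

end Groth.Agent.Diag27
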