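import Groth.Agent.Lib.Diag27.AssocGeom
import Groth.Agent.Lib.ModM1.Stalk
import Groth.Agent.Lib.NumPoly18.Euler
import Groth.Agent.Lib.Cyc26.LimitCycle

/-!
# Linearity of the intersection product
-/

set_option autoImplicit false
set_option backward.isDefEq.respectTransparency.types false
set_option linter.style.haveILetI false

universe u

open CategoryTheory AlgebraicGeometry Groth.Agent

noncomputable section

namespace Groth.Agent.Diag27

variable {X : Scheme.{u}} {δ : X → ℤ}

/-- Only finitely many points above `ζ` carry a coefficient. -/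
def FinAt (ζ : X) (α : X → ℤ) : Prop := {ξ : X | ξ ⤳ ζ ∧ α ξ ≠ 0}.Finite

theorem finAt_sheafFun [IsLocallyNoetherian X] (hd : Cyc.IsDimFun X δ) (ζ : X) (k : ℤ) {E : X.Modules}
    (hE : Coh.IsCoh E) (hk : ∀ x, Nontrivial (E.presheaf.stalk x) → δ x ≤ k) : FinAt ζ (Cyc.sheafFun δ k E) := by
  haveI := M1.finite_stalk hE.1 hE.2 ζ
  have hsd : Module.supportDim (X.presheaf.stalk ζ) (E.presheaf.stalk ζ) ≤ ((k - δ ζ).toNat : ℕ) := by
    refine supportDim_le_of_forall fun p hp => ?_
    have hP := fromSpecStalk_specializes ζ p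
    rw [← genPrime_fromSpecStalk p hP] at hp ⊢
    rw [dim_genPrime hd hP]
    have := hk _ ((Cyc26.mem_support_stalk_iff hE.1 hP).1 hp)
    exact_mod_cast (show (δ (X.fromSpecStalk ζ p) - δ ζ).toNat ≤ (k - δ ζ).toNat by omega)
  refine ((finite_top (E.presheaf.stalk ζ) hsd).image (fun p => X.fromSpecStalk ζ p)).subset ?_
  rintro ξ ⟨h, hne⟩
  refine ⟨genPrime h, ?_, fromSpecStalk_genPrime h⟩
  unfold Cyc.sheafFun at hne
  split_ifs at hne with hk'
  · refine ⟨by rw [dim_genPrime hd h, hk'], (Cyc26.mem_support_stalk_iff hE.1 h).2 ?_⟩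
    by_contra hc
    haveI := not_nontrivial_iff_subsingleton.1 hc
    exact hne (by rw [Module.length_eq_zero]; simp)
  · exact absurd rfl hne

theorem finAt_sum {ι : Type*} (ζ : X) (s : Finset ι) (c : ι → ℤ) (a : ι → X → ℤ) (h : ∀ i ∈ s, FinAt ζ (a i)) :
    FinAt ζ (fun x => ∑ i ∈ s, c i * a i x) := by
  refine (s.finite_toSet.biUnion h).subset ?_
  rintro ξ ⟨hξ, hne⟩
  obtain ⟨i, hi, hi'⟩ := Finset.exists_ne_zero_of_sum_ne_zero hne
  exact Set.mem_biUnion hi ⟨hξ, right_ne_zero_of_mul hi'⟩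

theorem interProd_sum_left {ι : Type*} (n : ℤ) (ζ : X) (s : Finset ι) (c : ι → ℤ) (a : ι → X → ℤ) (β : X → ℤ)
    (ha : ∀ i ∈ s, FinAt ζ (a i)) (hβ : FinAt ζ β) :
    IntMult.interProd δ n (fun x => ∑ i ∈ s, c i * a i x) β ζ = ∑ i ∈ s, c i * IntMult.interProd δ n (a i) β ζ := by
  unfold IntMult.interProd
  simp only [Finset.sum_mul]
  rw [finsum_sum_comm]
  · refine Finset.sum_congr rfl fun i _ => ?_
    rw [mul_finsum]
    exact finsum_congr fun p => by ring
  · intro i hi
    refine (((ha i hi).prod hβ).preimage Subtype.val_injective.injOn).subset fun p hp => ?_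
    have h1 := left_ne_zero_of_mul hp
    exact ⟨⟨p.2.1, right_ne_zero_of_mul (left_ne_zero_of_mul h1)⟩, ⟨p.2.2.1, right_ne_zero_of_mul h1⟩⟩

theorem interProd_sum_right {ι : Type*} (n : ℤ) (ζ : X) (s : Finset ι) (c : ι → ℤ) (α : X → ℤ) (b : ι → X → ℤ)
    (hα : FinAt ζ α) (hb : ∀ i ∈ s, FinAt ζ (b i)) :
    IntMult.interProd δ n α (fun x => ∑ i ∈ s, c i * b i x) ζ = ∑ i ∈ s, c i * IntMult.interProd δ n α (b i) ζ := by
  rw [interProd_comm, interProd_sum_left n ζ s c b α hb hα]
  exact Finset.sum_congr rfl fun i _ => by rw [interProd_comm]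

/-- A cycle on a compact scheme is a finite sum of prime cycles. -/
theorem cycle_eq_sum [CompactSpace X] (α : AlgebraicCycle X ℤ) :
    ⇑α = fun x => ∑ u ∈ (Cyc26Lim.finite_support α).toFinset, α u * Set.indicator {u} (1 : X → ℤ) x := by
  classical
  funext x
  simp only [Set.indicator_apply, Set.mem_singleton_iff, Pi.one_apply, mul_ite, mul_one, mul_zero, Finset.sum_ite_eq,
    Set.Finite.mem_toFinset, Function.mem_support]
  split_ifs with h
  · rfl
  · simpa using h

/-- The cycle of the reduced closure of a point. -/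
theorem sheafFun_ptMod [IsNoetherian X] (hd : Cyc.IsDimFun X δ) (v : X) :
    Cyc.sheafFun δ (δ v) (NumPoly18.ptMod v) = Set.indicator {v} 1 ∧
      ∀ x, Nontrivial ((NumPoly18.ptMod v).presheaf.stalk x) → v ⤳ x := by
  have hs : ∀ x, Nontrivial ((NumPoly18.ptMod v).presheaf.stalk x) → v ⤳ x := fun x hx =>
    specializes_iff_mem_closure.2 (NumPoly18.support_ptMod v (not_subsingleton_iff_nontrivial.2 hx))
  refine ⟨?_, hs⟩
  funext x
  by_cases hx : x = v
  · subst hx
    have h1 : NumPoly18.lenAt (NumPoly18.ptMod x) x = 1 := NumPoly18.lenAt_ptMod_self x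
    rw [Set.indicator_of_mem (Set.mem_singleton x), Pi.one_apply, Cyc.sheafFun, if_pos rfl]
    unfold NumPoly18.lenAt at h1
    exact_mod_cast h1
  · rw [Set.indicator_of_notMem (by simpa using hx), Cyc.sheafFun]
    split_ifs with hk
    · have hn : ¬ Nontrivial ((NumPoly18.ptMod v).presheaf.stalk x) := fun h =>
        hx (eq_of_delta_le hd (hs x h) hk.ge).symm
      haveI := not_nontrivial_iff_subsingleton.1 hn
      rw [Module.length_eq_zero]
      simp
    · rfl

end Groth.Agent.Diag27
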