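import Groth.Agent.Lib.Diag27.DiagMult
import Groth.Agent.Lib.DimF18.Prod
import Groth.Agent.Lib.FibFlat5.Quot
import Groth.Agent.Lib.IntMult26.CMLength
import Groth.Agent.Lib.Cyc26.DegC1
import Groth.Agent.Lib.CubeField.Simple
import Mathlib.AlgebraicGeometry.Geometrically.Integral

/-!
# Pullbacks of points to a product, and their intersection
-/

set_option autoImplicit false
set_option linter.style.haveILetI false

universe u

open CategoryTheory CategoryTheory.Limits AlgebraicGeometry IsLocalRing Groth.Agent Groth.Agent.VarDim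

noncomputable section

namespace Groth.Agent.Diag27

theorem eq_of_sdim_le {k : Type u} [Field k] {X : Scheme.{u}} (f : X ⟶ Spec (CommRingCat.of k))
    [LocallyOfFiniteType f] {x y : X} (h : x ⤳ y) (hle : sdim f x ≤ sdim f y) : x = y := by
  by_contra hne
  exact (sdim_lt_of_specializes f h hne).not_ge hle

theorem sdim_mono {k : Type u} [Field k] {X : Scheme.{u}} (f : X ⟶ Spec (CommRingCat.of k))
    [LocallyOfFiniteType f] {x y : X} (h : x ⤳ y) : sdim f y ≤ sdim f x := by
  rcases eq_or_ne x y with rfl | hne
  · exact le_rfl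
  · exact (sdim_lt_of_specializes f h hne).le

/-- The generic point of an integral fibre, with its prime in the local rings along the fibre. -/
theorem exists_fibre_gen {Z X : Scheme.{u}} (p : Z ⟶ X) [GeometricallyIntegral p] (a : X) :
    ∃ ξ : Z, p ξ = a ∧ ∀ z : Z, p z = a → ∃ h : ξ ⤳ z,
      (genPrime h).asIdeal = (maximalIdeal (X.presheaf.stalk (p z))).map (p.stalkMap z).hom := by
  refine ⟨p.fiberι a (genericPoint (p.fiber a)), (p.range_fiberι a).le ⟨_, rfl⟩, fun z hz => ?_⟩
  obtain ⟨z', rfl⟩ : z ∈ Set.range (p.fiberι a) := (p.range_fiberι a).ge hz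
  refine ⟨(genericPoint_specializes z').map (p.fiberι a).continuous, ?_⟩
  have e : PrimeSpectrum.comap ((p.fiberι a).stalkMap z').hom (genPrime (genericPoint_specializes z')) =
      genPrime ((genericPoint_specializes z').map (p.fiberι a).continuous) := by
    refine (Z.fromSpecStalk (p.fiberι a z')).isEmbedding.injective ?_
    rw [fromSpecStalk_genPrime]
    have h1 : Z.fromSpecStalk (p.fiberι a z') (Spec.map ((p.fiberι a).stalkMap z') (genPrime (genericPoint_specializes z'))) =
        p.fiberι a ((p.fiber a).fromSpecStalk z' (genPrime (genericPoint_specializes z'))) := by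
      rw [← Scheme.Hom.comp_apply, Scheme.SpecMap_stalkMap_fromSpecStalk, Scheme.Hom.comp_apply]
    rw [fromSpecStalk_genPrime] at h1
    exact h1
  rw [← e, ← FibFlat5.ker_stalkMap_fiberι p z']
  show Ideal.comap _ (genPrime (genericPoint_specializes z')).asIdeal = _
  rw [genPrime_eq_bot]
  rfl

variable {K : Type u} [Field K] {X Y : Scheme.{u}} (f : X ⟶ Spec (CommRingCat.of K)) (g : Y ⟶ Spec (CommRingCat.of K))

/-- Flatness over the first factor of the quotient by an ideal of the second one. -/
theorem flat_quot_snd (I : Y.IdealSheafData) (z : ↥(pullback f g)) (h : pullback.snd f g z ∈ I.support) :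
    ((Ideal.Quotient.mk ((IntMult.stalkIdeal I (pullback.snd f g z)).map ((pullback.snd f g).stalkMap z).hom)).comp
      ((pullback.fst f g).stalkMap z).hom).Flat := by
  set p := pullback.fst f g
  set q := pullback.snd f g
  set j := pullback.fst q I.subschemeι
  haveI : Flat (I.subschemeι ≫ g) := inferInstance
  have sq : IsPullback (j ≫ p) (pullback.snd q I.subschemeι) f (I.subschemeι ≫ g) :=
    (IsPullback.of_hasPullback q I.subschemeι).paste_horiz (IsPullback.of_hasPullback f g)
  haveI : Flat (j ≫ p) := MorphismProperty.of_isPullback sq.flip ‹Flat (I.subschemeι ≫ g)›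
  have hjker : j.ker = I.comap q := rfl
  have hz : z ∈ Set.range j := by
    have h1 : z ∈ (I.comap q).support := by
      rw [Scheme.IdealSheafData.support_comap]
      exact h
    rwa [← hjker, ← SetLike.mem_coe, Scheme.Hom.support_ker, j.isClosedEmbedding.isClosed_range.closure_eq] at h1
  obtain ⟨w, rfl⟩ := hz
  have e : (IntMult.stalkIdeal I (q (j w))).map (q.stalkMap (j w)).hom = RingHom.ker (j.stalkMap w).hom :=
    ((DivDesc12.stI_comap I q (j w)).symm.trans (congrArg (DivDesc12.stI · (j w)) hjker.symm)).trans (stI_ker j w)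
  rw [e]
  have h : ((j.stalkMap w).hom.comp (p.stalkMap (j w)).hom).Flat := by
    have := Flat.stalkMap (j ≫ p) w
    rw [Scheme.Hom.stalkMap_comp] at this
    exact this
  have h2 := h.comp (g := (RingHom.quotientKerEquivOfSurjective (j.stalkMap_surjective w)).symm.toRingHom)
    (RingHom.Flat.of_bijective (RingEquiv.bijective _))
  convert h2 using 1
  refine RingHom.ext fun a => ?_
  exact ((RingEquiv.symm_apply_eq _).2
    (RingHom.quotientKerEquivOfSurjective_apply_mk (hf := j.stalkMap_surjective w) (p.stalkMap (j w) a)).symm).symm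

variable [Flat g]

/-- The two pullbacks of points meet without higher Tor. -/
theorem chi_prod (z : ↥(pullback f g)) :
    IntMult.chi ((pullback f g).presheaf.stalk z)
      ((pullback f g).presheaf.stalk z ⧸
        (maximalIdeal (Y.presheaf.stalk (pullback.snd f g z))).map ((pullback.snd f g).stalkMap z).hom)
      ((pullback f g).presheaf.stalk z ⧸
        (maximalIdeal (X.presheaf.stalk (pullback.fst f g z))).map ((pullback.fst f g).stalkMap z).hom) =
    ((Module.length ((pullback f g).presheaf.stalk z)
      ((pullback f g).presheaf.stalk z ⧸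
        ((maximalIdeal (X.presheaf.stalk (pullback.fst f g z))).map ((pullback.fst f g).stalkMap z).hom ⊔
          (maximalIdeal (Y.presheaf.stalk (pullback.snd f g z))).map ((pullback.snd f g).stalkMap z).hom))).toNat : ℤ) := by
  letI : Algebra (X.presheaf.stalk (pullback.fst f g z)) ((pullback f g).presheaf.stalk z) :=
    ((pullback.fst f g).stalkMap z).hom.toAlgebra
  haveI : Module.Flat (X.presheaf.stalk (pullback.fst f g z)) ((pullback f g).presheaf.stalk z) :=
    Flat.stalkMap (pullback.fst f g) z
  have hfl : Module.Flat (X.presheaf.stalk (pullback.fst f g z)) ((pullback f g).presheaf.stalk z ⧸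
      (maximalIdeal (Y.presheaf.stalk (pullback.snd f g z))).map ((pullback.snd f g).stalkMap z).hom) := by
    have hs : pullback.snd f g z ∈ (IntMult.ptIdeal (pullback.snd f g z)).support := by
      rw [IntMult.ptIdeal, ← SetLike.mem_coe, Scheme.IdealSheafData.coe_support_vanishingIdeal]
      exact subset_closure rfl
    have h := flat_quot_snd f g (IntMult.ptIdeal (pullback.snd f g z)) z hs
    rw [stalkIdeal_ptIdeal (specializes_refl _), genPrime_refl] at h
    exact RingHom.flat_algebraMap_iff.1 h
  rw [chi_comm]
  refine IntMult26.chi_quot_eq fun i hi => ?_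
  obtain ⟨j, rfl⟩ : ∃ j, i = j + 1 := ⟨i - 1, by omega⟩
  exact isZero_tor_baseChange _ _ j

end Groth.Agent.Diag27
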