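import Groth.Agent.Lib.Diag27.Graph
import Groth.Agent.Lib.Diag27.ProdCycle
import Groth.Agent.Lib.Diag27.DiagCycle
import Groth.Agent.Lib.Diag27.AssocGeom
import Groth.Agent.Lib.Cyc26.P1Sub
import Groth.Agent.Lib.Cyc26.P1Rat
import Groth.Agent.Lib.Cyc26.SplitBase
import Groth.Agent.Lib.Cyc26.ChernFun
import Groth.Agent.Lib.REq15.Line
import Groth.Agent.Lib.ProjDim27.Basic
import Groth.Agent.Lib.ProjSpace.Basic
import Groth.Agent.Lib.RegLoc.Basic
import Groth.Agent.Lib.IntMult26.CMLength

/-!
# The projective line over a smooth variety, and the fibres of a family of cycles at a section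
-/

set_option autoImplicit false
set_option linter.style.haveILetI false
set_option backward.isDefEq.respectTransparency false
set_option backward.isDefEq.respectTransparency.types false

universe u

open CategoryTheory CategoryTheory.Limits AlgebraicGeometry IsLocalRing Groth.Agent

noncomputable section

namespace Groth.Agent.Diag27

open P1S26

variable (X : Scheme.{u})

theorem geometricallyIntegral_π : GeometricallyIntegral (π X) := by
  refine ⟨fun L _ y Z fst snd h => ?_⟩
  have H := h.paste_horiz (IsPullback.of_hasPullback (CohB1.ProjSpace.toSpec 1 (ULift.{u} ℤ))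
    (specULiftZIsTerminal.from X))
  rw [specULiftZIsTerminal.hom_ext (y ≫ specULiftZIsTerminal.from X) (specULiftZIsTerminal.from _)] at H
  haveI := REq15.isIntegral_P1_spec L
  haveI : IsIntegral (pullback (CohB1.ProjSpace.toSpec 1 (ULift.{u} ℤ))
    (specULiftZIsTerminal.from (Spec (CommRingCat.of L)))) := REq15.isIntegral_P1_spec L
  haveI : Nonempty Z := ⟨H.isoPullback.inv (genericPoint (CohB1.ProjSpaceOver 1 (Spec (CommRingCat.of L))))⟩
  exact isIntegral_of_isOpenImmersion H.isoPullback.hom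

theorem isIntegral_P [IsIntegral X] [IsLocallyNoetherian X] : IsIntegral (P X) := by
  haveI := geometricallyIntegral_π X
  haveI : UniversallyOpen (π X) := UniversallyOpen.of_flat (π X)
  exact GeometricallyIntegral.isIntegral_of_isLocallyNoetherian (π X)

theorem hasRelDim_π : Cyc.HasRelDim (π X) 1 := by
  intro y T hT
  haveI := geometricallyIntegral_π X
  let κ : Type u := X.residueField y
  have H := (IsPullback.of_hasPullback (π X) (X.fromSpecResidueField y)).paste_horiz
    (IsPullback.of_hasPullback (CohB1.ProjSpace.toSpec 1 (ULift.{u} ℤ)) (specULiftZIsTerminal.from X))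
  rw [specULiftZIsTerminal.hom_ext (X.fromSpecResidueField y ≫ specULiftZIsTerminal.from X)
    (specULiftZIsTerminal.from _)] at H
  let e : (π X).fiber y ≅ CohB1.ProjSpace 1 κ := H.isoPullback ≪≫ (ProjSpace.overSpecIso 1 κ).symm
  rw [irreducibleComponents_eq_singleton, Set.mem_singleton_iff] at hT
  subst hT
  rw [IsHomeomorph.topologicalKrullDim_eq _ (Homeomorph.Set.univ _).isHomeomorph,
    IsHomeomorph.topologicalKrullDim_eq _ (Scheme.homeoOfIso e).isHomeomorph]
  exact ProjDim27.dim_PP κ 1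

variable {X}

/-- Points of maximal dimension in a closed set are finite in number. -/
theorem finite_top_points {Z : Scheme.{u}} [IsNoetherian Z] {δ : Z → ℤ} (hd : Cyc.IsDimFun Z δ) {S : Set Z}
    (hS : IsClosed S) (m : ℤ) : {z | z ∈ S ∧ δ z = m ∧ ∀ η ∈ S, η ⤳ z → δ η ≤ m}.Finite := by
  obtain ⟨T, hTf, hTc, hTi, hST⟩ := TopologicalSpace.NoetherianSpace.exists_finite_set_isClosed_irreducible hS
  have hgen : ∀ C ∈ T, ∃ η, closure {η} = C := fun C hC =>
    let ⟨η, hη⟩ := QuasiSober.sober (hTi C hC) (hTc C hC)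
    ⟨η, hη.def⟩
  choose g hg using hgen
  haveI := hTf.to_subtype
  refine (Set.finite_range fun C : T => g C.1 C.2).subset ?_
  rintro z ⟨hz, hm, hmax⟩
  obtain ⟨C, hC, hzC⟩ := Set.mem_sUnion.1 (hST ▸ hz : z ∈ ⋃₀ T)
  have hsp : g C hC ⤳ z := specializes_iff_mem_closure.2 ((hg C hC).symm ▸ hzC)
  have hgS : g C hC ∈ S := hST ▸ Set.mem_sUnion.2 ⟨C, hC, (hg C hC).le (subset_closure rfl)⟩
  exact ⟨⟨C, hC⟩, eq_of_delta_le hd hsp ((hmax _ hgS hsp).trans hm.ge)⟩

variable {K : Type u} [Field K] (f : X ⟶ Spec (CommRingCat.of K))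

variable {δ : X → ℤ} {δP : ↥(P X) → ℤ}

theorem deltaCompat_P (hδ : Cyc.DeltaCompat f δ (fun _ => 0)) (hP : Cyc.DeltaCompat (π X) δP δ) :
    Cyc.DeltaCompat (π X ≫ f) δP (fun _ => 0) :=
  Cyc26A.deltaCompat_comp (π X) f hP hδ

theorem isSetup_P (hX : Cyc.IsSetup X δ) (hP : Cyc.DeltaCompat (π X) δP δ) : Cyc.IsSetup (P X) δP :=
  Cyc26Split.isSetup_of_lft (π X) hX hP

theorem gen_sect_specializes [IsIntegral X] (i : Fin (1 + 1)) (x : X) :
    P1.sect X i (genericPoint X) ⤳ P1.sect X i x :=
  (genericPoint_specializes x).map (P1.sect X i).continuous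

theorem mem_range_of_specializes [IsIntegral X] (i : Fin (1 + 1)) {p : P X}
    (h : P1.sect X i (genericPoint X) ⤳ p) : p ∈ Set.range (P1.sect X i) :=
  h.mem_closed (P1.sect X i).isClosedEmbedding.isClosed_range ⟨_, rfl⟩

theorem genPrime_sect [IsIntegral X] (i : Fin (1 + 1)) (x : X) :
    (genPrime (gen_sect_specializes i x)).asIdeal =
      Ideal.span {(P X).presheaf.germ (U X i) _ (sect_mem X i x) (t X i)} :=
  (genPrime_map_generic (P1.sect X i) x).trans (ker_sect X i x)

variable [IsNoetherian X] [IsIntegral X]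

/-- The point of `π⁻¹(v)` of maximal dimension, and the pullback of a prime cycle. -/
theorem exists_vgen (hX : Cyc.IsSetup X δ) (hP : Cyc.DeltaCompat (π X) δP δ) (v : X) :
    ∃ ξ : P X, π X ξ = v ∧ δP ξ = δ v + 1 ∧ (∀ z, v ⤳ π X z → ξ ⤳ z) ∧
      Cyc.pullFun (π X) δP δ 1 (Set.indicator {v} 1) = Set.indicator {ξ} 1 := by
  classical
  haveI := geometricallyIntegral_π X
  have hdP := (isSetup_P hX hP).2.2
  haveI : IsLocallyNoetherian (P X) := (isSetup_P hX hP).1
  obtain ⟨ξ, hξv, hξ⟩ := exists_fibre_gen (π X) v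
  obtain ⟨η, hη1, hη2, hη3, -⟩ := exists_pull_point (π X) hdP hX.2.2 hP (hasRelDim_π X) (v := v)
    (z := ξ) (specializes_of_eq hξv.symm)
  obtain ⟨hξη, -⟩ := hξ η hη2
  obtain rfl : ξ = η := (hξη.antisymm hη1).eq
  have hlen : Module.length ((P X).presheaf.stalk ξ) ((P X).presheaf.stalk ξ ⧸
      Ideal.map ((π X).stalkMap ξ).hom (maximalIdeal (X.presheaf.stalk (π X ξ)))) = 1 := by
    obtain ⟨h, he⟩ := hξ ξ hξv
    rw [genPrime_congr rfl h (specializes_refl ξ), genPrime_refl] at he
    rw [← he]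
    exact Module.length_eq_one_iff.2 (isSimpleModule_iff_isCoatom.2 (Ideal.isMaximal_def.1 (maximalIdeal.isMaximal _)))
  refine ⟨ξ, hξv, by push_cast at hη3; exact hη3, fun z hz => ?_, funext fun p => ?_⟩
  · obtain ⟨η, h1, h2, -, -⟩ := exists_pull_point (π X) hdP hX.2.2 hP (hasRelDim_π X) (v := v) (z := z) hz
    exact (hξ η h2).fst.trans h1
  unfold Cyc.pullFun
  by_cases hp : p = ξ
  · subst hp
    have h3 : δP p = δ (π X p) + 1 := by rw [hξv]; push_cast at hη3; exact hη3
    rw [if_pos h3, Set.indicator_of_mem (s := {v}) (show π X p ∈ ({v} : Set X) from hξv),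
      Set.indicator_of_mem (Set.mem_singleton p), hlen]
    simp
  · rw [Set.indicator_of_notMem (s := {ξ}) (by simpa using hp)]
    split_ifs with h
    · rw [Set.indicator_of_notMem (s := {v}), zero_mul]
      intro hv
      rw [Set.mem_singleton_iff] at hv
      refine hp (eq_of_delta_le hdP (hξ p hv).fst ?_).symm
      rw [h, hv]
      push_cast at hη3
      omega
    · rfl

theorem delta_gen_P (hX : Cyc.IsSetup X δ) (hP : Cyc.DeltaCompat (π X) δP δ) :
    haveI := isIntegral_P X
    δP (genericPoint (P X)) = δ (genericPoint X) + 1 := by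
  haveI := isIntegral_P X
  obtain ⟨ξ, -, hξ, hsp, -⟩ := exists_vgen hX hP (genericPoint X)
  rw [← hξ, ((genericPoint_specializes ξ).antisymm (hsp (genericPoint (P X)) (genericPoint_specializes _))).eq]

end Groth.Agent.Diag27
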