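import Groth.Agent.Lib.Diag27.AssocGeom
import Groth.Agent.Lib.Diag27.Trans
import Groth.Agent.Lib.Cyc26.PushDivFinite

/-!
# The semi-local ring of an integral subvariety finite over a neighbourhood
-/

set_option autoImplicit false
set_option backward.isDefEq.respectTransparency false
set_option linter.style.haveILetI false

universe u

open CategoryTheory AlgebraicGeometry TensorProduct IsLocalRing Groth.Agent Groth.Agent.Herbrand26

noncomputable section

namespace Groth.Agent.Diag27

variable {X Y : Scheme.{u}}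

/-- A finite algebra over the local ring at `y` whose maximal ideals are the points over `y` of the closure of `ξ`. -/
structure SemiLoc (p : X ⟶ Y) (ξ : X) (y : Y) (hy : p ξ ⤳ y) where
  B : Type u
  [cr : CommRing B]
  [alg : Algebra (Y.presheaf.stalk y) B]
  finite : Module.Finite (Y.presheaf.stalk y) B
  P : ∀ x, p x = y → ξ ⤳ x → PrimeSpectrum B
  P_inj : ∀ x hx h x' hx' h', P x hx h = P x' hx' h' → x = x'
  P_max : ∀ x hx h, (P x hx h).asIdeal.IsMaximal
  P_surj : ∀ m : PrimeSpectrum B, m.asIdeal.IsMaximal → ∃ x hx h, P x hx h = m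
  phi : ∀ x, p x = y → ∀ h : ξ ⤳ x, B →+* Cyc.LocQuot x ξ h
  isLoc : ∀ x hx h, letI := (phi x hx h).toAlgebra
    IsLocalization.AtPrime (Cyc.LocQuot x ξ h) (P x hx h).asIdeal
  phi_alg : ∀ x (hx : p x = y) h a, phi x hx h (algebraMap _ B a) = Ideal.Quotient.mk _ (locMap p hx a)
  ker_eq : RingHom.ker (algebraMap (Y.presheaf.stalk y) B) = (genPrime hy).asIdeal
  locLen_eq : locLen (genPrime hy) B = (p.residueDegree ξ : ℕ∞)

theorem nonempty_semiLoc (p : X ⟶ Y) {ξ : X} {y : Y} (hy : p ξ ⤳ y) {V : Y.Opens}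
    (hV : IsAffineOpen V) (hyV : y ∈ V) (hU : IsAffineOpen (p ⁻¹ᵁ V)) (hfin : (p.app V).hom.Finite) :
    Nonempty (SemiLoc p ξ y hy) := by
  -- fields
  letI : Algebra (Y.residueField (p ξ)) (X.residueField ξ) := (p.residueFieldMap ξ).hom.toAlgebra
  set K := Y.residueField (p ξ)
  set L := X.residueField ξ
  -- base ring
  set A := Y.presheaf.stalk y
  letI : Algebra A K := (Cyc.specMap y (p ξ) hy).toAlgebra
  letI : Algebra A L := ((algebraMap K L).comp (algebraMap A K)).toAlgebra
  haveI : IsScalarTower A K L := IsScalarTower.of_algebraMap_eq fun _ => rfl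
  -- charts
  have hηV : p ξ ∈ V := hy.mem_open V.isOpen hyV
  have hξU : ξ ∈ p ⁻¹ᵁ V := hηV
  let evY := (Y.evaluation V (p ξ) hηV).hom
  let evX := (X.evaluation (p ⁻¹ᵁ V) ξ hξU).hom
  have hnat : ∀ r, algebraMap K L (evY r) = evX (p.app V r) := fun r =>
    Scheme.evaluation_naturality_apply p ξ hηV r
  have hAgerm : ∀ r, algebraMap A L (Y.presheaf.germ V y hyV r) = evX (p.app V r) := fun r => by
    show algebraMap K L (Cyc.specMap y (p ξ) hy (Y.presheaf.germ V y hyV r)) = _
    rw [Cyc26.specMap_germ hy hyV]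
    exact hnat r
  have hunit : ∀ s, Y.evaluation V y hyV s ≠ 0 → IsUnit (Y.presheaf.germ V y hyV s) := fun s hs => by
    by_contra hn
    exact hs ((Cyc26.residue_eq_zero y _).2 hn)
  have hA : ∀ a : A, ∃ r s, Y.evaluation V y hyV s ≠ 0 ∧ algebraMap A L a * evX (p.app V s) = evX (p.app V r) := by
    intro a
    obtain ⟨r, s, hs, h⟩ := Cyc26.exists_mk_div hy hV hyV a
    refine ⟨r, s, hs, ?_⟩
    show algebraMap K L (Cyc.specMap y (p ξ) hy a) * _ = _
    rw [← hnat, ← hnat, ← map_mul]
    exact congrArg _ h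
  -- the semi-local ring
  let B : Subalgebra A L :=
    { carrier := {l | ∃ c s, Y.evaluation V y hyV s ≠ 0 ∧ l * evX (p.app V s) = evX c}
      mul_mem' := by
        rintro l l' ⟨c, s, hs, h⟩ ⟨c', s', hs', h'⟩
        refine ⟨c * c', s * s', by rw [map_mul]; exact mul_ne_zero hs hs', ?_⟩
        rw [map_mul, map_mul, map_mul, ← h, ← h']; ring
      add_mem' := by
        rintro l l' ⟨c, s, hs, h⟩ ⟨c', s', hs', h'⟩
        refine ⟨c * p.app V s' + c' * p.app V s, s * s', by rw [map_mul]; exact mul_ne_zero hs hs', ?_⟩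
        rw [map_mul, map_mul, map_add, map_mul, map_mul, ← h, ← h']; ring
      algebraMap_mem' := fun a => by
        obtain ⟨r, s, hs, h⟩ := hA a
        exact ⟨p.app V r, s, hs, h⟩ }
  letI := (p.app V).hom.toAlgebra
  haveI : Module.Finite Γ(Y, V) Γ(X, p ⁻¹ᵁ V) := hfin
  obtain ⟨G, hG⟩ := (Module.Finite.fg_top (R := Γ(Y, V)) (M := Γ(X, p ⁻¹ᵁ V)))
  classical
  have hmem : ∀ c, evX c ∈ Submodule.span A (↑(G.image evX) : Set L) := by
    intro c
    have hc : c ∈ Submodule.span Γ(Y, V) (G : Set Γ(X, p ⁻¹ᵁ V)) := hG ▸ Submodule.mem_top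
    induction hc using Submodule.span_induction with
    | mem x hx => exact Submodule.subset_span (Finset.mem_image_of_mem _ hx)
    | zero => simp
    | add a b _ _ ha hb => rw [map_add]; exact Submodule.add_mem _ ha hb
    | smul r a _ ha =>
      show evX (p.app V r * a) ∈ _
      rw [map_mul, ← hAgerm, ← Algebra.smul_def]
      exact Submodule.smul_mem _ _ ha
  haveI : Module.Finite A B := by
    refine Module.Finite.iff_fg.2 (⟨G.image evX, le_antisymm (Submodule.span_le.2 ?_) ?_⟩ : B.toSubmodule.FG)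
    · intro l hl
      obtain ⟨g, -, rfl⟩ := Finset.mem_image.1 hl
      exact ⟨g, 1, by simp, by simp⟩
    · rintro l ⟨c, s, hs, h⟩
      obtain ⟨v, hv⟩ := (hunit s hs).exists_left_inv
      have hl' : l = algebraMap A L v * evX c := by
        rw [← h, ← hAgerm, ← mul_assoc, mul_comm (algebraMap A L v) l, mul_assoc, ← map_mul, hv, map_one, mul_one]
      rw [hl', ← Algebra.smul_def]
      exact Submodule.smul_mem _ _ (hmem c)
  -- generic rank
  let evB : Γ(X, p ⁻¹ᵁ V) →+* B := RingHom.codRestrict evX B fun c => ⟨c, 1, by simp, by simp⟩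
  let C : Subalgebra K L := Algebra.adjoin K (B : Set L)
  have hCspan : C.toSubmodule = Submodule.span K (B : Set L) := by
    rw [Algebra.adjoin_eq_span]
    congr 1
    exact congrArg SetLike.coe (Submonoid.closure_eq B.toSubsemiring.toSubmonoid)
  haveI : Module.Finite K C := by
    refine Module.Finite.iff_fg.2 (⟨G.image evX, ?_⟩ : C.toSubmodule.FG)
    rw [hCspan]
    refine le_antisymm (Submodule.span_le.2 fun l hl => ?_) (Submodule.span_le.2 ?_)
    · obtain ⟨g, -, rfl⟩ := Finset.mem_image.1 hl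
      exact Submodule.subset_span (evB g).2
    · rintro l ⟨c, s, hs, h⟩
      obtain ⟨v, hv⟩ := (hunit s hs).exists_left_inv
      have hl' : l = algebraMap A L v * evX c := by
        rw [← h, ← hAgerm, ← mul_assoc, mul_comm (algebraMap A L v) l, mul_assoc, ← map_mul, hv, map_one, mul_one]
      rw [hl', ← Algebra.smul_def]
      exact Submodule.span_le_restrictScalars A K _ (Submodule.smul_mem _ _ (hmem c))
  haveI : Algebra.IsIntegral K C := Algebra.IsIntegral.of_finite K C
  have hCf : IsField C := isField_of_isIntegral_of_isField' (Field.toIsField K)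
  have hCtop : ∀ z : L, z ∈ C := fun z => by
    obtain ⟨a, b, rfl⟩ := VarDim.exists_evaluation_eq_div hU ξ hξU z
    have ha : evX a ∈ C := Algebra.subset_adjoin (evB a).2
    have hb : evX b ∈ C := Algebra.subset_adjoin (evB b).2
    show evX a / evX b ∈ C
    by_cases hb0 : evX b = 0
    · rw [hb0, div_zero]; exact zero_mem C
    obtain ⟨w, hw⟩ := hCf.mul_inv_cancel (show (⟨evX b, hb⟩ : C) ≠ 0 from fun e => hb0 (congrArg Subtype.val e))
    rw [div_eq_mul_inv]
    refine mul_mem ha ?_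
    rw [← eq_inv_of_mul_eq_one_right (congrArg Subtype.val hw)]
    exact w.2
  have hspan : ∀ z : L, z ∈ Submodule.span K (B : Set L) := fun z => hCspan ▸ hCtop z
  haveI : FiniteDimensional K L :=
    Module.Finite.of_surjective C.val.toLinearMap fun z => ⟨⟨z, hCtop z⟩, rfl⟩
  let p0 := genPrime hy
  have hp0 : ∀ a : A, algebraMap A L a = 0 ↔ a ∈ p0.asIdeal := fun a => by
    show algebraMap K L (algebraMap A K a) = 0 ↔ a ∈ RingHom.ker (Cyc.specMap y (p ξ) hy)
    rw [map_eq_zero, RingHom.mem_ker]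
    rfl
  have hsur : ∀ z : L, ∃ (s : p0.asIdeal.primeCompl) (b : B), (s : A) • z = (b : L) := by
    intro z
    have hz := hspan z
    induction hz using Submodule.span_induction with
    | mem x hx => exact ⟨1, ⟨x, hx⟩, by simp⟩
    | zero => exact ⟨1, 0, by simp⟩
    | add x y _ _ hx hy =>
      obtain ⟨s, b, hb⟩ := hx
      obtain ⟨t, c, hc⟩ := hy
      refine ⟨s * t, (t : A) • b + (s : A) • c, ?_⟩
      simp only [Submonoid.coe_mul, smul_add, Subalgebra.coe_add, Subalgebra.coe_smul]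
      rw [← hb, ← hc, smul_smul, smul_smul, mul_comm (t : A) s]
    | smul k x _ hx =>
      obtain ⟨s, b, hb⟩ := hx
      letI : Algebra A (Y.presheaf.stalk (p ξ)) := (Y.presheaf.stalkSpecializes hy).hom.toAlgebra
      haveI : IsLocalization.AtPrime (Y.presheaf.stalk (p ξ)) p0.asIdeal := Cyc26.isLocalization_stalkSpecializes hy
      obtain ⟨k, rfl⟩ := Y.residue_surjective (p ξ) k
      obtain ⟨⟨a, t⟩, hat⟩ := IsLocalization.surj p0.asIdeal.primeCompl k
      have h1 : Y.residue (p ξ) k * algebraMap A K t = algebraMap A K a := by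
        have h0 := congrArg (Y.residue (p ξ)) hat
        rw [map_mul] at h0
        exact h0
      refine ⟨s * t, a • b, ?_⟩
      rw [Subalgebra.coe_smul, ← hb, Submonoid.coe_mul, Algebra.smul_def, Algebra.smul_def, Algebra.smul_def,
        Algebra.smul_def, map_mul, show algebraMap A L (t : A) = algebraMap K L (algebraMap A K t) from rfl,
        show algebraMap A L a = algebraMap K L (algebraMap A K a) from rfl, ← h1, map_mul]
      ring
  -- points over y give maximal ideals
  have hmemU : ∀ x, p x = y → x ∈ p ⁻¹ᵁ V := fun x hx => show p x ∈ V from hx.symm ▸ hyV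
  have hsx : ∀ (x : X) (hx : p x = y) s, Y.evaluation V y hyV s ≠ 0 →
      X.evaluation (p ⁻¹ᵁ V) x (hmemU x hx) (p.app V s) ≠ 0 := by
    intro x hx s hs
    subst hx
    rw [← Scheme.evaluation_naturality_apply p x hyV]
    exact (map_ne_zero _).2 hs
  have hrep : ∀ (x : X) (hx : p x = y) (h : ξ ⤳ x) (b : B), ∃ e : Cyc.LocQuot x ξ h, algebraMap _ L e = (b : L) := by
    rintro x hx h ⟨l, c, s, hs, hl⟩
    have hu : IsUnit (X.presheaf.germ (p ⁻¹ᵁ V) x (hmemU x hx) (p.app V s)) := by
      by_contra hn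
      exact hsx x hx s hs ((Cyc26.residue_eq_zero x _).2 hn)
    obtain ⟨v, hv⟩ := hu.exists_left_inv
    refine ⟨Ideal.Quotient.mk _ (v * X.presheaf.germ (p ⁻¹ᵁ V) x (hmemU x hx) c), ?_⟩
    show Cyc.specMap x ξ h (_ * _) = l
    rw [map_mul, Cyc26.specMap_germ h,
      show X.evaluation (p ⁻¹ᵁ V) ξ (h.mem_open (p ⁻¹ᵁ V).isOpen (hmemU x hx)) c = evX c from rfl,
      ← hl, mul_comm l, ← mul_assoc,
      show evX (p.app V s) = Cyc.specMap x ξ h (X.presheaf.germ (p ⁻¹ᵁ V) x (hmemU x hx) (p.app V s)) from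
        (Cyc26.specMap_germ h (hmemU x hx) _).symm, ← map_mul, hv, map_one, one_mul]
  have hfrX : ∀ (x : X) (h : ξ ⤳ x), IsFractionRing (Cyc.LocQuot x ξ h) L := fun x h => Cyc26.isFractionRing_locQuot h
  choose φ hφ using hrep
  let Φ : ∀ (x : X) (hx : p x = y) (h : ξ ⤳ x), B →+* Cyc.LocQuot x ξ h := fun x hx h =>
    haveI := hfrX x h
    { toFun := φ x hx h
      map_one' := IsFractionRing.injective _ L (by rw [hφ, map_one]; rfl)
      map_zero' := IsFractionRing.injective _ L (by rw [hφ, map_zero]; rfl)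
      map_add' := fun a b => IsFractionRing.injective _ L (by rw [hφ, map_add, hφ, hφ]; rfl)
      map_mul' := fun a b => IsFractionRing.injective _ L (by rw [hφ, map_mul, hφ, hφ]; rfl) }
  have hΦ : ∀ x hx h b, algebraMap _ L (Φ x hx h b) = (b : L) := hφ
  have hΦev : ∀ (x : X) (hx : p x = y) (h : ξ ⤳ x) c,
      Φ x hx h (evB c) = Ideal.Quotient.mk _ (X.presheaf.germ (p ⁻¹ᵁ V) x (hmemU x hx) c) := fun x hx h c => by
    haveI := hfrX x h
    apply IsFractionRing.injective (Cyc.LocQuot x ξ h) L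
    rw [hΦ]
    exact (Cyc26.specMap_germ h (hmemU x hx) c).symm
  have hΦalg : ∀ (x : X) (hx : p x = y) (h : ξ ⤳ x) a,
      Φ x hx h (algebraMap A B a) = Ideal.Quotient.mk _ (locMap p hx a) := by
    intro x hx h a
    subst hx
    haveI := hfrX x h
    apply IsFractionRing.injective (Cyc.LocQuot x ξ h) L
    rw [hΦ]
    show p.residueFieldMap ξ (Y.residue _ (Y.presheaf.stalkSpecializes _ a)) =
      X.residue ξ (X.presheaf.stalkSpecializes h (locMap p rfl a))
    rw [locMap, TopCat.Presheaf.stalkSpecializes_refl]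
    show _ = X.residue ξ (X.presheaf.stalkSpecializes h (p.stalkMap x a))
    rw [← Scheme.Hom.stalkSpecializes_stalkMap_apply p ξ x h a]
    exact ConcreteCategory.congr_hom (Scheme.residue_residueFieldMap p ξ) _
  let P : ∀ (x : X), p x = y → ξ ⤳ x → PrimeSpectrum B := fun x hx h =>
    ⟨(maximalIdeal (Cyc.LocQuot x ξ h)).comap (Φ x hx h), Ideal.IsPrime.comap _⟩
  have hmkunit : ∀ (x : X) (h : ξ ⤳ x) (a : X.presheaf.stalk x),
      Ideal.Quotient.mk (RingHom.ker (Cyc.specMap x ξ h)) a ∈ maximalIdeal (Cyc.LocQuot x ξ h) ↔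
        X.residue x a = 0 := fun x h a => by
    haveI : IsLocalHom (Ideal.Quotient.mk (RingHom.ker (Cyc.specMap x ξ h))) :=
      IsLocalHom.of_surjective _ Ideal.Quotient.mk_surjective
    rw [Cyc26.residue_eq_zero, IsLocalRing.mem_maximalIdeal, IsLocalRing.mem_maximalIdeal, mem_nonunits_iff, mem_nonunits_iff]
    exact not_congr ⟨fun hu => isUnit_of_map_unit _ _ hu, fun hu => hu.map _⟩
  have hloc : ∀ (x : X) (hx : p x = y) (h : ξ ⤳ x),
      letI := (Φ x hx h).toAlgebra; IsLocalization.AtPrime (Cyc.LocQuot x ξ h) (P x hx h).asIdeal := by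
    intro x hx h
    letI := (Φ x hx h).toAlgebra
    haveI := hfrX x h
    refine ⟨?_, ?_, ?_⟩
    · rintro ⟨b, hb⟩
      exact IsLocalRing.notMem_maximalIdeal.1 hb
    · intro e
      obtain ⟨e, rfl⟩ := Ideal.Quotient.mk_surjective e
      obtain ⟨c, s, hs, hcs⟩ := Cyc26.exists_mk_div h hU (hmemU x hx) e
      refine ⟨⟨evB c, ⟨evB s, fun hs' => hs ?_⟩⟩, ?_⟩
      · have h1 : Φ x hx h (evB s) ∈ maximalIdeal _ := hs'
        rw [hΦev, hmkunit] at h1
        exact h1
      · apply IsFractionRing.injective (Cyc.LocQuot x ξ h) L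
        show algebraMap _ L (Ideal.Quotient.mk _ e * Φ x hx h (evB s)) = algebraMap _ L (Φ x hx h (evB c))
        rw [map_mul, hΦ, hΦ]
        exact hcs
    · intro a b hab
      refine ⟨1, ?_⟩
      have h1 := congrArg (algebraMap (Cyc.LocQuot x ξ h) L) (show Φ x hx h a = Φ x hx h b from hab)
      rw [hΦ, hΦ] at h1
      rw [Subtype.ext h1]
  have hCmem : ∀ (x : X) (hx : p x = y) (h : ξ ⤳ x) c,
      evB c ∈ (P x hx h).asIdeal ↔ X.evaluation (p ⁻¹ᵁ V) x (hmemU x hx) c = 0 := fun x hx h c => by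
    show Φ x hx h (evB c) ∈ maximalIdeal _ ↔ _
    rw [hΦev, hmkunit]
    rfl
  haveI : Algebra.IsIntegral A B := Algebra.IsIntegral.of_finite A B
  have hAmax : ∀ (x : X) hx h, (P x hx h).asIdeal.comap (algebraMap A B) = maximalIdeal A := by
    intro x hx h
    refine le_antisymm (IsLocalRing.le_maximalIdeal ?_) fun a ha => ?_
    · exact (Ideal.IsPrime.comap _ : ((P x hx h).asIdeal.comap (algebraMap A B)).IsPrime).ne_top
    · show Φ x hx h (algebraMap A B a) ∈ maximalIdeal _
      rw [hΦalg, hmkunit, Cyc26.residue_eq_zero]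
      subst hx
      rw [locMap, TopCat.Presheaf.stalkSpecializes_refl]
      exact map_nonunit (p.stalkMap x).hom a ha
  have hPmax : ∀ x hx h, (P x hx h).asIdeal.IsMaximal := fun x hx h =>
    Ideal.isMaximal_of_isIntegral_of_isMaximal_comap' (algebraMap A B) Algebra.IsIntegral.isIntegral _
      (by rw [hAmax]; exact maximalIdeal.isMaximal A)
  have hPinj : ∀ x hx h x' hx' h', P x hx h = P x' hx' h' → x = x' := by
    intro x hx h x' hx' h' he
    have h1 : hU.primeIdealOf ⟨x, hmemU x hx⟩ = hU.primeIdealOf ⟨x', hmemU x' hx'⟩ := by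
      ext c
      rw [← Cyc26.evaluation_eq_zero_iff, ← Cyc26.evaluation_eq_zero_iff, ← hCmem x hx h, ← hCmem x' hx' h', he]
    exact (hU.fromSpec_primeIdealOf ⟨x, hmemU x hx⟩).symm.trans
      ((congrArg hU.fromSpec h1).trans (hU.fromSpec_primeIdealOf ⟨x', hmemU x' hx'⟩))
  have hsurj : ∀ m : PrimeSpectrum B, m.asIdeal.IsMaximal → ∃ x hx h, P x hx h = m := by
    intro m hm
    have hc : m.asIdeal.comap (algebraMap A B) = maximalIdeal A :=
      IsLocalRing.eq_maximalIdeal (Ideal.isMaximal_comap_of_isIntegral_of_isMaximal (R := A) m.asIdeal)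
    have hgm : ∀ s, evB (p.app V s) ∈ m.asIdeal ↔ Y.evaluation V y hyV s = 0 := fun s => by
      rw [show evB (p.app V s) = algebraMap A B (Y.presheaf.germ V y hyV s) from Subtype.ext (hAgerm s).symm,
        ← Ideal.mem_comap, hc]
      exact (Cyc26.residue_eq_zero y _).symm
    let q : PrimeSpectrum Γ(X, p ⁻¹ᵁ V) := ⟨m.asIdeal.comap evB, Ideal.IsPrime.comap _⟩
    have hxU : hU.fromSpec q ∈ p ⁻¹ᵁ V := VarDim.fromSpec_mem hU q
    have hq : hU.primeIdealOf ⟨_, hxU⟩ = q := VarDim.primeIdealOf_fromSpec hU q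
    have hsp : ξ ⤳ hU.fromSpec q := (VarDim.primeIdealOf_le_iff hU ⟨ξ, hξU⟩ ⟨_, hxU⟩).1 (by
      intro c hcξ
      rw [hq]
      have h0 : evX c = 0 := (Cyc26.evaluation_eq_zero_iff hU hξU c).2 hcξ
      show evB c ∈ m.asIdeal
      rw [show evB c = 0 from Subtype.ext h0]
      exact zero_mem _)
    have hpx : p (hU.fromSpec q) = y := by
      have hxV : p (hU.fromSpec q) ∈ V := hxU
      have hiff : ∀ s, Y.evaluation V (p (hU.fromSpec q)) hxV s = 0 ↔ Y.evaluation V y hyV s = 0 := by
        intro s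
        rw [← hgm s, ← map_eq_zero (p.residueFieldMap (hU.fromSpec q)).hom,
          show (p.residueFieldMap (hU.fromSpec q)).hom (Y.evaluation V (p (hU.fromSpec q)) hxV s) =
            X.evaluation (p ⁻¹ᵁ V) (hU.fromSpec q) hxU (p.app V s) from
            Scheme.evaluation_naturality_apply p _ hxV s, Cyc26.evaluation_eq_zero_iff hU hxU, hq]
        rfl
      have h2 : hV.primeIdealOf ⟨_, hxV⟩ = hV.primeIdealOf ⟨y, hyV⟩ := by
        ext s
        rw [← Cyc26.evaluation_eq_zero_iff, ← Cyc26.evaluation_eq_zero_iff, hiff]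
      exact (hV.fromSpec_primeIdealOf ⟨_, hxV⟩).symm.trans ((congrArg hV.fromSpec h2).trans (hV.fromSpec_primeIdealOf ⟨y, hyV⟩))
    refine ⟨_, hpx, hsp, ?_⟩
    refine PrimeSpectrum.ext ((hPmax _ hpx hsp).eq_of_le hm.ne_top fun b hb => ?_)
    obtain ⟨l, c, s, hs, hl⟩ := b
    have hmul : (⟨l, c, s, hs, hl⟩ : B) * evB (p.app V s) = evB c := Subtype.ext hl
    have h1 : evB c ∈ (P _ hpx hsp).asIdeal := hmul ▸ Ideal.mul_mem_right _ _ hb
    rw [hCmem, Cyc26.evaluation_eq_zero_iff hU hxU, hq] at h1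
    have h2 : evB c ∈ m.asIdeal := h1
    rw [← hmul] at h2
    exact (m.2.mem_or_mem h2).resolve_right fun hs' => hs ((hgm s).1 hs')
  refine ⟨{
    B := B, finite := inferInstance, P := P, P_inj := hPinj, P_max := hPmax, P_surj := hsurj, phi := Φ,
    isLoc := hloc, phi_alg := hΦalg, ker_eq := ?_, locLen_eq := ?_ }⟩
  · ext a
    rw [RingHom.mem_ker, ← hp0]
    exact ⟨fun h => congrArg Subtype.val h, fun h => Subtype.ext h⟩
  · let O := Y.presheaf.stalk (p ξ)
    letI : Algebra A O := (Y.presheaf.stalkSpecializes hy).hom.toAlgebra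
    haveI : IsLocalization.AtPrime O p0.asIdeal := Cyc26.isLocalization_stalkSpecializes hy
    letI : Algebra O L := ((algebraMap K L).comp (Y.residue (p ξ)).hom).toAlgebra
    haveI : IsScalarTower A O L := IsScalarTower.of_algebraMap_eq fun _ => rfl
    let incl : B →ₗ[A] L := B.val.toLinearMap
    haveI : IsLocalizedModule p0.asIdeal.primeCompl incl := by
      refine ⟨fun s => ?_, fun z => ?_, fun {b c} h => ⟨1, by rw [Subtype.ext h]⟩⟩
      · have hs : algebraMap A L (s : A) ≠ 0 := fun e => s.2 ((hp0 _).1 e)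
        refine (Module.End.isUnit_iff _).2 ⟨fun a b h => ?_, fun z => ⟨(algebraMap A L (s : A))⁻¹ * z, ?_⟩⟩
        · refine mul_left_cancel₀ hs ?_
          rw [← Algebra.smul_def, ← Algebra.smul_def]
          exact h
        · rw [Module.algebraMap_end_apply, Algebra.smul_def, mul_inv_cancel_left₀ hs]
      · obtain ⟨s, b, h⟩ := hsur z
        exact ⟨⟨b, s⟩, h⟩
    have hb : IsBaseChange O incl := IsLocalizedModule.isBaseChange p0.asIdeal.primeCompl O incl
    rw [locLen_eq_length_baseChange p0 O B, hb.equiv.length_eq]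
    letI : Algebra O K := (Y.residue (p ξ)).hom.toAlgebra
    haveI : IsScalarTower O K L := IsScalarTower.of_algebraMap_eq fun _ => rfl
    rw [Module.length_eq_of_surjective (R := K) (S := O) (M := L) (Y.residue_surjective (p ξ)), Module.length_eq_finrank]
    rfl

end Groth.Agent.Diag27
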