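import Groth.Agent.Lib.Diag27.ProjAlg
import Groth.Agent.Lib.Diag27.SemiLocal
import Groth.Agent.Lib.Diag27.Linear
import Groth.Agent.Lib.Cyc26.PullSheaf
import Groth.Agent.Lib.Cyc26.PushDiv
import Groth.Agent.Lib.Vol26.Zigzag
import Groth.Agent.Lib.SmoothReg17.Basic
import Groth.Agent.S6470

/-!
# The projection formula for two points
-/

set_option autoImplicit false
set_option backward.isDefEq.respectTransparency false
set_option linter.style.haveILetI false

universe u

open CategoryTheory AlgebraicGeometry TensorProduct IsLocalRing Groth.Agent Groth.Agent.Herbrand26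

noncomputable section

namespace Groth.Agent.Diag27

variable {K : Type u} [Field K] {X Y : Scheme.{u}}

theorem toNat_length_eq_finrank (L M : Type u) [Field L] [AddCommGroup M] [Module L M] :
    (Module.length L M).toNat = Module.finrank L M := by
  rw [Module.length_eq_rank, Module.finrank, Cardinal.toNat_toENat]

/-- The residue degree is a length over the local ring below. -/
theorem residueDegree_eq_length (f : X ⟶ Y) (z : X) {ζ : Y} (hz : f z = ζ) :
    letI := (locMap f hz).hom.toAlgebra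
    f.residueDegree z = (Module.length (Y.presheaf.stalk ζ) (X.presheaf.stalk z ⧸ maximalIdeal (X.presheaf.stalk z))).toNat := by
  subst hz
  letI := (locMap f (rfl : f z = f z)).hom.toAlgebra
  letI := (f.residueFieldMap z).hom.toAlgebra
  have h : Module.length (Y.presheaf.stalk (f z)) (X.presheaf.stalk z ⧸ maximalIdeal (X.presheaf.stalk z)) =
      Module.length (Y.residueField (f z)) (X.residueField z) := by
    refine Cyc26.length_eq_of_semilinear (Y.residue (f z)).hom (Y.residue_surjective (f z))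
      (AddEquiv.refl _ : (X.presheaf.stalk z ⧸ maximalIdeal (X.presheaf.stalk z)) ≃+ X.residueField z) fun a w => ?_
    obtain ⟨b, rfl⟩ := Ideal.Quotient.mk_surjective w
    show X.residue z ((locMap f rfl) a * b) = f.residueFieldMap z (Y.residue (f z) a) * X.residue z b
    rw [map_mul, locMap, TopCat.Presheaf.stalkSpecializes_refl]
    congr 1
  rw [h, toNat_length_eq_finrank]
  rfl

theorem flat_locMap (f : X ⟶ Y) [Flat f] {z : X} {ζ : Y} (hz : f z = ζ) : (locMap f hz).hom.Flat := by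
  subst hz
  rw [locMap, TopCat.Presheaf.stalkSpecializes_refl]
  exact (Flat.iff_flat_stalkMap f).1 inferInstance z

theorem isLocalHom_stalk (f : X ⟶ Y) {z : X} {ζ : Y} (hz : f z = ζ) : IsLocalHom (locMap f hz).hom := by
  subst hz
  rw [locMap, TopCat.Presheaf.stalkSpecializes_refl]
  exact inferInstanceAs (IsLocalHom (f.stalkMap z).hom)

/-- The stalk of the structure sheaf of a reduced closure. -/
theorem nonempty_stalk_ptMod {v x : X} (h : v ⤳ x) :
    Nonempty ((X.presheaf.stalk x ⧸ (genPrime h).asIdeal) ≃ₗ[X.presheaf.stalk x] (NumPoly18.ptMod v).presheaf.stalk x) := by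
  obtain ⟨g, hg, -⟩ := Vol26.exists_gen_closureStructureSheaf v
  let q := LinearMap.toSpanSingleton (X.presheaf.stalk x) _ (g x h)
  have hq : Function.Surjective q := fun m => hg.surj x h m
  exact ⟨(Submodule.quotEquivOfEq _ (LinearMap.ker q)
    (Submodule.ext fun r => ((hg.ann x h r).symm))).trans (LinearMap.quotKerEquivOfSurjective q hq)⟩

theorem nontrivial_ptMod {v x : X} (h : v ⤳ x) : Nontrivial ((NumPoly18.ptMod v).presheaf.stalk x) := by
  obtain ⟨e⟩ := nonempty_stalk_ptMod h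
  haveI := Ideal.Quotient.nontrivial_iff.2 (genPrime h).2.ne_top
  exact e.symm.toEquiv.nontrivial

theorem nonempty_pull_ptMod (f : X ⟶ Y) (z : X) {ζ : Y} (hz : f z = ζ) {v : Y} (hv : v ⤳ ζ) :
    letI := (locMap f hz).hom.toAlgebra
    Nonempty ((X.presheaf.stalk z ⊗[Y.presheaf.stalk ζ] (Y.presheaf.stalk ζ ⧸ (genPrime hv).asIdeal)) ≃ₗ[X.presheaf.stalk z]
      ((Scheme.Modules.pullback f).obj (NumPoly18.ptMod v)).presheaf.stalk z) := by
  subst hz
  obtain ⟨e⟩ := nonempty_stalk_ptMod hv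
  have he : locMap f (rfl : f z = f z) = f.stalkMap z := by
    rw [locMap, TopCat.Presheaf.stalkSpecializes_refl, Category.id_comp]
  rw [he]
  letI := (f.stalkMap z).hom.toAlgebra
  exact ⟨(AlgebraTensorModule.congr (LinearEquiv.refl _ _) e).trans (M2.pullStalkEquiv f z (NumPoly18.ptMod v))⟩

section

variable (f : X ⟶ Y) [Flat f] [LocallyOfFiniteType f] {δX : X → ℤ} {δY : Y → ℤ} {e : ℕ}

theorem delta_le_add (hδ : Cyc.DeltaCompat f δX δY) (hrel : Cyc.HasRelDim f e) (x : X) : δX x ≤ δY (f x) + e := by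
  have h1 := UCat26.delta_eq_add_rd f hδ x
  have := Cyc26.rd_le_of_hasRelDim f hrel x
  omega

theorem pullFun_indicator [IsNoetherian Y] (hdY : Cyc.IsDimFun Y δY) (hδ : Cyc.DeltaCompat f δX δY)
    (hrel : Cyc.HasRelDim f e) (v : Y) :
    (∀ x, Nontrivial (((Scheme.Modules.pullback f).obj (NumPoly18.ptMod v)).presheaf.stalk x) → δX x ≤ δY v + e) ∧
      Cyc.pullFun f δX δY e (Set.indicator {v} 1) =
        Cyc.sheafFun δX (δY v + e) ((Scheme.Modules.pullback f).obj (NumPoly18.ptMod v)) := by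
  have h := Cyc26.pullFun_sheafFun f (c := e) (delta_le_add f hδ hrel) (δY v) (NumPoly18.ptMod v)
    (fun y hy => delta_le hdY ((sheafFun_ptMod hdY v).2 y hy))
  rwa [(sheafFun_ptMod hdY v).1] at h

/-- Over a point of the closure of `v` lies a point of the pullback of `[v]`. -/
theorem exists_pull_point [IsNoetherian Y] [IsLocallyNoetherian X] (hdX : Cyc.IsDimFun X δX)
    (hdY : Cyc.IsDimFun Y δY) (hδ : Cyc.DeltaCompat f δX δY) (hrel : Cyc.HasRelDim f e) {v : Y} {z : X} (h : v ⤳ f z) :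
    ∃ η, η ⤳ z ∧ f η = v ∧ δX η = δY v + e ∧ Cyc.pullFun f δX δY e (Set.indicator {v} 1) η ≠ 0 := by
  obtain ⟨η₁, h1, h2⟩ := Flat.generalizingMap f h
  subst h2
  haveI : IsLocallyNoetherian (f.fiber (f η₁)) := LocallyOfFiniteType.isLocallyNoetherian (FibDim14.toPt f (f η₁))
  obtain ⟨w, hw, hmax⟩ := UCat26.exists_generic (f.asFiber η₁)
  obtain ⟨hs, hf⟩ := FibDim14.fiberι_mem f hw
  refine ⟨f.fiberι _ w, hs.trans h1, hf, ?_, ?_⟩
  · have hrd : FibDim14.rd f (f.fiberι _ w) = e :=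
      (FibDim14.hasRelDim_iff f e).1 hrel _ ((FibDim14.isMaxFib_fiberι f (f η₁) w).2 hmax)
    rw [UCat26.delta_eq_add_rd f hδ (f.fiberι _ w), hf, hrd]
  · set η := f.fiberι _ w with hη
    have hrd : FibDim14.rd f η = e :=
      (FibDim14.hasRelDim_iff f e).1 hrel _ ((FibDim14.isMaxFib_fiberι f (f η₁) w).2 hmax)
    have hδη : δX η = δY (f η₁) + e := by rw [UCat26.delta_eq_add_rd f hδ η, hf, hrd]
    obtain ⟨hle, heq⟩ := pullFun_indicator f hdY hδ hrel (f η₁)
    rw [heq, Cyc.sheafFun, if_pos hδη]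
    haveI : Nontrivial ((NumPoly18.ptMod (f η₁)).presheaf.stalk (f η)) := nontrivial_ptMod (specializes_of_eq hf.symm)
    have hne : Nontrivial (((Scheme.Modules.pullback f).obj (NumPoly18.ptMod (f η₁))).presheaf.stalk η) := by
      refine (Module.length_pos_iff (R := X.presheaf.stalk η)).1 (pos_iff_ne_zero.2 ?_)
      rw [Cyc26.length_stalk_pullback f]
      refine mul_ne_zero (Module.length_pos_iff.2 inferInstance).ne' (Module.length_pos_iff.2 ?_).ne'
      exact Ideal.Quotient.nontrivial_iff.2 ((Ideal.map_le_of_le_comap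
        (((IsLocalRing.local_hom_TFAE _).out 0 4 rfl rfl).1 (inferInstanceAs (IsLocalHom (f.stalkMap η).hom))).ge).trans_lt
          (lt_top_iff_ne_top.2 (maximalIdeal.isMaximal _).ne_top)).ne
    have hfin := Cyc26.length_stalk_ne_top (M1.isCoh_pullback f (NumPoly18.isCoh_ptMod (f η₁))) (ξ := η)
      fun y hy hyη => eq_of_delta_le hdX hyη (hδη ▸ hle y hy)
    exact Nat.cast_ne_zero.2 fun h0 => by
      rcases ENat.toNat_eq_zero.1 h0 with h' | h'
      · exact (Module.length_pos_iff.2 hne).ne' h'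
      · exact hfin h'

end

variable [IsAlgClosed K] (f : X ⟶ Y) (gX : X ⟶ Spec (CommRingCat.of K)) (gY : Y ⟶ Spec (CommRingCat.of K))
  {δX : X → ℤ} {δY : Y → ℤ} {n m : ℤ} {e : ℕ}

/-- The coefficient of the product of a point with a pulled-back point, as a multiplicity. -/
theorem interProd_pull_apply [Flat f] [LocallyOfFiniteType f] [Smooth gX] [IsSeparated gX] [QuasiCompact gX]
    [IsIntegral X] [IsNoetherian Y] (hX : Cyc.IsSetup X δX) (hδX : Cyc.DeltaCompat gX δX (fun _ => 0))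
    (hn : δX (genericPoint X) = n) (hdY : Cyc.IsDimFun Y δY) (hδ : Cyc.DeltaCompat f δX δY)
    (hrel : Cyc.HasRelDim f e) (u : X) (v : Y)
    (hprop : ∀ η z, Cyc.pullFun f δX δY e (Set.indicator {v} 1) η ≠ 0 → u ⤳ z → η ⤳ z → δX z ≤ δX u + δX η - n)
    (z : X) {ζ : Y} (hz : f z = ζ) (hu : u ⤳ z) (hv : v ⤳ ζ) (hd : δX z = δX u + (δY v + e) - n) :
    letI := (locMap f hz).hom.toAlgebra
    IntMult.interProd δX n (Set.indicator {u} 1) (Cyc.pullFun f δX δY e (Set.indicator {v} 1)) z =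
      IntMult.chi (X.presheaf.stalk z) (X.presheaf.stalk z ⧸ (genPrime hu).asIdeal)
        (X.presheaf.stalk z ⊗[Y.presheaf.stalk ζ] (Y.presheaf.stalk ζ ⧸ (genPrime hv).asIdeal)) := by
  haveI : IsLocallyNoetherian X := hX.1
  haveI : CompactSpace X := QuasiCompact.compactSpace_of_compactSpace gX
  haveI : IsNoetherian X := {}
  obtain ⟨hle, heq⟩ := pullFun_indicator f hdY hδ hrel v
  obtain ⟨hu1, hu2⟩ := sheafFun_ptMod hX.2.2 u
  have h := (S6470.result K X gX δX hX hδX n hn (NumPoly18.ptMod u)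
    ((Scheme.Modules.pullback f).obj (NumPoly18.ptMod v)) (NumPoly18.isCoh_ptMod u)
    (M1.isCoh_pullback f (NumPoly18.isCoh_ptMod v)) (δX u) (δY v + e) (fun x hx => delta_le hX.2.2 (hu2 x hx)) hle
    fun x h1 h2 => by
      obtain ⟨η, hη, -, hδη, hne⟩ := exists_pull_point f hX.2.2 hdY hδ hrel
        ((sheafFun_ptMod hdY v).2 _ (Cyc26.nontrivial_of_stalk_pullback f _ x h2))
      have := hprop η x hne (hu2 x h1) hη
      omega).2 z
  rw [hu1, ← heq, if_pos hd] at h
  rw [h]
  obtain ⟨e1⟩ := nonempty_stalk_ptMod hu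
  obtain ⟨e2⟩ := nonempty_pull_ptMod f z hz hv
  rw [← chi_congr e1, chi_comm, ← chi_congr e2, chi_comm]

variable [Flat f] [LocallyOfFiniteType f] [Smooth gX] [IsSeparated gX] [QuasiCompact gX] [IsIntegral X]
  [Smooth gY] [IsIntegral Y] [IsNoetherian Y]

include gX gY in
/-- The projection formula where the closure of a point is finite over the point below. -/
theorem proj_core (hX : Cyc.IsSetup X δX) (hδX : Cyc.DeltaCompat gX δX (fun _ => 0))
    (hn : δX (genericPoint X) = n) (hdY : Cyc.IsDimFun Y δY) (hm : δY (genericPoint Y) = m)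
    (hδ : Cyc.DeltaCompat f δX δY) (hrel : Cyc.HasRelDim f e) (he : (e : ℤ) = n - m)
    {U : Scheme.{u}} (j : U ⟶ X) [IsPreimmersion j] (ξ : U) (v : Y) {ζ : Y}
    (hy : (j ≫ f) ξ ⤳ ζ) (sl : SemiLoc (j ≫ f) ξ ζ hy) (hv : v ⤳ ζ)
    (hprop : ∀ η z, Cyc.pullFun f δX δY e (Set.indicator {v} 1) η ≠ 0 → j ξ ⤳ z → η ⤳ z → δX z ≤ δX (j ξ) + δX η - n)
    (hζ : δY ζ = δX (j ξ) + δY v - m)
    (hmeet : ∀ y, f (j ξ) ⤳ y → v ⤳ y → δY y ≤ δX (j ξ) + δY v - m)
    (T : Finset X) (hT : ∀ z, z ∈ T ↔ f z = ζ ∧ j ξ ⤳ z) (hTd : ∀ z ∈ T, δX z = δY ζ)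
    (hTr : ∀ z ∈ T, z ∈ Set.range j) :
    (AlgebraicCycle.mapCoeff f δX δY (j ξ) : ℤ) *
        IntMult.interProd δY m (Set.indicator {f (j ξ)} 1) (Set.indicator {v} 1) ζ =
      ∑ z ∈ T, (AlgebraicCycle.mapCoeff f δX δY z : ℤ) *
        IntMult.interProd δX n (Set.indicator {j ξ} 1) (Cyc.pullFun f δX δY e (Set.indicator {v} 1)) z := by
  classical
  letI := sl.cr
  letI := sl.alg
  haveI := sl.finite
  haveI : IsLocallyNoetherian Y := inferInstance
  haveI : IsRegularLocalRing (Y.presheaf.stalk ζ) := SmoothReg17.isRegularLocalRing_stalk gY ζ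
  have hfu : f (j ξ) ⤳ ζ := hy
  let A := Y.presheaf.stalk ζ
  let N := A ⧸ (genPrime hv).asIdeal
  let p0 := genPrime hfu
  have hker : RingHom.ker (algebraMap A sl.B) = p0.asIdeal := sl.ker_eq
  have hann : Module.annihilator A sl.B = p0.asIdeal := by
    rw [← hker]
    ext a
    rw [Module.mem_annihilator, RingHom.mem_ker]
    exact ⟨fun h => by rw [Algebra.algebraMap_eq_smul_one]; exact h 1,
      fun h b => by rw [Algebra.smul_def, h, zero_mul]⟩
  have hsB : ∀ p : PrimeSpectrum A, p ∈ Module.support A sl.B ↔ p0.asIdeal ≤ p.asIdeal := fun p => by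
    rw [Module.support_eq_zeroLocus, hann]
    rfl
  have hsq : ∀ {ξ' : Y} (h : ξ' ⤳ ζ) (p : PrimeSpectrum A),
      p ∈ Module.support A (A ⧸ (genPrime h).asIdeal) → ξ' ⤳ Y.fromSpecStalk ζ p := by
    intro ξ' h p hp
    rw [Module.support_eq_zeroLocus, Ideal.annihilator_quotient] at hp
    have := ((PrimeSpectrum.le_iff_specializes (genPrime h) p).1 hp).map (Y.fromSpecStalk ζ).continuous
    rwa [fromSpecStalk_genPrime] at this
  have hsBsp : ∀ p : PrimeSpectrum A, p ∈ Module.support A sl.B → f (j ξ) ⤳ Y.fromSpecStalk ζ p := fun p hp => by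
    refine hsq hfu p ?_
    rw [Module.support_eq_zeroLocus, Ideal.annihilator_quotient]
    exact (hsB p).1 hp
  have hCN : Meet (A := A) sl.B N := fun p h1 h2 => by
    have hP := fromSpecStalk_specializes ζ p
    have h3 := hmeet _ (hsBsp p h1) (hsq hv p h2)
    have h4 := eq_of_delta_le hdY hP (by omega)
    rw [← genPrime_fromSpecStalk p hP, genPrime_congr h4 hP (specializes_refl ζ), genPrime_refl]
  -- maximal ideals and points
  choose x' hx' using hTr
  have hx1 : ∀ z (hz : z ∈ T), (j ≫ f) (x' z hz) = ζ := fun z hz => by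
    show f (j (x' z hz)) = ζ
    rw [hx' z hz]
    exact ((hT z).1 hz).1
  have hx2 : ∀ z (hz : z ∈ T), ξ ⤳ x' z hz := fun z hz =>
    j.isEmbedding.isInducing.specializes_iff.1 ((hx' z hz).symm ▸ ((hT z).1 hz).2)
  let P : {z // z ∈ T} → PrimeSpectrum sl.B := fun z => sl.P _ (hx1 _ z.2) (hx2 _ z.2)
  have hPinj : Set.InjOn P T.attach := fun a _ b _ h => Subtype.ext (by
    rw [← hx' _ a.2, ← hx' _ b.2, sl.P_inj _ _ _ _ _ _ h])
  have hS : ∀ q, q ∈ T.attach.image P ↔ q.asIdeal.IsMaximal := fun q => by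
    refine ⟨fun hq => ?_, fun hq => ?_⟩
    · obtain ⟨z, -, rfl⟩ := Finset.mem_image.1 hq
      exact sl.P_max _ _ _
    · obtain ⟨x, hx, h, rfl⟩ := sl.P_surj q hq
      have hz : j x ∈ T := (hT _).2 ⟨hx, h.map j.continuous⟩
      refine Finset.mem_image.2 ⟨⟨j x, hz⟩, Finset.mem_attach _ _, ?_⟩
      have hxx : x' (j x) hz = x := j.isEmbedding.injective (hx' (j x) hz)
      show sl.P _ (hx1 _ hz) (hx2 _ hz) = sl.P x hx h
      congr 1
  have hterm : ∀ x : U, ∀ (hxζ : (j ≫ f) x = ζ) (hxξ : ξ ⤳ x), δX (j x) = δY ζ →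
      (AlgebraicCycle.mapCoeff f δX δY (j x) : ℤ) *
        IntMult.interProd δX n (Set.indicator {j ξ} 1) (Cyc.pullFun f δX δY e (Set.indicator {v} 1)) (j x) =
      pointChi (A := A) sl.B N (sl.P x hxζ hxξ) := by
    intro x hxζ hxξ hd
    have hz : f (j x) = ζ := hxζ
    have hu : j ξ ⤳ j x := hxξ.map j.continuous
    letI := (locMap f hz).hom.toAlgebra
    haveI : Module.Flat A (X.presheaf.stalk (j x)) := RingHom.flat_algebraMap_iff.1 (flat_locMap f hz)
    let L := Cyc.LocQuot x ξ hxξ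
    letI : Algebra sl.B L := (sl.phi x hxζ hxξ).toAlgebra
    haveI : IsLocalization.AtPrime L (sl.P x hxζ hxξ).asIdeal := sl.isLoc x hxζ hxξ
    let π : X.presheaf.stalk (j x) →+* L := (Ideal.Quotient.mk _).comp (j.stalkMap x).hom
    have hπ : Function.Surjective π := Ideal.Quotient.mk_surjective.comp (j.stalkMap_surjective x)
    letI : Algebra (X.presheaf.stalk (j x)) L := π.toAlgebra
    letI : Algebra A L := (π.comp (locMap f hz).hom).toAlgebra
    haveI : IsScalarTower A (X.presheaf.stalk (j x)) L := IsScalarTower.of_algebraMap_eq fun _ => rfl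
    haveI : IsScalarTower A sl.B L := IsScalarTower.of_algebraMap_eq fun a => by
      show π (locMap f hz a) = sl.phi x hxζ hxξ (algebraMap A sl.B a)
      rw [sl.phi_alg]
      show Ideal.Quotient.mk _ (j.stalkMap x (locMap f hz a)) = _
      congr 1
      subst hz
      simp only [locMap, TopCat.Presheaf.stalkSpecializes_refl, Category.id_comp, Scheme.Hom.stalkMap_comp]
      rfl
    rw [AlgebraicCycle.mapCoeff, if_pos (show δX (j x) = δY (f (j x)) by rw [hz]; exact hd),
      residueDegree_eq_length f (j x) hz,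
      interProd_pull_apply f gX hX hδX hn hdY hδ hrel (j ξ) v hprop (j x) hz hu hv (by omega)]
    have hk : (genPrime hu).asIdeal = LinearMap.ker (Algebra.linearMap (X.presheaf.stalk (j x)) L) := by
      ext a
      rw [LinearMap.mem_ker]
      show Cyc.specMap (j x) (j ξ) hu a = 0 ↔ Ideal.Quotient.mk _ (j.stalkMap x a) = 0
      rw [Ideal.Quotient.eq_zero_iff_mem, RingHom.mem_ker]
      have hsq' : Cyc.specMap x ξ hxξ (j.stalkMap x a) = j.residueFieldMap ξ (Cyc.specMap (j x) (j ξ) hu a) := by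
        show U.residue ξ (U.presheaf.stalkSpecializes hxξ (j.stalkMap x a)) =
          j.residueFieldMap ξ (X.residue _ (X.presheaf.stalkSpecializes _ a))
        rw [← Scheme.Hom.stalkSpecializes_stalkMap_apply j ξ x hxξ a]
        exact (ConcreteCategory.congr_hom (Scheme.residue_residueFieldMap j ξ) _).symm
      rw [hsq']
      exact (map_eq_zero (j.residueFieldMap ξ).hom).symm
    let eL : (X.presheaf.stalk (j x) ⧸ (genPrime hu).asIdeal) ≃ₗ[X.presheaf.stalk (j x)] L :=
      (Submodule.quotEquivOfEq _ _ hk).trans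
        (LinearMap.quotKerEquivOfSurjective (Algebra.linearMap (X.presheaf.stalk (j x)) L) hπ)
    rw [chi_congr eL]
    exact deg_mul_chi_eq_pointChi N hCN (sl.P x hxζ hxξ) (sl.P_max x hxζ hxξ) (X.presheaf.stalk (j x)) L hπ
  have hsum : (∑ z ∈ T, (AlgebraicCycle.mapCoeff f δX δY z : ℤ) *
      IntMult.interProd δX n (Set.indicator {j ξ} 1) (Cyc.pullFun f δX δY e (Set.indicator {v} 1)) z) =
      IntMult.chi A sl.B N := by
    rw [chi_eq_sum_pointChi N hCN (T.attach.image P) hS, Finset.sum_image hPinj, ← Finset.sum_attach T]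
    refine Finset.sum_congr rfl fun z _ => ?_
    have h := hterm _ (hx1 _ z.2) (hx2 _ z.2) (by rw [hx' _ z.2]; exact hTd _ z.2)
    rw [hx' _ z.2] at h
    exact h
  rw [hsum]
  -- devissage
  have hδu : δY (f (j ξ)) ≤ δX (j ξ) := Cyc26.delta_image_le f hδ (j ξ)
  have hζu : δY ζ ≤ δX (j ξ) := (delta_le hdY hfu).trans hδu
  set a := (δX (j ξ) - δY ζ).toNat with ha
  have hM : Module.supportDim A sl.B ≤ a := supportDim_le_of_forall fun p hp => by
    have hP := fromSpecStalk_specializes ζ p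
    rw [← genPrime_fromSpecStalk p hP, dim_genPrime hdY hP]
    have := delta_le hdY (hsBsp p hp)
    exact_mod_cast (show (δY (Y.fromSpecStalk ζ p) - δY ζ).toNat ≤ a by omega)
  have hlow : ∀ p : PrimeSpectrum A, Meet (A := A) (A ⧸ p.asIdeal) N → ringKrullDim (A ⧸ p.asIdeal) < a →
      IntMult.chi A (A ⧸ p.asIdeal) N = 0 := by
    intro p hp hlt
    have hP := fromSpecStalk_specializes ζ p
    have e0 := genPrime_fromSpecStalk p hP
    rw [← e0, dim_genPrime hdY hP] at hlt
    have hlt' : (δY (Y.fromSpecStalk ζ p) - δY ζ).toNat < a := by exact_mod_cast hlt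
    have h := chi_prime_eq_zero gY hdY hP hv
    rw [e0] at h
    exact h hp (by have := delta_le hdY hP; omega)
  rw [chi_devissage N a hlow sl.B hCN hM, interProd_indicator]
  have hmem : ∀ p, p ∈ (finite_top sl.B hM).toFinset ↔ p = p0 ∧ δY (f (j ξ)) = δX (j ξ) := fun p => by
    rw [Set.Finite.mem_toFinset]
    constructor
    · rintro ⟨hp, hps⟩
      have hP := fromSpecStalk_specializes ζ p
      have e0 := genPrime_fromSpecStalk p hP
      rw [← e0, dim_genPrime hdY hP] at hp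
      have hp' : (δY (Y.fromSpecStalk ζ p) - δY ζ).toNat = a := by exact_mod_cast hp
      have h1 := delta_le hdY (hsBsp p hps)
      have h2 := delta_le hdY hP
      refine ⟨?_, by omega⟩
      rw [← e0]
      exact genPrime_congr (eq_of_delta_le hdY (hsBsp p hps) (by omega)).symm hP hfu
    · rintro ⟨rfl, hd⟩
      refine ⟨?_, (hsB _).2 le_rfl⟩
      rw [dim_genPrime hdY hfu, hd]
  rw [AlgebraicCycle.mapCoeff]
  by_cases hd : δX (j ξ) = δY (f (j ξ))
  · rw [if_pos hd, if_pos ⟨hfu, hv, by omega⟩,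
      show (finite_top sl.B hM).toFinset = {p0} from Finset.ext fun p => by
        rw [hmem, Finset.mem_singleton]; exact ⟨fun h => h.1, fun h => ⟨h, hd.symm⟩⟩,
      Finset.sum_singleton, IntMult.mult, stalkIdeal_ptIdeal hfu, stalkIdeal_ptIdeal hv, chi_comm]
    congr 1
    have hl : locLen p0 sl.B = ((j ≫ f).residueDegree ξ : ℕ∞) := sl.locLen_eq
    rw [hl, ENat.toNat_coe, Cyc26.residueDegree_comp,
      Cyc26.residueDegree_of_bijective j ξ (Cyc26.residueFieldMap_bijective j ξ), mul_one]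
  · rw [if_neg hd, show (finite_top sl.B hM).toFinset = ∅ from Finset.ext fun p => by
      rw [hmem]; simpa using fun _ e => hd e.symm, Finset.sum_empty]
    simp

include gX gY in
/-- The projection formula for two points. -/
theorem proj_pair [IsProper f] (hX : Cyc.IsSetup X δX) (hδX : Cyc.DeltaCompat gX δX (fun _ => 0))
    (hn : δX (genericPoint X) = n) (hdY : Cyc.IsDimFun Y δY) (hm : δY (genericPoint Y) = m)
    (hδ : Cyc.DeltaCompat f δX δY) (hrel : Cyc.HasRelDim f e) (he : (e : ℤ) = n - m)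
    (u : X) (v : Y)
    (hprop : ∀ η z, Cyc.pullFun f δX δY e (Set.indicator {v} 1) η ≠ 0 → u ⤳ z → η ⤳ z → δX z ≤ δX u + δX η - n)
    (ζ : Y) :
    ∃ T : Finset X, (∀ z ∈ T, f z = ζ) ∧ ∀ T' : Finset X, T ⊆ T' → (∀ z ∈ T', f z = ζ) →
      (AlgebraicCycle.mapCoeff f δX δY u : ℤ) *
          IntMult.interProd δY m (Set.indicator {f u} 1) (Set.indicator {v} 1) ζ =
        ∑ z ∈ T', (AlgebraicCycle.mapCoeff f δX δY z : ℤ) *
          IntMult.interProd δX n (Set.indicator {u} 1) (Cyc.pullFun f δX δY e (Set.indicator {v} 1)) z := by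
  classical
  haveI : IsLocallyNoetherian X := hX.1
  haveI : CompactSpace X := QuasiCompact.compactSpace_of_compactSpace gX
  have hdX := hX.2.2
  have hmeet : ∀ y, f u ⤳ y → v ⤳ y → δY y ≤ δX u + δY v - m := fun y h1 h2 => by
    obtain ⟨z, hz1, hz2⟩ := f.isClosedMap.specializingMap h1
    obtain ⟨η, hη, -, hδη, hne⟩ := exists_pull_point f hdX hdY hδ hrel (v := v) (z := z) (hz2.symm ▸ h2)
    have h3 := hprop η z hne hz1 hη
    have h4 := Cyc26.delta_image_le f hδ z
    rw [hz2] at h4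
    omega
  have hnz : ∀ z, f z = ζ → (AlgebraicCycle.mapCoeff f δX δY z : ℤ) *
      IntMult.interProd δX n (Set.indicator {u} 1) (Cyc.pullFun f δX δY e (Set.indicator {v} 1)) z ≠ 0 →
      u ⤳ z ∧ v ⤳ ζ ∧ δY ζ = δX u + δY v - m := by
    intro z hz hne
    have h1 : δX z = δY (f z) := by
      by_contra h
      exact left_ne_zero_of_mul hne (by rw [AlgebraicCycle.mapCoeff, if_neg h]; rfl)
    obtain ⟨p, hp⟩ : ∃ p : {p : X × X // p.1 ⤳ z ∧ p.2 ⤳ z ∧ δX p.1 + δX p.2 - n = δX z},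
        Set.indicator {u} (1 : X → ℤ) p.1.1 * Cyc.pullFun f δX δY e (Set.indicator {v} 1) p.1.2 *
          IntMult.mult (IntMult.ptIdeal p.1.1) (IntMult.ptIdeal p.1.2) z ≠ 0 := by
      by_contra h
      push Not at h
      exact right_ne_zero_of_mul hne (finsum_eq_zero_of_forall_eq_zero h)
    obtain ⟨h2, h3, h4⟩ := p.2
    have hpu' := Set.mem_of_indicator_ne_zero (left_ne_zero_of_mul (left_ne_zero_of_mul hp))
    have hpu : p.1.1 = u := hpu'
    have hpv := right_ne_zero_of_mul (left_ne_zero_of_mul hp)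
    unfold Cyc.pullFun at hpv
    split_ifs at hpv with hk
    · have hfv' := Set.mem_of_indicator_ne_zero (left_ne_zero_of_mul hpv)
      have hfv : f p.1.2 = v := hfv'
      rw [hfv] at hk
      refine ⟨hpu ▸ h2, hfv ▸ hz ▸ h3.map f.continuous, ?_⟩
      rw [hpu, hk] at h4
      rw [← hz, ← h1]
      omega
    · exact absurd rfl hpv
  by_cases hc : f u ⤳ ζ ∧ v ⤳ ζ ∧ δY ζ = δX u + δY v - m
  swap
  · refine ⟨∅, by simp, fun T' _ hT' => ?_⟩
    rw [Finset.sum_eq_zero fun z hz => ?_]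
    · by_contra hne
      rw [interProd_indicator] at hne
      split_ifs at hne with h
      · refine hc ⟨h.1, h.2.1, ?_⟩
        by_contra hne'
        refine left_ne_zero_of_mul hne (by
          rw [AlgebraicCycle.mapCoeff, if_neg (fun e => hne' (by rw [e]; exact h.2.2.symm))]; rfl)
      · exact hne (mul_zero _)
    · by_contra hne
      obtain ⟨h1, h2, h3⟩ := hnz z (hT' z hz) hne
      exact hc ⟨hT' z hz ▸ h1.map f.continuous, h2, h3⟩
  obtain ⟨hfu, hv, hζ⟩ := hc
  have hd : ∀ z, f z = ζ → u ⤳ z → δX z = δY ζ := fun z hz h => by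
    obtain ⟨η, hη, -, hδη, hne⟩ := exists_pull_point f hdX hdY hδ hrel (v := v) (z := z) (hz.symm ▸ hv)
    have h3 := hprop η z hne h hη
    have h4 := Cyc26.delta_image_le f hδ z
    rw [hz] at h4
    omega
  have hTfin : {z | f z = ζ ∧ u ⤳ z}.Finite := by
    choose W hW hxW hsub using fun x : X => exists_isAffineOpen_mem_and_subset (U := (⊤ : X.Opens)) (x := x) trivial
    obtain ⟨t, ht⟩ := isCompact_univ.elim_finite_subcover (fun x => (W x : Set X)) (fun x => (W x).isOpen)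
      (fun x _ => Set.mem_iUnion.2 ⟨x, hxW x⟩)
    refine (t.finite_toSet.biUnion fun w _ => Cyc26.finite_maximal_points
      (S := closure {u} ∩ f ⁻¹' closure {ζ}) (isClosed_closure.inter (isClosed_closure.preimage f.continuous))
      (hW w)).subset fun x hx => ?_
    obtain ⟨w, hw, hxw⟩ := Set.mem_iUnion₂.1 (ht (Set.mem_univ x))
    refine Set.mem_iUnion₂.2 ⟨w, hw, ⟨specializes_iff_mem_closure.1 hx.2,
      show f x ∈ closure {ζ} from hx.1.symm ▸ subset_closure rfl⟩, fun z hz hzx => ?_, hxw⟩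
    have hzy : f z = ζ :=
      ((hzx.map f.continuous).trans (specializes_of_eq hx.1)).antisymm (specializes_iff_mem_closure.2 hz.2) |>.eq
    exact eq_of_delta_le hdX hzx (by rw [hd z hzy (specializes_iff_mem_closure.2 hz.1), hd x hx.1 hx.2])
  refine ⟨hTfin.toFinset, fun z hz => (hTfin.mem_toFinset.1 hz).1, fun T' hsub hT' => ?_⟩
  rw [← Finset.sum_subset hsub fun z hz hn' => by
    by_contra hne
    exact hn' (hTfin.mem_toFinset.2 ⟨hT' z hz, (hnz z (hT' z hz) hne).1⟩)]
  -- the closure of `u`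
  obtain ⟨Z, i, hi, hZ, hrange, hgen⟩ := Cyc26.exists_closure_subscheme X u
  have hqfin : ((i ≫ f) ⁻¹' {ζ}).Finite :=
    (hTfin.preimage i.isEmbedding.injective.injOn).subset fun z hz =>
      ⟨hz, specializes_iff_mem_closure.2 (hrange ▸ ⟨z, rfl⟩)⟩
  obtain ⟨V, hζV, hV⟩ := exists_isFinite_morphismRestrict_of_finite_preimage_singleton (i ≫ f) ζ hqfin
  obtain ⟨V₀, hV₀, hζV₀, hV₀V⟩ := exists_isAffineOpen_mem_and_subset hζV
  let U : Z.Opens := (i ≫ f) ⁻¹ᵁ V
  let j : (U : Scheme.{u}) ⟶ X := U.ι ≫ i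
  haveI := hV
  have hjp : ((i ≫ f) ∣_ V) ≫ V.ι = j ≫ f := (morphismRestrict_ι _ V).trans (Category.assoc _ _ _).symm
  have hgU : genericPoint Z ∈ U := by
    show f (i (genericPoint Z)) ∈ V
    rw [hgen]; exact hfu.mem_open V.isOpen hζV
  let ξ : (U : Scheme.{u}) := ⟨genericPoint Z, hgU⟩
  have hjξ : j ξ = u := hgen
  have hy : (j ≫ f) ξ ⤳ ζ := by show f (j ξ) ⤳ ζ; rw [hjξ]; exact hfu
  have hV₀' : IsAffineOpen (V.ι ⁻¹ᵁ V₀) := hV₀.preimage_of_isOpenImmersion V.ι (by simpa using hV₀V)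
  have hUaff : IsAffineOpen ((j ≫ f) ⁻¹ᵁ V₀) := by
    rw [← hjp]
    exact hV₀'.preimage ((i ≫ f) ∣_ V)
  have hfin : ((j ≫ f).app V₀).hom.Finite := by
    rw [← hjp, Scheme.Hom.comp_app]
    haveI : IsIso (V.ι.app V₀) := V.ι.isIso_app V₀ (by simpa using hV₀V)
    exact RingHom.Finite.comp (IsFinite.finite_app ((i ≫ f) ∣_ V) _ hV₀')
      (RingHom.Finite.of_surjective _ (ConcreteCategory.bijective_of_isIso (V.ι.app V₀)).2)
  obtain ⟨sl⟩ := nonempty_semiLoc (j ≫ f) hy hV₀ hζV₀ hUaff hfin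
  have hT : ∀ z, z ∈ hTfin.toFinset ↔ f z = ζ ∧ j ξ ⤳ z := fun z => by rw [hjξ]; exact hTfin.mem_toFinset
  have hTr : ∀ z ∈ hTfin.toFinset, z ∈ Set.range j := fun z hz => by
    obtain ⟨h1, h2⟩ := hTfin.mem_toFinset.1 hz
    obtain ⟨w, rfl⟩ : z ∈ Set.range i := hrange ▸ specializes_iff_mem_closure.1 h2
    exact ⟨⟨w, show f (i w) ∈ V from h1.symm ▸ hζV⟩, rfl⟩
  have hcore := proj_core f gX gY hX hδX hn hdY hm hδ hrel he j ξ v hy sl hv
    (by rw [hjξ]; exact hprop) (by rw [hjξ]; exact hζ) (by rw [hjξ]; exact hmeet) hTfin.toFinset hT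
    (fun z hz => hd z (hTfin.mem_toFinset.1 hz).1 (hTfin.mem_toFinset.1 hz).2) hTr
  rw [hjξ] at hcore
  exact hcore

end Groth.Agent.Diag27
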