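import Groth.Agent.Lib.Diag27.P1Base
import Groth.Agent.S1950


/-!
# Intersections of a family of cycles over the projective line with a constant cycle
-/

set_option autoImplicit false
set_option linter.style.haveILetI false
set_option backward.isDefEq.respectTransparency false
set_option backward.isDefEq.respectTransparency.types false

universe u

open CategoryTheory CategoryTheory.Limits AlgebraicGeometry IsLocalRing Groth.Agent
open scoped Pointwise

noncomputable section

namespace Groth.Agent.Diag27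

open P1S26

section general

variable {X : Scheme.{u}} [IsIntegral X] [IsNoetherian X] {δ : X → ℤ} {δP : ↥(P X) → ℤ}

/-- A point specialising to a section has, in the section, a point of codimension at most one. -/
theorem exists_cut (hX : Cyc.IsSetup X δ) (hP : Cyc.DeltaCompat (π X) δP δ) (i : Fin (1 + 1)) {η : P X} {x : X}
    (h : η ⤳ P1.sect X i x) :
    ∃ y : X, η ⤳ P1.sect X i y ∧ y ⤳ x ∧ δP η ≤ δ y + 1 ∧
      ∀ z, η ⤳ P1.sect X i z → z ⤳ y → z = y := by
  classical
  have hdP := (isSetup_P hX hP).2.2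
  haveI : IsLocallyNoetherian (P X) := (isSetup_P hX hP).1
  let A := (P X).presheaf.stalk (P1.sect X i x)
  set τ : A := (P X).presheaf.germ (U X i) _ (sect_mem X i x) (t X i) with hτ
  set pη := (genPrime h).asIdeal with hpη
  have hJ : pη ⊔ Ideal.span {τ} ≤ maximalIdeal A := sup_le (le_maximalIdeal (genPrime h).2.ne_top)
    ((Ideal.span_singleton_le_iff_mem _).2 ((mem_maximalIdeal _).2 (not_isUnit_sect X i x)))
  obtain ⟨q, hq, -⟩ := Ideal.exists_minimalPrimes_le hJ
  haveI := hq.1.1
  let qq : PrimeSpectrum A := ⟨q, inferInstance⟩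
  let Q := (P X).fromSpecStalk (P1.sect X i x) qq
  have hQ : Q ⤳ P1.sect X i x := fromSpecStalk_specializes _ qq
  have hspec : ∀ {ξ : P X} (hξ : ξ ⤳ P1.sect X i x) (p : PrimeSpectrum A), (genPrime hξ).asIdeal ≤ p.asIdeal →
      ξ ⤳ (P X).fromSpecStalk (P1.sect X i x) p := by
    intro ξ hξ p hp
    have h2 := ((PrimeSpectrum.le_iff_specializes (genPrime hξ) p).1 hp).map ((P X).fromSpecStalk _).continuous
    rwa [fromSpecStalk_genPrime] at h2
  have hle : ∀ {a b : P X} (ha : a ⤳ P1.sect X i x) (hb : b ⤳ P1.sect X i x), a ⤳ b →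
      (genPrime ha).asIdeal ≤ (genPrime hb).asIdeal := by
    intro a b ha hb hab
    refine (PrimeSpectrum.asIdeal_le_asIdeal _ _).2 ((PrimeSpectrum.le_iff_specializes _ _).2 ?_)
    refine ((P X).fromSpecStalk _).isEmbedding.isInducing.specializes_iff.1 ?_
    rw [fromSpecStalk_genPrime, fromSpecStalk_genPrime]
    exact hab
  have hgQ : genPrime hQ = qq := genPrime_fromSpecStalk qq hQ
  have hηQ : η ⤳ Q := hspec h qq (le_sup_left.trans hq.1.2)
  have hgen : P1.sect X i (genericPoint X) ⤳ Q :=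
    hspec (gen_sect_specializes i x) qq ((genPrime_sect i x).le.trans (le_sup_right.trans hq.1.2))
  obtain ⟨y, hy⟩ := mem_range_of_specializes i hgen
  have hyx : y ⤳ x := by
    have := hQ.map (π X).continuous
    rwa [← hy, π_sect_apply, π_sect_apply] at this
  refine ⟨y, hy ▸ hηQ, hyx, ?_, fun z hz hzy => ?_⟩
  · rw [← delta_sect X hP i y, hy]
    rcases eq_or_ne η Q with e | e
    · rw [e]; omega
    refine ((hdP η Q hηQ e).2 fun z hz1 hz2 => ?_).le
    have hz : z ⤳ P1.sect X i x := hz2.trans hQ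
    set r := (genPrime hz).asIdeal with hr
    haveI : r.IsPrime := (genPrime hz).2
    haveI : pη.IsPrime := (genPrime h).2
    have h1 : pη ≤ r := hle h hz hz1
    have h2 : r ≤ q := (hle hz hQ hz2).trans (by rw [hgQ])
    by_contra hc
    push Not at hc
    have hne1 : r ≠ pη := fun e => hc.1 (genPrime_injective hz h (PrimeSpectrum.ext e))
    have hne2 : r ≠ q := fun e => hc.2 (genPrime_injective hz hQ (by rw [hgQ]; exact PrimeSpectrum.ext e))
    let φ := Ideal.Quotient.mk pη
    have hφ : Function.Surjective φ := Ideal.Quotient.mk_surjective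
    haveI hqp : (q.map φ).IsPrime := Ideal.map_isPrime_of_surjective hφ (by rw [Ideal.mk_ker]; exact le_sup_left.trans hq.1.2)
    haveI hrp : (r.map φ).IsPrime := Ideal.map_isPrime_of_surjective hφ (by rw [Ideal.mk_ker]; exact h1)
    have hcm : ∀ s : Ideal A, pη ≤ s → (s.map φ).comap φ = s := fun s hs => by
      rw [Ideal.comap_map_of_surjective φ hφ, ← RingHom.ker_eq_comap_bot, Ideal.mk_ker, sup_eq_left.2 hs]
    have hmin : q.map φ ∈ (Ideal.span {φ τ}).minimalPrimes := by
      refine ⟨⟨hqp, ?_⟩, fun s hs hsq => ?_⟩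
      · rw [← Set.image_singleton, ← Ideal.map_span]
        exact Ideal.map_mono (le_sup_right.trans hq.1.2)
      · haveI := hs.1
        refine Ideal.map_le_iff_le_comap.2 (hq.2 ⟨inferInstance, sup_le ?_ ?_⟩ ?_)
        · intro b hb
          show φ b ∈ s
          rw [show φ b = 0 from Ideal.Quotient.eq_zero_iff_mem.2 hb]; exact s.zero_mem
        · exact (Ideal.span_singleton_le_iff_mem _).2 (hs.2 (Ideal.mem_span_singleton_self _))
        · exact (Ideal.comap_mono hsq).trans (hcm q (le_sup_left.trans hq.1.2)).le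
    have hht := Ideal.height_le_one_of_isPrincipal_of_mem_minimalPrimes _ _ hmin
    have hlt : (⟨r.map φ, hrp⟩ : PrimeSpectrum (A ⧸ pη)) < ⟨q.map φ, hqp⟩ :=
      lt_of_le_of_ne (Ideal.map_mono h2) fun e => hne2 (by
        rw [← hcm r h1, ← hcm q (le_sup_left.trans hq.1.2)]
        exact congrArg (fun s : PrimeSpectrum (A ⧸ pη) => s.asIdeal.comap φ) e)
    haveI : IsDomain (A ⧸ pη) := Ideal.Quotient.isDomain pη
    have hbot : (⟨⊥, Ideal.isPrime_bot⟩ : PrimeSpectrum (A ⧸ pη)) < ⟨r.map φ, hrp⟩ :=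
      lt_of_le_of_ne (bot_le (a := r.map φ)) fun e => hne1 (by
        rw [← hcm r h1, show r.map φ = ⊥ from congrArg PrimeSpectrum.asIdeal e.symm, ← RingHom.ker_eq_comap_bot,
          Ideal.mk_ker])
    have h3 : (2 : ℕ∞) ≤ Order.height (⟨q.map φ, hqp⟩ : PrimeSpectrum (A ⧸ pη)) :=
      le_trans (le_trans (le_of_eq one_add_one_eq_two.symm)
        (add_le_add ((self_le_add_left 1 _).trans (Order.height_add_one_le hbot)) le_rfl)) (Order.height_add_one_le hlt)
    rw [← PrimeSpectrum.height_eq_orderHeight] at h3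
    exact absurd (h3.trans hht) (by decide)
  · have hzy' : P1.sect X i z ⤳ Q := hy ▸ hzy.map (P1.sect X i).continuous
    have hzx : P1.sect X i z ⤳ P1.sect X i x := hzy'.trans hQ
    have h1 : (genPrime hzx).asIdeal ≤ q := (hle hzx hQ hzy').trans (by rw [hgQ])
    have h2 : pη ⊔ Ideal.span {τ} ≤ (genPrime hzx).asIdeal :=
      sup_le (hle h hzx hz) ((genPrime_sect i x).ge.trans (hle _ hzx (gen_sect_specializes i z)))
    have h3 := hq.2 ⟨(genPrime hzx).2, h2⟩ h1
    have h4 : genPrime hzx = genPrime hQ := by rw [hgQ]; exact PrimeSpectrum.ext (le_antisymm h1 h3)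
    exact (P1.sect X i).isClosedEmbedding.injective ((genPrime_injective hzx hQ h4).trans hy.symm)

variable {K : Type u} [Field K] (f : X ⟶ Spec (CommRingCat.of K)) [Smooth f]

include f in
/-- The trace of a prime cycle on a section of the projective line. -/
theorem interProd_sect (hX : Cyc.IsSetup X δ) (hP : Cyc.DeltaCompat (π X) δP δ) {n : ℤ}
    (hn : δ (genericPoint X) = n) (i : Fin (1 + 1)) {W : Scheme.{u}} [IsIntegral W] (ι : W ⟶ P X)
    [IsClosedImmersion ι] {r : ℤ} (hW : δP (ι (genericPoint W)) = r + 1)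
    (hfib : ∀ x, ι (genericPoint W) ⤳ P1.sect X i x → δ x ≤ r) (x : X) :
    IntMult.interProd δP (n + 1) (Set.indicator {ι (genericPoint W)} 1)
        (Set.indicator {P1.sect X i (genericPoint X)} 1) (P1.sect X i x) =
      Cyc.subschemeFun δ r (pullback.snd ι (P1.sect X i)) x ∧
    (ι (genericPoint W) ⤳ P1.sect X i x → δ x = r →
      Cyc.subschemeFun δ r (pullback.snd ι (P1.sect X i)) x ≠ 0) := by
  classical
  have hdP := (isSetup_P hX hP).2.2
  haveI : IsLocallyNoetherian (P X) := (isSetup_P hX hP).1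
  rw [← fibLen_push (δ := δ) X ι r i, interProd_indicator, fibLen, delta_sect X hP, delta_sect X hP, hn, hW]
  set u := ι (genericPoint W) with hu
  by_cases hk : δ x = r
  swap
  · refine ⟨?_, fun _ h => absurd h hk⟩
    rw [if_neg (fun hc => hk (by omega)), if_neg hk]
  rw [if_pos hk]
  by_cases h : u ⤳ P1.sect X i x
  swap
  · refine ⟨?_, fun h' => absurd h' h⟩
    rw [if_neg (fun hc => h hc.1)]
    haveI : Subsingleton (((Coh.push ι).obj (Coh.structureModule W)).presheaf.stalk (P1.sect X i x)) := by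
      refine not_nontrivial_iff_subsingleton.1 fun h' => h ?_
      obtain ⟨w, hw⟩ := (Cyc26Sp.nontrivial_push_iff ι _).1 h'
      exact hw ▸ (genericPoint_specializes w).map ι.continuous
    rw [Module.length_eq_zero]
    simp
  rw [if_pos ⟨h, gen_sect_specializes i x, by omega⟩, IntMult.mult, stalkIdeal_ptIdeal h,
    stalkIdeal_ptIdeal (gen_sect_specializes i x), genPrime_sect]
  obtain ⟨w, hw⟩ : P1.sect X i x ∈ Set.range ι :=
    h.mem_closed ι.isClosedEmbedding.isClosed_range ⟨_, rfl⟩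
  let A := (P X).presheaf.stalk (P1.sect X i x)
  set τ : A := (P X).presheaf.germ (U X i) _ (sect_mem X i x) (t X i) with hτ
  set pu := (genPrime h).asIdeal with hpu
  haveI : pu.IsPrime := (genPrime h).2
  haveI : Smooth (π X ≫ f) := inferInstance
  haveI : IsRegularLocalRing A := SmoothReg17.isRegularLocalRing_stalk (π X ≫ f) _
  haveI := RegLoc.isDomain A
  have hnot : τ ∉ pu := fun hmem => by
    have hle : (genPrime (gen_sect_specializes i x)).asIdeal ≤ pu := by
      rw [genPrime_sect]; exact (Ideal.span_singleton_le_iff_mem _).2 hmem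
    have hsp := ((PrimeSpectrum.le_iff_specializes _ _).1 hle).map ((P X).fromSpecStalk _).continuous
    rw [fromSpecStalk_genPrime, fromSpecStalk_genPrime] at hsp
    obtain ⟨x', hx'⟩ := mem_range_of_specializes i hsp
    have h3 := hfib x' (hx' ▸ specializes_refl _)
    have h4 : δP (P1.sect X i x') = r + 1 := hx' ▸ hW
    rw [delta_sect X hP] at h4
    omega
  have hlenW : Module.length A (((Coh.push ι).obj (Coh.structureModule W)).presheaf.stalk (P1.sect X i x) ⧸
      τ • (⊤ : Submodule A (((Coh.push ι).obj (Coh.structureModule W)).presheaf.stalk (P1.sect X i x)))) =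
      Module.length A (A ⧸ (pu ⊔ Ideal.span {τ})) := by
    have key : ∀ (p : P X) (hp : p = P1.sect X i x) (hp2 : p ∈ U X i) (hp3 : u ⤳ p), ι w = p →
        Module.length ((P X).presheaf.stalk p) (((Coh.push ι).obj (Coh.structureModule W)).presheaf.stalk p ⧸
          ((P X).presheaf.germ (U X i) p hp2 (t X i)) • (⊤ : Submodule ((P X).presheaf.stalk p)
            (((Coh.push ι).obj (Coh.structureModule W)).presheaf.stalk p))) =
        Module.length ((P X).presheaf.stalk p) ((P X).presheaf.stalk p ⧸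
          ((genPrime hp3).asIdeal ⊔ Ideal.span {(P X).presheaf.germ (U X i) p hp2 (t X i)})) := by
      rintro p - hp2 hp3 rfl
      rw [Cyc26Sp.length_quot_push, genPrime_map_generic ι w]
      set g := (P X).presheaf.germ (U X i) (ι w) hp2 (t X i)
      let ψ := (Ideal.Quotient.mk (Ideal.span {ι.stalkMap w g})).comp (ι.stalkMap w).hom
      have hψ : Function.Surjective ψ := Ideal.Quotient.mk_surjective.comp (ι.stalkMap_surjective w)
      have hker : RingHom.ker ψ = RingHom.ker (ι.stalkMap w).hom ⊔ Ideal.span {g} := by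
        rw [← RingHom.comap_ker, Ideal.mk_ker, ← Set.image_singleton, ← Ideal.map_span,
          Ideal.comap_map_of_surjective _ (ι.stalkMap_surjective w), sup_comm, RingHom.ker_eq_comap_bot]
      let σ := (Ideal.quotEquivOfEq hker.symm).trans (RingHom.quotientKerEquivOfSurjective hψ)
      rw [Module.length_eq_of_surjective (R := (W.presheaf.stalk w ⧸ Ideal.span {ι.stalkMap w g}))
        (S := W.presheaf.stalk w) (M := W.presheaf.stalk w ⧸ Ideal.span {ι.stalkMap w g}) Ideal.Quotient.mk_surjective,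
        Module.length_eq_of_surjective (R := (P X).presheaf.stalk (ι w) ⧸ (RingHom.ker (ι.stalkMap w).hom ⊔ Ideal.span {g}))
        (S := (P X).presheaf.stalk (ι w)) Ideal.Quotient.mk_surjective]
      exact Cyc26.length_eq_of_semilinear σ.symm.toRingHom σ.symm.surjective (e := σ.symm.toAddEquiv) fun r m => map_mul σ.symm r m
    exact key _ rfl (sect_mem X i x) h hw
  rw [hlenW]
  have hmax : ∀ p : PrimeSpectrum A, pu ⊔ Ideal.span {τ} ≤ p.asIdeal → p.asIdeal = maximalIdeal A := by
    intro p hp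
    have hQ := fromSpecStalk_specializes (P1.sect X i x) p
    have hspec : ∀ {ξ : P X} (hξ : ξ ⤳ P1.sect X i x), (genPrime hξ).asIdeal ≤ p.asIdeal →
        ξ ⤳ (P X).fromSpecStalk (P1.sect X i x) p := by
      intro ξ hξ hp
      have h2 := ((PrimeSpectrum.le_iff_specializes (genPrime hξ) p).1 hp).map ((P X).fromSpecStalk _).continuous
      rwa [fromSpecStalk_genPrime] at h2
    obtain ⟨z, hz⟩ := mem_range_of_specializes i
      (hspec (gen_sect_specializes i x) ((genPrime_sect i x).le.trans (le_sup_right.trans hp)))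
    have h3 := hfib z (hz ▸ hspec h (le_sup_left.trans hp))
    have e := eq_of_delta_le hdP hQ (by rw [← hz, delta_sect X hP, delta_sect X hP]; omega)
    rw [← genPrime_fromSpecStalk p hQ, genPrime_congr e hQ (specializes_refl _), genPrime_refl]
  have hJ : pu ⊔ Ideal.span {τ} ≠ ⊤ := ne_top_of_le_ne_top (maximalIdeal.isMaximal A).ne_top
    (sup_le (le_maximalIdeal (genPrime h).2.ne_top)
      ((Ideal.span_singleton_le_iff_mem _).2 ((mem_maximalIdeal _).2 (not_isUnit_sect X i x))))
  haveI : Nontrivial (A ⧸ (pu ⊔ Ideal.span {τ})) := Ideal.Quotient.nontrivial_iff.2 hJ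
  haveI : Ring.KrullDimLE 0 (A ⧸ (pu ⊔ Ideal.span {τ})) := by
    refine Ring.KrullDimLE.mk₀ fun I hI => ?_
    have h2 := hmax ⟨I.comap (Ideal.Quotient.mk _), Ideal.IsPrime.comap _⟩ (fun b hb => by
      show Ideal.Quotient.mk _ b ∈ I
      rw [Ideal.Quotient.eq_zero_iff_mem.2 hb]; exact I.zero_mem)
    rw [← Ideal.map_comap_of_surjective _ Ideal.Quotient.mk_surjective I,
      show I.comap (Ideal.Quotient.mk _) = maximalIdeal A from h2]
    exact (Ideal.map_eq_top_or_isMaximal_of_surjective _ Ideal.Quotient.mk_surjective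
      (maximalIdeal.isMaximal A)).resolve_left fun e => hI.ne_top (by
      rw [← Ideal.map_comap_of_surjective _ Ideal.Quotient.mk_surjective I,
        show I.comap (Ideal.Quotient.mk _) = maximalIdeal A from h2, e])
  haveI : IsArtinianRing (A ⧸ (pu ⊔ Ideal.span {τ})) := isArtinianRing_iff_krullDimLE_zero.2 inferInstance
  have hfin : Module.length A (A ⧸ (pu ⊔ Ideal.span {τ})) ≠ ⊤ := by
    rw [Module.length_eq_of_surjective (R := A ⧸ (pu ⊔ Ideal.span {τ})) (S := A) Ideal.Quotient.mk_surjective]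
    exact Module.length_ne_top
  refine ⟨?_, fun _ _ => ?_⟩
  · have hw1 : RingTheory.Sequence.IsWeaklyRegular A [τ] :=
      (RingTheory.Sequence.isWeaklyRegular_singleton_iff _ _).2 fun a b hab =>
        mul_left_cancel₀ (fun e => hnot (e ▸ pu.zero_mem) : τ ≠ 0) hab
    have hw2 : RingTheory.Sequence.IsWeaklyRegular (A ⧸ pu) [τ] := by
      refine (RingTheory.Sequence.isWeaklyRegular_singleton_iff _ _).2 fun a b hab => ?_
      obtain ⟨a, rfl⟩ := Ideal.Quotient.mk_surjective a
      obtain ⟨b, rfl⟩ := Ideal.Quotient.mk_surjective b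
      rw [Ideal.Quotient.eq]
      have h3 : τ * a - τ * b ∈ pu := Ideal.Quotient.eq.1 hab
      rw [← mul_sub] at h3
      exact ((inferInstance : pu.IsPrime).mem_or_mem h3).resolve_left hnot
    rw [chi_comm, IntMult26.chi_quot_eq (J := pu) (K := Ideal.span {τ}) fun j hj => ?_]
    obtain ⟨j, rfl⟩ : ∃ m, j = m + 1 := ⟨j - 1, by omega⟩
    have hl : Ideal.span {τ} = Ideal.ofList [τ] := by simp [Ideal.ofList]
    rw [TorSymm3.isZero_tor_comm, hl]
    exact (CI2.forall_isZero_tor_iff_ex (CI2.ex_of_isWeaklyRegular [τ] _ hw1) _).2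
      (CI2.ex_of_isWeaklyRegular [τ] _ hw2) (j + 1) (Nat.le_add_left 1 j)
  · have h0 : Module.length A (A ⧸ (pu ⊔ Ideal.span {τ})) ≠ 0 := by
      rw [ne_eq, Module.length_eq_zero_iff]; exact not_subsingleton _
    obtain ⟨m, hm⟩ := ENat.ne_top_iff_exists.1 hfin
    rw [← hm] at h0 ⊢
    simp only [ENat.toNat_coe]
    exact_mod_cast (by exact_mod_cast h0 : m ≠ 0)

theorem interProd_sect_off (n : ℤ) (a : P X → ℤ) (i : Fin (1 + 1)) {p : P X} (hp : p ∉ Set.range (P1.sect X i)) :
    IntMult.interProd δP n a (Set.indicator {P1.sect X i (genericPoint X)} 1) p = 0 :=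
  finsum_eq_zero_of_forall_eq_zero fun q => by
    rw [Set.indicator_of_notMem (s := {P1.sect X i (genericPoint X)}) fun hm => hp
      (mem_range_of_specializes i ((Set.mem_singleton_iff.1 hm) ▸ q.2.2.1)), mul_zero, zero_mul]

theorem exists_of_interProd_triple_ne_zero {Z : Scheme.{u}} {δ : Z → ℤ} {n : ℤ} {a b c ζ : Z}
    (h : IntMult.interProd δ n (Set.indicator {a} 1)
      (IntMult.interProd δ n (Set.indicator {b} 1) (Set.indicator {c} 1)) ζ ≠ 0) :
    a ⤳ ζ ∧ b ⤳ ζ ∧ c ⤳ ζ ∧ δ ζ = δ a + δ b + δ c - 2 * n := by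
  classical
  obtain ⟨⟨⟨x, η⟩, h1, h2, h3⟩, hp⟩ := not_forall.1 (mt finsum_eq_zero_of_forall_eq_zero h)
  have e1 : x = a := Set.mem_singleton_iff.1 <|
    Set.mem_of_indicator_ne_zero (left_ne_zero_of_mul (left_ne_zero_of_mul hp))
  have h4 := right_ne_zero_of_mul (left_ne_zero_of_mul hp)
  rw [interProd_indicator] at h4
  split_ifs at h4 with hc
  · subst e1
    obtain ⟨hb, hc', hd'⟩ := hc
    refine ⟨h1, hb.trans h2, hc'.trans h2, ?_⟩
    simp only at h3 hd'
    omega
  · exact absurd rfl h4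

include f in
/-- Two ways of intersecting with a section. -/
theorem interProd_assoc_sect [IsAlgClosed K] (hX : Cyc.IsSetup X δ) (hP : Cyc.DeltaCompat (π X) δP δ) {n : ℤ}
    (hn : δ (genericPoint X) = n) (i : Fin (1 + 1)) {u ξ : P X} (x : X)
    (h1 : ∀ η, η ⤳ P1.sect X i x → u ⤳ η → ξ ⤳ η → δP η ≤ δP u + δP ξ - (n + 1))
    (h2 : ∀ y, u ⤳ P1.sect X i y → y ⤳ x → δ y + 1 ≤ δP u)
    (h3 : ∀ y, u ⤳ P1.sect X i y → ξ ⤳ P1.sect X i y → y ⤳ x → δ y ≤ δP u + δP ξ + n - 2 * (n + 1)) :
    IntMult.interProd δP (n + 1) (IntMult.interProd δP (n + 1) (Set.indicator {u} 1) (Set.indicator {ξ} 1))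
        (Set.indicator {P1.sect X i (genericPoint X)} 1) (P1.sect X i x) =
      IntMult.interProd δP (n + 1) (IntMult.interProd δP (n + 1) (Set.indicator {u} 1)
        (Set.indicator {P1.sect X i (genericPoint X)} 1)) (Set.indicator {ξ} 1) (P1.sect X i x) := by
  classical
  have hdP := (isSetup_P hX hP).2.2
  haveI : IsLocallyNoetherian (P X) := (isSetup_P hX hP).1
  haveI := isIntegral_P X
  set g := P1.sect X i (genericPoint X) with hg
  set ζ := P1.sect X i x with hζ
  have hgδ : δP g = n := by rw [hg, delta_sect X hP, hn]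
  rw [interProd_comm (δ := δP) (n + 1) (IntMult.interProd δP (n + 1) (Set.indicator {u} 1) (Set.indicator {ξ} 1)),
    interProd_comm (δ := δP) (n + 1) (IntMult.interProd δP (n + 1) (Set.indicator {u} 1) (Set.indicator {g} 1))]
  by_cases hC : u ⤳ ζ ∧ ξ ⤳ ζ ∧ δP ζ = δP u + δP ξ + δP g - 2 * (n + 1)
  swap
  · have e1 : IntMult.interProd δP (n + 1) (Set.indicator {g} 1)
        (IntMult.interProd δP (n + 1) (Set.indicator {u} 1) (Set.indicator {ξ} 1)) ζ = 0 := by
      by_contra h
      obtain ⟨-, b, c, e⟩ := exists_of_interProd_triple_ne_zero h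
      exact hC ⟨b, c, by omega⟩
    have e2 : IntMult.interProd δP (n + 1) (Set.indicator {ξ} 1)
        (IntMult.interProd δP (n + 1) (Set.indicator {u} 1) (Set.indicator {g} 1)) ζ = 0 := by
      by_contra h
      obtain ⟨a, b, -, e⟩ := exists_of_interProd_triple_ne_zero h
      exact hC ⟨b, a, by omega⟩
    rw [e1, e2]
  obtain ⟨hu, hξ, hδζ⟩ := hC
  haveI : Smooth (π X ≫ f) := inferInstance
  haveI : IsRegularLocalRing ((P X).presheaf.stalk ζ) := SmoothReg17.isRegularLocalRing_stalk (π X ≫ f) ζ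
  have hN : δP (genericPoint (P X)) = n + 1 := by rw [delta_gen_P hX hP, hn]
  have hy : ∀ {η}, η ⤳ ζ → g ⤳ η → ∃ y, P1.sect X i y = η ∧ y ⤳ x ∧ δP η = δ y := fun {η} hη hgη => by
    obtain ⟨y, rfl⟩ := mem_range_of_specializes i hgη
    refine ⟨y, rfl, ?_, delta_sect X hP i y⟩
    have := hη.map (π X).continuous
    rwa [hζ, π_sect_apply, π_sect_apply] at this
  have htr : ∀ η, η ⤳ ζ → u ⤳ η → ξ ⤳ η → g ⤳ η → δP η ≤ δP u + δP ξ + δP g - 2 * (n + 1) := fun η hη a b c => by
    obtain ⟨y, rfl, hyx, e⟩ := hy hη c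
    rw [e, hgδ]
    exact h3 y a b hyx
  have hug : ∀ η, η ⤳ ζ → u ⤳ η → g ⤳ η → δP η ≤ δP u + δP g - (n + 1) := fun η hη a c => by
    obtain ⟨y, rfl, hyx, e⟩ := hy hη c
    rw [e, hgδ]
    have := h2 y a hyx
    omega
  have hgζ : g ⤳ ζ := gen_sect_specializes i x
  rw [interProd_triple_local (π X ≫ f) hdP hN hgζ hu hξ (by omega) h1
      (fun η hη a b c => (htr η hη b c a).trans (by omega)),
    interProd_triple_local (π X ≫ f) hdP hN hξ hu hgζ (by omega) hug
      (fun η hη a b c => (htr η hη b a c).trans (by omega))]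
  obtain ⟨V, hVa, hxV, -⟩ := exists_isAffineOpen_mem_and_subset (show ζ ∈ (⊤ : (P X).Opens) from trivial)
  have hs1 := (π X ≫ f).smooth_appLE (isAffineOpen_top (Spec (CommRingCat.of K))) hVa (le_top : V ≤ (π X ≫ f) ⁻¹ᵁ ⊤)
  let e := (Scheme.ΓSpecIso (CommRingCat.of K)).symm.commRingCatIsoToRingEquiv
  have hs2 : (((π X ≫ f).appLE ⊤ V le_top).hom.comp e.toRingHom).Smooth :=
    RingHom.Smooth.comp (RingHom.Smooth.of_bijective e.bijective) hs1
  letI : Algebra K Γ(P X, V) := (((π X ≫ f).appLE ⊤ V le_top).hom.comp e.toRingHom).toAlgebra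
  haveI : Algebra.Smooth K Γ(P X, V) := hs2
  letI := (P X).presheaf.algebra_section_stalk (⟨ζ, hxV⟩ : V)
  haveI := hVa.isLocalization_stalk ⟨ζ, hxV⟩
  rw [sig_cycle_of_smooth (K := K) (R := Γ(P X, V)) (hVa.primeIdealOf ⟨ζ, hxV⟩).asIdeal
    (genPrime hξ).asIdeal (genPrime hu).asIdeal (genPrime hgζ).asIdeal (by rw [dim_stalk hdP ζ, hN]) ?_, sig_comm]
  intro p hp1 hp2 hp3
  have hsp : ∀ {a : P X} (h : a ⤳ ζ), (genPrime h).asIdeal ≤ p.asIdeal → a ⤳ (P X).fromSpecStalk ζ p := by
    intro a h hp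
    have h2 := ((PrimeSpectrum.le_iff_specializes (genPrime h) p).1 hp).map ((P X).fromSpecStalk ζ).continuous
    rwa [fromSpecStalk_genPrime] at h2
  have hQ := fromSpecStalk_specializes ζ p
  have hle := htr _ hQ (hsp hu hp2) (hsp hξ hp1) (hsp hgζ hp3)
  have e' := eq_of_delta_le hdP hQ (by omega)
  rw [← genPrime_fromSpecStalk p hQ, genPrime_congr e' hQ (specializes_refl ζ), genPrime_refl]

end general

end Groth.Agent.Diag27
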