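import Groth.Agent.Lib.Diag27.P1Fam
import Groth.Agent.S1950
import Groth.Agent.Lib.Cyc26.RatAlg
import Groth.Agent.Lib.Cyc26.PushDiv

/-!
# The push forward of (family · constant cycle · section) to the base

For a closed subvariety `W` of `P^1_X` of dimension `r + 1` and a point `v` of `X`, with `ξ` the
generic point of `P^1` over the closure of `v`: the bounds on dimensions, and
`π_*(W · ξ · (X × i)) = [W_i] · v`.
-/

set_option autoImplicit false
set_option linter.style.haveILetI false
set_option backward.isDefEq.respectTransparency false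
set_option backward.isDefEq.respectTransparency.types false

universe u

open CategoryTheory CategoryTheory.Limits AlgebraicGeometry IsLocalRing Groth.Agent

noncomputable section

namespace Groth.Agent.Diag27

open P1S26

variable {K : Type u} [Field K] [IsAlgClosed K] {X : Scheme.{u}} [IsIntegral X]
  (f : X ⟶ Spec (CommRingCat.of K)) [Smooth f] [IsSeparated f] [QuasiCompact f]
  {δ : X → ℤ} (hX : Cyc.IsSetup X δ) {n : ℤ} (hn : δ (genericPoint X) = n)
  {δP : ↥(P X) → ℤ} (hP : Cyc.DeltaCompat (π X) δP δ)
  {W : Scheme.{u}} [IsIntegral W] (ι : W ⟶ P X) [IsClosedImmersion ι] {r : ℤ}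
  (hW : δP (ι (genericPoint W)) = r + 1) (i : Fin (1 + 1))
  (hfib : ∀ x, ι (genericPoint W) ⤳ P1.sect X i x → δ x ≤ r)
  {v : X} (hprop : IntMult.IntersectProperly δ n (Cyc.subschemeFun δ r (pullback.snd ι (P1.sect X i)))
    (Set.indicator {v} 1))

include f hX hn hP hW hfib hprop

/-- The dimension bound on the intersection of the fibre with the constant cycle. -/
theorem sect_bound {y : X} (hu : ι (genericPoint W) ⤳ P1.sect X i y) (hv : v ⤳ y) : δ y ≤ r + δ v - n := by
  classical
  haveI : CompactSpace X := QuasiCompact.compactSpace_of_compactSpace f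
  haveI : IsLocallyNoetherian X := hX.1
  haveI : IsNoetherian X := {}
  obtain ⟨y', hu', hy', hle, -⟩ := exists_cut hX hP i hu
  rw [hW] at hle
  have hr : δ y' = r := le_antisymm (hfib y' hu') (by omega)
  have hne := (interProd_sect f hX hP hn i ι hW hfib y').2 hu' hr
  have := hprop y' v y hne (by rw [Set.indicator_of_mem (Set.mem_singleton v)]; exact one_ne_zero) hy' hv
  omega

/-- The dimension bound near a section. -/
theorem gen_bound {η : P X} {x : X} (hx : η ⤳ P1.sect X i x) (hu : ι (genericPoint W) ⤳ η) (hv : v ⤳ π X η) :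
    δP η ≤ r + δ v - n + 1 := by
  classical
  haveI : CompactSpace X := QuasiCompact.compactSpace_of_compactSpace f
  haveI : IsLocallyNoetherian X := hX.1
  haveI : IsNoetherian X := {}
  obtain ⟨y, hy, -, hle, -⟩ := exists_cut hX hP i hx
  have h2 := hy.map (π X).continuous
  rw [π_sect_apply] at h2
  have := sect_bound f hX hn hP ι hW i hfib hprop (hu.trans hy) (hv.trans h2)
  omega

/-- `π_*(W · ξ · (X × i)) = [W_i] · v`. -/
theorem map_interProd_family [QuasiCompact (π X)] (hδ : Cyc.DeltaCompat f δ (fun _ => 0)) {ξ : P X}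
    (hξv : π X ξ = v) (hξδ : δP ξ = δ v + 1)
    (hξp : Cyc.pullFun (π X) δP δ 1 (Set.indicator {v} 1) = Set.indicator {ξ} 1)
    (B : AlgebraicCycle (P X) ℤ)
    (hB : ⇑B = IntMult.interProd δP (n + 1) (IntMult.interProd δP (n + 1) (Set.indicator {ι (genericPoint W)} 1)
      (Set.indicator {ξ} 1)) (Set.indicator {P1.sect X i (genericPoint X)} 1)) :
    ⇑(AlgebraicCycle.map (π X) δP δ B) =
      IntMult.interProd δ n (Cyc.subschemeFun δ r (pullback.snd ι (P1.sect X i))) (Set.indicator {v} 1) := by
  classical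
  haveI : CompactSpace X := QuasiCompact.compactSpace_of_compactSpace f
  haveI : IsLocallyNoetherian X := hX.1
  haveI : IsNoetherian X := {}
  have hPs := isSetup_P hX hP
  have hdP := hPs.2.2
  haveI : IsLocallyNoetherian (P X) := hPs.1
  haveI := isIntegral_P X
  haveI : IsProper (π X) := isProper_π X
  haveI : CompactSpace ↥(P X) := QuasiCompact.compactSpace_of_compactSpace (π X)
  haveI : IsNoetherian (P X) := {}
  set u := ι (genericPoint W) with hu
  set g := P1.sect X i (genericPoint X) with hg
  set G := IntMult.interProd δP (n + 1) (Set.indicator {u} 1) (Set.indicator {g} 1) with hG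
  set F := Cyc.subschemeFun δ r (pullback.snd ι (P1.sect X i)) with hF
  have hGx : ∀ x, G (P1.sect X i x) = F x := fun x => (interProd_sect f hX hP hn i ι hW hfib x).1
  have hGoff : ∀ p, G p ≠ 0 → p ∈ Set.range (P1.sect X i) := fun p hp =>
    by_contra fun h => hp (interProd_sect_off (n + 1) _ i h)
  have hgn : δP g = n := by rw [hg, delta_sect X hP, hn]
  have hGsupp : ∀ p, G p ≠ 0 → p ∈ Set.range (P1.sect X i) ∧ δP p = r ∧ u ⤳ p := fun p hp => by
    refine ⟨hGoff p hp, ?_⟩
    rw [hG, interProd_indicator] at hp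
    split_ifs at hp with hc
    · exact ⟨by rw [← hc.2.2, hW, hgn]; ring, hc.1⟩
    · exact absurd rfl hp
  have hGfin : (Function.support G).Finite :=
    (finite_top_points hdP (isClosed_closure.inter (P1.sect X i).isClosedEmbedding.isClosed_range)
      (S := closure {u} ∩ Set.range (P1.sect X i)) r).subset fun p hp => by
      obtain ⟨h1, h2, h3⟩ := hGsupp p hp
      refine ⟨⟨specializes_iff_mem_closure.1 h3, h1⟩, h2, ?_⟩
      rintro η ⟨hη, y, rfl⟩ -
      rw [delta_sect X hP]
      exact hfib y (specializes_iff_mem_closure.2 hη)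
  let α : AlgebraicCycle (P X) ℤ :=
    { toFun := G
      supportWithinDomain' := Set.subset_univ _
      supportLocallyFiniteWithinDomain' := fun _ _ => ⟨Set.univ, Filter.univ_mem, hGfin.subset Set.inter_subset_right⟩ }
  have hα : (⇑α : P X → ℤ) = G := rfl
  let β : AlgebraicCycle X ℤ :=
    { toFun := Set.indicator {v} 1
      supportWithinDomain' := Set.subset_univ _
      supportLocallyFiniteWithinDomain' := fun _ _ => ⟨Set.univ, Filter.univ_mem,
        ((Set.finite_singleton v).subset fun y hy => Set.mem_of_indicator_ne_zero hy.2)⟩ }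
  have hβ : (⇑β : X → ℤ) = Set.indicator {v} 1 := rfl
  have hαZ : α ∈ Cyc.Zk _ δP r := fun p hp => by_contra fun h => hp (hGsupp p h).2.1
  have hβZ : β ∈ Cyc.Zk _ δ (δ v) := fun p hp =>
    Set.indicator_of_notMem (s := {v}) (fun h => hp (congrArg δ (Set.mem_singleton_iff.1 h))) 1
  have hpr : IntMult.IntersectProperly δP (n + 1) ⇑α (Cyc.pullFun (π X) δP δ ((1 : ℕ) : ℤ) ⇑β) := by
    rw [hα, hβ, Nat.cast_one, hξp]
    intro a b ζ ha hb haζ hbζ
    obtain rfl : b = ξ := Set.mem_singleton_iff.1 (Set.mem_of_indicator_ne_zero hb)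
    obtain ⟨⟨y, rfl⟩, -, -⟩ := hGsupp a ha
    obtain ⟨z, rfl⟩ := (haζ.mem_closed (P1.sect X i).isClosedEmbedding.isClosed_range ⟨y, rfl⟩)
    have h1 := haζ.map (π X).continuous
    have h2 := hbζ.map (π X).continuous
    rw [π_sect_apply, π_sect_apply] at h1
    rw [π_sect_apply, hξv] at h2
    have hne : F y ≠ 0 := hGx y ▸ ha
    have h3 := hprop y v z hne (by rw [Set.indicator_of_mem (Set.mem_singleton v)]; exact one_ne_zero) h1 h2
    rw [delta_sect X hP, delta_sect X hP, hξδ]
    omega
  have hBα : ⇑B = IntMult.interProd δP (n + 1) ⇑α (Cyc.pullFun (π X) δP δ ((1 : ℕ) : ℤ) ⇑β) := by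
    rw [hα, hβ, Nat.cast_one, hξp, hB]
    funext p
    by_cases hp : p ∈ Set.range (P1.sect X i)
    swap
    · rw [interProd_sect_off (n + 1) _ i hp]
      refine (finsum_eq_zero_of_forall_eq_zero fun q => ?_).symm
      by_contra hq
      exact hp (q.2.1.mem_closed (P1.sect X i).isClosedEmbedding.isClosed_range
        (hGoff _ (left_ne_zero_of_mul (left_ne_zero_of_mul hq))))
    obtain ⟨x, rfl⟩ := hp
    refine interProd_assoc_sect f hX hP hn i x ?_ ?_ ?_
    · intro η hη a b
      have h2 : v ⤳ π X η := hξv ▸ b.map (π X).continuous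
      have := gen_bound f hX hn hP ι hW i hfib hprop hη a h2
      omega
    · intro y hy _
      have := hfib y hy
      omega
    · intro y a b _
      have h2 := b.map (π X).continuous
      rw [hξv, π_sect_apply] at h2
      have := sect_bound f hX hn hP ι hW i hfib hprop a h2
      omega
  have hmap : ⇑(AlgebraicCycle.map (π X) δP δ α) = F := funext fun x => by
    rw [Cyc26.map_apply_eq_sum (π X) δP δ α x {P1.sect X i x} ?_ ?_, Finset.sum_singleton, AlgebraicCycle.mapCoeff,
      if_pos, residueDegree_sect, Nat.cast_one, mul_one]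
    · exact hGx x
    · rw [delta_sect X hP]; exact congrArg δ (π_sect_apply X i x).symm
    · intro p hp
      rw [Finset.mem_singleton.1 hp]
      exact π_sect_apply X i x
    · intro p hp hne _
      obtain ⟨y, rfl⟩ := hGoff p hne
      rw [π_sect_apply] at hp
      subst hp
      exact Finset.mem_singleton_self _
  haveI : IsSeparated (π X ≫ f) := inferInstance
  haveI : QuasiCompact (π X ≫ f) := inferInstance
  have hN : δP (genericPoint (P X)) = n + 1 := by rw [delta_gen_P hX hP, hn]
  have h := (Groth.Agent.S1950.result K (P X) X (π X) (π X ≫ f) f rfl δP δ hPs hX (deltaCompat_P f hδ hP) hδ hP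
    (n + 1) n hN hn 1 (by push_cast; ring) (hasRelDim_π X) r (δ v) α β hαZ hβZ hpr B hBα).2
  rw [hmap, hβ] at h
  exact h.symm

end Groth.Agent.Diag27
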