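import Groth.Agent.Lib.Diag27.Additive
import Groth.Agent.Lib.Diag27.AssocGeom
import Groth.Agent.Lib.Cyc26.FibreSum
import Groth.Agent.S4494

/-!
# Tor multiplicities along a finite algebra
-/

set_option autoImplicit false
set_option backward.isDefEq.respectTransparency false
set_option linter.style.haveILetI false

universe u

open CategoryTheory TensorProduct IsLocalRing Groth.Agent Groth.Agent.Herbrand26

noncomputable section

namespace Groth.Agent.Diag27

variable {A : Type u} [CommRing A]

/-- Every torsion group is the kernel of a map tensored with the first variable. -/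
theorem exists_tor_eq_ker (N : Type u) [AddCommGroup N] [Module A N] (n : ℕ) :
    ∃ (K F : ModuleCat.{u} A) (i : K →ₗ[A] F), ∀ (M : Type u) [AddCommGroup M] [Module A M],
      Module.length A (DRing.Tor A n M N) = Module.length A (LinearMap.ker (i.lTensor M)) := by
  rcases n with _ | n
  · refine ⟨(TorBal27.Kp A 0).obj (ModuleCat.of A N), ModuleCat.of A PUnit.{u+1}, 0, fun M _ _ => ?_⟩
    rw [(TorBal27.torIso 0 (ModuleCat.of A M) (ModuleCat.of A N)).toLinearEquiv.length_eq,
      (LinearEquiv.ofBijective _ ⟨TorBal27.phi_injective (ModuleCat.of A M) (ModuleCat.of A N) 0,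
        TorBal27.phi_zero_surjective (ModuleCat.of A M) (ModuleCat.of A N)⟩).length_eq,
      LinearMap.lTensor_zero, LinearMap.ker_zero]
    exact Submodule.topEquiv.symm.length_eq
  · refine ⟨(TorBal27.Kp A (n + 1)).obj (ModuleCat.of A N), _,
      TorBal27.inc ((TorBal27.Kp A n).obj (ModuleCat.of A N)), fun M _ _ => ?_⟩
    rw [(TorBal27.torIso (n + 1) (ModuleCat.of A M) (ModuleCat.of A N)).toLinearEquiv.length_eq]
    exact ((LinearEquiv.ofInjective _ (TorBal27.phi_injective (ModuleCat.of A M) (ModuleCat.of A N) (n + 1))).trans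
      (LinearEquiv.ofEq _ _ (TorBal27.range_phi_succ (ModuleCat.of A M) (ModuleCat.of A N) n))).length_eq

/-- Lengths over a local algebra, measured over the base. -/
theorem length_restrict_local (L : Type u) [CommRing L] [IsLocalRing L] [Algebra A L] (T : Type u) [AddCommGroup T]
    [Module L T] [Module A T] [IsScalarTower A L T] (hL : Module.length L T ≠ ⊤) :
    Module.length A T = Module.length A (L ⧸ maximalIdeal L) * Module.length L T := by
  haveI : IsLocalization.AtPrime L (closedPoint L).asIdeal :=
    IsLocalization.of_le_isUnit fun x hx => IsLocalRing.notMem_maximalIdeal.1 hx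
  rw [Cyc26.length_eq_sum_locLen_of_support (A := A) {closedPoint L} (fun m hm => by
      rw [Finset.mem_singleton.1 hm]
      exact maximalIdeal.isMaximal L) T (Module.length_ne_top_iff.1 hL) (fun m hm _ => Finset.mem_singleton.2
        (PrimeSpectrum.ext (IsLocalRing.eq_maximalIdeal hm))), Finset.sum_singleton,
    locLen_eq_length_baseChange (closedPoint L) L T, (TensorProduct.lid L T).length_eq]
  rfl

theorem exact_lTensor_ker {C : Type u} [CommRing C] (L : Type u) [CommRing L] [Algebra C L] [Module.Flat C L]
    {X Y : Type u} [AddCommGroup X] [Module C X] [AddCommGroup Y] [Module C Y] (φ : X →ₗ[C] Y) :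
    Function.Exact (AlgebraTensorModule.lTensor L L (LinearMap.ker φ).subtype) (AlgebraTensorModule.lTensor L L φ) :=
  Module.Flat.lTensor_exact (R := C) L (LinearMap.exact_subtype_ker_map φ)

/-- Kernels of tensored maps localise. -/
theorem locLen_ker {C : Type u} [CommRing C] [Algebra A C] (m : PrimeSpectrum C) (L : Type u) [CommRing L]
    [Algebra C L] [Algebra A L] [IsScalarTower A C L] [IsLocalization.AtPrime L m.asIdeal] {K F : ModuleCat.{u} A}
    (i : K →ₗ[A] F) :
    locLen m (LinearMap.ker (AlgebraTensorModule.lTensor C C i)) =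
      Module.length L (LinearMap.ker (AlgebraTensorModule.lTensor L L i)) := by
  haveI : Module.Flat C L := IsLocalization.flat L m.asIdeal.primeCompl
  rw [locLen_eq_length_baseChange m L]
  let φ := AlgebraTensorModule.lTensor C C i
  let eK := AlgebraTensorModule.cancelBaseChange A C L L K
  let eF := AlgebraTensorModule.cancelBaseChange A C L L F
  let j := eK.toLinearMap ∘ₗ AlgebraTensorModule.lTensor L L (LinearMap.ker φ).subtype
  have hj : Function.Injective j :=
    eK.injective.comp (Module.Flat.lTensor_preserves_injective_linearMap _ (LinearMap.ker φ).injective_subtype)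
  have hnat : ∀ z, eF (AlgebraTensorModule.lTensor L L φ z) = AlgebraTensorModule.lTensor L L i (eK z) := by
    intro z
    induction z using TensorProduct.induction_on with
    | zero => simp
    | add a b ha hb => simp only [map_add, ha, hb]
    | tmul l t =>
      induction t using TensorProduct.induction_on with
      | zero => simp
      | add a b ha hb => simp only [TensorProduct.tmul_add, map_add, ha, hb]
      | tmul c k => simp [φ, eK, eF]
  have hex := exact_lTensor_ker L φ
  have hr : LinearMap.range j = LinearMap.ker (AlgebraTensorModule.lTensor L L i) := by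
    ext y
    rw [LinearMap.mem_ker]
    constructor
    · rintro ⟨z, rfl⟩
      show AlgebraTensorModule.lTensor L L i (eK _) = 0
      rw [← hnat, LinearEquiv.map_eq_zero_iff]
      exact (hex _).2 ⟨z, rfl⟩
    · intro hy
      obtain ⟨y, rfl⟩ := eK.surjective y
      rw [← hnat, LinearEquiv.map_eq_zero_iff] at hy
      obtain ⟨z, hz⟩ := (hex y).1 hy
      exact ⟨z, congrArg eK hz⟩
  exact ((LinearEquiv.ofInjective j hj).trans (LinearEquiv.ofEq _ _ hr)).length_eq

theorem length_le_restrict (L : Type u) [CommRing L] [Algebra A L] (T : Type u) [AddCommGroup T]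
    [Module L T] [Module A T] [IsScalarTower A L T] : Module.length L T ≤ Module.length A T := by
  have hle := Submodule.length_le_length_restrictScalars A (⊤ : Submodule L T)
  rwa [Module.length_top, Submodule.restrictScalars_top, Module.length_top] at hle

/-- A module whose torsion kernel computes `Tor_n (-, N)`. -/
def torSrc (N : Type u) [AddCommGroup N] [Module A N] (n : ℕ) : ModuleCat.{u} A := (exists_tor_eq_ker (A := A) N n).choose

/-- The target of `torMap`. -/
def torTgt (N : Type u) [AddCommGroup N] [Module A N] (n : ℕ) : ModuleCat.{u} A :=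
  (exists_tor_eq_ker (A := A) N n).choose_spec.choose

/-- A map whose tensored kernel computes `Tor_n (-, N)`. -/
def torMap (N : Type u) [AddCommGroup N] [Module A N] (n : ℕ) : torSrc (A := A) N n →ₗ[A] torTgt (A := A) N n :=
  (exists_tor_eq_ker (A := A) N n).choose_spec.choose_spec.choose

theorem length_tor_eq (N : Type u) [AddCommGroup N] [Module A N] (n : ℕ) (S : Type u) [CommRing S] [Algebra A S] :
    Module.length A (DRing.Tor A n S N) =
      Module.length A (LinearMap.ker (AlgebraTensorModule.lTensor S S (torMap (A := A) N n))) :=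
  (exists_tor_eq_ker (A := A) N n).choose_spec.choose_spec.choose_spec S

/-- The part of the torsion groups of a finite algebra at one of its maximal ideals. -/
def pointLen (C : Type u) [CommRing C] [Algebra A C] (N : Type u) [AddCommGroup N] [Module A N] (m : PrimeSpectrum C)
    (n : ℕ) : ℕ :=
  (Module.length A (C ⧸ m.asIdeal) * locLen m (LinearMap.ker (AlgebraTensorModule.lTensor C C (torMap (A := A) N n)))).toNat

/-- The alternating sum of `pointLen`. -/
def pointChi (C : Type u) [CommRing C] [Algebra A C] (N : Type u) [AddCommGroup N] [Module A N] (m : PrimeSpectrum C) : ℤ :=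
  ∑ᶠ n : ℕ, (-1 : ℤ) ^ n * (pointLen (A := A) C N m n : ℤ)

section

variable [IsLocalRing A] [IsNoetherianRing A] {C : Type u} [CommRing C] [Algebra A C] [Module.Finite A C]
  (N : Type u) [AddCommGroup N] [Module A N] [Module.Finite A N]

theorem length_kerC_ne_top (hCN : Meet (A := A) C N) (n : ℕ) :
    Module.length A (LinearMap.ker (AlgebraTensorModule.lTensor C C (torMap (A := A) N n))) ≠ ⊤ := by
  rw [← length_tor_eq, (TorBal27.torIso n (ModuleCat.of A C) (ModuleCat.of A N)).toLinearEquiv.length_eq]
  exact length_ne_top_tor hCN n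

theorem locLen_ne_top {T : Type u} [AddCommGroup T] [Module C T] (m : PrimeSpectrum C) (h : Module.length C T ≠ ⊤) :
    locLen m T ≠ ⊤ := by
  refine ne_top_of_le_ne_top h ?_
  unfold locLen
  rw [← WithBot.coe_le_coe, Module.coe_length, Module.coe_length]
  have gi := Submodule.localized'gi (Localization.AtPrime m.asIdeal) m.asIdeal.primeCompl
    (LocalizedModule.mkLinearMap m.asIdeal.primeCompl T)
  exact Order.krullDim_le_of_strictMono _ gi.strictMono_u

theorem length_quot_ne_top (m : PrimeSpectrum C) [m.asIdeal.IsMaximal] : Module.length A (C ⧸ m.asIdeal) ≠ ⊤ := by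
  haveI : Algebra.IsIntegral A C := Algebra.IsIntegral.of_finite A C
  rw [Module.length_ne_top_iff]
  refine HilbSam.isFiniteLength_of_support fun p hp => ?_
  rw [Module.support_eq_zeroLocus] at hp
  have h1 : m.asIdeal.comap (algebraMap A C) ≤ p.asIdeal := fun a ha => hp (Module.mem_annihilator.2 fun x => by
    obtain ⟨x, rfl⟩ := Ideal.Quotient.mk_surjective x
    rw [show a • Ideal.Quotient.mk m.asIdeal x = Ideal.Quotient.mk m.asIdeal (a • x) from rfl,
      Ideal.Quotient.eq_zero_iff_mem, Algebra.smul_def]
    exact m.asIdeal.mul_mem_right x ha)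
  have h2 : (m.asIdeal.comap (algebraMap A C)).IsMaximal := Ideal.isMaximal_comap_of_isIntegral_of_isMaximal m.asIdeal
  exact h2.eq_of_le p.2.ne_top h1 ▸ h2

/-- The contribution of a maximal ideal is the multiplicity over the local ring of the ambient space. -/
theorem deg_mul_chi_eq_pointChi (hCN : Meet (A := A) C N) (m : PrimeSpectrum C) (hm : m.asIdeal.IsMaximal)
    (B L : Type u) [CommRing B] [IsLocalRing B] [CommRing L] [IsLocalRing L] [Algebra A B] [Module.Flat A B]
    [Algebra B L] [Algebra C L] [Algebra A L] [IsScalarTower A B L] [IsScalarTower A C L]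
    [IsLocalization.AtPrime L m.asIdeal] (hsurj : Function.Surjective (algebraMap B L)) :
    ((Module.length A (B ⧸ maximalIdeal B)).toNat : ℤ) * IntMult.chi B L (B ⊗[A] N) = pointChi (A := A) C N m := by
  haveI := hm
  have hd1 : Module.length A (C ⧸ m.asIdeal) = Module.length A (L ⧸ maximalIdeal L) := by
    let e := IsLocalization.AtPrime.equivQuotMaximalIdeal m.asIdeal L
    exact LinearEquiv.length_eq
      { e.toAddEquiv with
        map_smul' := fun a x => by
          obtain ⟨x, rfl⟩ := Ideal.Quotient.mk_surjective x
          show e (a • Ideal.Quotient.mk m.asIdeal x) = a • e (Ideal.Quotient.mk m.asIdeal x)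
          rw [show a • Ideal.Quotient.mk m.asIdeal x = Ideal.Quotient.mk m.asIdeal (a • x) from rfl,
            IsLocalization.AtPrime.equivQuotMaximalIdeal_apply_mk, IsLocalization.AtPrime.equivQuotMaximalIdeal_apply_mk,
            Algebra.smul_def, map_mul, ← IsScalarTower.algebraMap_apply, ← Algebra.smul_def]
          rfl }
  have hd2 : Module.length A (B ⧸ maximalIdeal B) = Module.length A (L ⧸ maximalIdeal L) := by
    haveI : IsLocalHom (algebraMap B L) := IsLocalHom.of_surjective _ hsurj
    have hle : maximalIdeal B ≤ (maximalIdeal L).comap (IsScalarTower.toAlgHom A B L) := fun b hb => by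
      rw [Ideal.mem_comap, IsLocalRing.mem_maximalIdeal, mem_nonunits_iff]
      exact fun hu => (IsLocalRing.mem_maximalIdeal b).1 hb (isUnit_of_map_unit (algebraMap B L) b hu)
    let φ := Ideal.quotientMapₐ (maximalIdeal L) (IsScalarTower.toAlgHom A B L) hle
    letI := Ideal.Quotient.field (maximalIdeal B)
    exact (LinearEquiv.ofBijective φ.toLinearMap
      ⟨RingHom.injective (φ : B ⧸ maximalIdeal B →+* L ⧸ maximalIdeal L), fun x => by
        obtain ⟨x, rfl⟩ := Ideal.Quotient.mk_surjective x
        obtain ⟨b, rfl⟩ := hsurj x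
        exact ⟨Ideal.Quotient.mk _ b, rfl⟩⟩).length_eq
  unfold IntMult.chi pointChi
  rw [mul_finsum]
  refine finsum_congr fun n => ?_
  rw [mul_left_comm]
  congr 1
  have key : Module.length A (B ⧸ maximalIdeal B) * Module.length B (DRing.Tor B n L (B ⊗[A] N)) =
      Module.length A (C ⧸ m.asIdeal) *
        locLen m (LinearMap.ker (AlgebraTensorModule.lTensor C C (torMap (A := A) N n))) := by
    obtain ⟨φ, hφ⟩ := S4494.result A B L N n
    letI : Module A (DRing.Tor B n L (B ⊗[A] N)) := Module.compHom _ (algebraMap A B)
    haveI : IsScalarTower A B (DRing.Tor B n L (B ⊗[A] N)) := IsScalarTower.of_algebraMap_smul fun _ _ => rfl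
    let φ' : DRing.Tor A n L N →ₗ[A] DRing.Tor B n L (B ⊗[A] N) :=
      { toFun := φ, map_add' := map_add φ, map_smul' := fun a x => φ.map_smulₛₗ a x }
    let e := LinearEquiv.ofBijective φ' hφ
    have hLfin : Module.length L (LinearMap.ker (AlgebraTensorModule.lTensor L L (torMap (A := A) N n))) ≠ ⊤ := by
      rw [← locLen_ker m L]
      exact locLen_ne_top m (ne_top_of_le_ne_top (length_kerC_ne_top N hCN n) (length_le_restrict C _))
    have h1 : Module.length A (DRing.Tor B n L (B ⊗[A] N)) = Module.length A (L ⧸ maximalIdeal L) *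
        Module.length L (LinearMap.ker (AlgebraTensorModule.lTensor L L (torMap (A := A) N n))) := by
      rw [← e.length_eq, length_tor_eq, length_restrict_local L _ hLfin]
    have hfinC : Module.length A (C ⧸ m.asIdeal) ≠ ⊤ := length_quot_ne_top m
    rw [locLen_ker m L, hd1, ← h1]
    refine (length_restrict_local B _ (ne_top_of_le_ne_top ?_ (length_le_restrict (A := A) B _))).symm
    rw [h1]
    exact WithTop.mul_ne_top (hd1 ▸ hfinC) hLfin
  rw [← Nat.cast_mul, ← ENat.toNat_mul, key]
  rfl

/-- The multiplicity over the base is the sum over the maximal ideals. -/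
theorem chi_eq_sum_pointChi [IsRegularLocalRing A] (hCN : Meet (A := A) C N) (S : Finset (PrimeSpectrum C))
    (hS : ∀ m, m ∈ S ↔ m.asIdeal.IsMaximal) :
    IntMult.chi A C N = ∑ m ∈ S, pointChi (A := A) C N m := by
  obtain ⟨t, ht⟩ := RegLoc.exists_dim_eq_nat (R := A)
  have hlen : ∀ n, Module.length A (DRing.Tor A n C N) = ∑ m ∈ S, Module.length A (C ⧸ m.asIdeal) *
      locLen m (LinearMap.ker (AlgebraTensorModule.lTensor C C (torMap (A := A) N n))) := fun n => by
    rw [length_tor_eq]
    exact Cyc26.length_eq_sum_locLen_of_support (A := A) S (fun m hm => (hS m).1 hm) _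
      (Module.length_ne_top_iff.1 (ne_top_of_le_ne_top (length_kerC_ne_top N hCN n) (length_le_restrict C _)))
      fun m hm _ => (hS m).2 hm
  have hsum : ∀ n, ((Module.length A (DRing.Tor A n C N)).toNat : ℤ) = ∑ m ∈ S, (pointLen (A := A) C N m n : ℤ) :=
    fun n => by
    have hne : Module.length A (DRing.Tor A n C N) ≠ ⊤ := by
      rw [length_tor_eq]; exact length_kerC_ne_top N hCN n
    have hterm : ∀ m ∈ S, Module.length A (C ⧸ m.asIdeal) *
        locLen m (LinearMap.ker (AlgebraTensorModule.lTensor C C (torMap (A := A) N n))) ≠ ⊤ := fun m hm =>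
      ne_top_of_le_ne_top hne ((Finset.single_le_sum (fun _ _ => zero_le) hm).trans (hlen n).ge)
    rw [hlen, ENat.toNat_sum hterm, Nat.cast_sum]
    rfl
  have hz : ∀ n, t < n → ∀ m ∈ S, pointLen (A := A) C N m n = 0 := fun n hn m hm => by
    have h0 : Module.length A (DRing.Tor A n C N) = 0 := by
      rw [(TorBal27.torIso n (ModuleCat.of A C) (ModuleCat.of A N)).toLinearEquiv.length_eq, Module.length_eq_zero_iff]
      exact (chi_eq_sum ht C N).1 n hn
    have := (Finset.single_le_sum (fun _ _ => zero_le) hm).trans ((hlen n).ge.trans h0.le)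
    rw [pointLen, nonpos_iff_eq_zero.1 this]
    rfl
  unfold IntMult.chi pointChi
  rw [finsum_eq_sum_of_support_subset (s := Finset.range (t + 1))]
  · simp only [hsum, Finset.mul_sum]
    rw [Finset.sum_comm]
    refine Finset.sum_congr rfl fun m hm => (finsum_eq_sum_of_support_subset _ fun n hn => ?_).symm
    rw [Finset.coe_range, Set.mem_Iio]
    by_contra hlt
    exact hn (by simp [hz n (by omega) m hm])
  · intro n hn
    rw [Finset.coe_range, Set.mem_Iio]
    by_contra hlt
    exact hn (by
      show (-1 : ℤ) ^ n * _ = 0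
      rw [hsum, Finset.sum_eq_zero (fun m hm => by rw [hz n (by omega) m hm]; rfl), mul_zero])

end

end Groth.Agent.Diag27
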