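import Groth.Agent.Lib.Diag27.Shift
import Groth.Agent.Lib.TorBal27.Balance
import Groth.Agent.Lib.TorBal.Dim
import Groth.Agent.Lib.Diag27.Samuel
import Mathlib.LinearAlgebra.TensorProduct.Pi
import Mathlib.LinearAlgebra.TensorProduct.Quotient

/-!
# Reduction to the diagonal, locally
-/

set_option autoImplicit false
set_option backward.isDefEq.respectTransparency false
set_option linter.style.haveILetI false

universe u

open CategoryTheory CategoryTheory.Limits TensorProduct Groth.Agent

noncomputable section

namespace Groth.Agent.Diag27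

variable {A B : Type u} [CommRing A] [CommRing B] [Algebra A B] {Δ : Ideal B}

/-- Lengths of modules killed by a complement of `A`. -/
theorem length_eq_restrict (hsec : ∀ b : B, ∃ a : A, b - algebraMap A B a ∈ Δ) (X : Type u) [AddCommGroup X]
    [Module A X] [Module B X] [IsScalarTower A B X] (hX : ∀ d ∈ Δ, ∀ x : X, d • x = 0) :
    Module.length B X = Module.length A X := by
  have key : ∀ (b : B) (x : X), ∃ a : A, b • x = a • x := fun b x => by
    obtain ⟨a, ha⟩ := hsec b
    refine ⟨a, ?_⟩
    rw [← algebraMap_smul B a x, ← sub_eq_zero, ← sub_smul]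
    exact hX _ ha x
  let e : Submodule B X ≃o Submodule A X :=
    { toFun := fun S => S.restrictScalars A
      invFun := fun S =>
        { carrier := S
          add_mem' := S.add_mem
          zero_mem' := S.zero_mem
          smul_mem' := fun b x hx => by
            obtain ⟨a, ha⟩ := key b x
            rw [ha]
            exact S.smul_mem a hx }
      left_inv := fun S => rfl
      right_inv := fun S => rfl
      map_rel_iff' := Iff.rfl }
  exact WithBot.coe_injective (by rw [Module.coe_length, Module.coe_length, Order.krullDim_eq_of_orderIso e])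

variable {W M : Type u} [AddCommGroup W] [Module A W] [Module B W] [IsScalarTower A B W] [AddCommGroup M] [Module A M]

/-- Reduction modulo the complement. -/
def red (σ : W →ₗ[A] M) (N : Type u) [AddCommGroup N] [Module A N] : W ⊗[A] N →ₗ[A] N ⊗[A] M :=
  (TensorProduct.comm A M N).toLinearMap ∘ₗ σ.rTensor N

theorem red_tmul (σ : W →ₗ[A] M) (N : Type u) [AddCommGroup N] [Module A N] (w : W) (x : N) :
    red σ N (w ⊗ₜ[A] x) = x ⊗ₜ[A] σ w := rfl

theorem ker_red (σ : W →ₗ[A] M) (hσ : Function.Surjective σ)
    (hk : LinearMap.ker σ = (Δ • (⊤ : Submodule B W)).restrictScalars A) (N : Type u) [AddCommGroup N] [Module A N] :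
    LinearMap.ker (red σ N) = (Δ • (⊤ : Submodule B (W ⊗[A] N))).restrictScalars A := by
  rw [red, LinearMap.ker_comp, LinearEquiv.ker, Submodule.comap_bot]
  apply le_antisymm
  · intro z hz
    obtain ⟨t, rfl⟩ := (rTensor_exact N (LinearMap.exact_subtype_ker_map σ) hσ z).1 hz
    clear hz
    induction t using TensorProduct.induction_on with
    | zero => rw [map_zero]; exact zero_mem _
    | add t t' ht ht' =>
      rw [map_add]
      exact add_mem ht ht'
    | tmul w x =>
      have hw : (w : W) ∈ Δ • (⊤ : Submodule B W) := hk.le w.2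
      rw [LinearMap.rTensor_tmul]
      show ((w : W) ⊗ₜ[A] x) ∈ Δ • (⊤ : Submodule B (W ⊗[A] N))
      refine Submodule.smul_induction_on hw (fun d hd v _ => ?_) fun a b ha hb => ?_
      · rw [← TensorProduct.smul_tmul']
        exact Submodule.smul_mem_smul hd trivial
      · rw [TensorProduct.add_tmul]
        exact add_mem ha hb
  · intro z hz
    rw [Submodule.restrictScalars_mem] at hz
    refine Submodule.smul_induction_on hz (fun d hd v hv => ?_) fun a b ha hb => add_mem ha hb
    clear hv hz
    induction v using TensorProduct.induction_on with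
    | zero => rw [smul_zero]; exact zero_mem _
    | add a b ha hb => rw [smul_add]; exact add_mem ha hb
    | tmul w x =>
      rw [LinearMap.mem_ker, TensorProduct.smul_tmul', LinearMap.rTensor_tmul,
        LinearMap.mem_ker.1 (hk.ge (Submodule.smul_mem_smul hd trivial : d • w ∈ Δ • (⊤ : Submodule B W))),
        TensorProduct.zero_tmul]

variable [SMulCommClass A B W]

/-- The reduced tensor product. -/
def redEquiv (σ : W →ₗ[A] M) (hσ : Function.Surjective σ)
    (hk : LinearMap.ker σ = (Δ • (⊤ : Submodule B W)).restrictScalars A) (N : Type u) [AddCommGroup N] [Module A N] :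
    (W ⊗[A] N) ⊗[B] (B ⧸ Δ) ≃ₗ[A] N ⊗[A] M :=
  ((TensorProduct.tensorQuotEquivQuotSMul (W ⊗[A] N) Δ).restrictScalars A) ≪≫ₗ
    (Submodule.Quotient.restrictScalarsEquiv A (Δ • (⊤ : Submodule B (W ⊗[A] N)))).symm ≪≫ₗ
    Submodule.quotEquivOfEq _ _ (ker_red σ hσ hk N).symm ≪≫ₗ
    LinearMap.quotKerEquivOfSurjective (red σ N)
      ((TensorProduct.comm A M N).surjective.comp (LinearMap.rTensor_surjective N hσ))

theorem redEquiv_tmul (σ : W →ₗ[A] M) (hσ : Function.Surjective σ)
    (hk : LinearMap.ker σ = (Δ • (⊤ : Submodule B W)).restrictScalars A) (N : Type u) [AddCommGroup N] [Module A N]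
    (z : W ⊗[A] N) (r : B) :
    redEquiv σ hσ hk N (z ⊗ₜ[B] (Ideal.Quotient.mk Δ r)) = red σ N (r • z) := by
  simp [redEquiv]
  rw [← Submodule.Quotient.mk_smul]
  rfl

/-- Tensoring with `W` on the `B` side. -/
abbrev GW (W : Type u) [AddCommGroup W] [Module A W] [Module B W] [IsScalarTower A B W] (N : Type u)
    [AddCommGroup N] [Module A N] : ModuleCat.{u} B :=
  ModuleCat.of B (W ⊗[A] N)

theorem smul_tensor_quot (X : Type u) [AddCommGroup X] [Module B X] (d : B) (hd : d ∈ Δ) (z : X ⊗[B] (B ⧸ Δ)) :
    d • z = 0 := by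
  induction z using TensorProduct.induction_on with
  | zero => exact smul_zero d
  | add a b ha hb => rw [smul_add, ha, hb, add_zero]
  | tmul x y =>
    rw [← TensorProduct.tmul_smul]
    obtain ⟨y, rfl⟩ := Ideal.Quotient.mk_surjective y
    rw [Algebra.smul_def, Ideal.Quotient.algebraMap_eq, ← map_mul, Ideal.Quotient.eq_zero_iff_mem.2 (Δ.mul_mem_right _ hd),
      TensorProduct.tmul_zero]

theorem length_ker (hsec : ∀ b : B, ∃ a : A, b - algebraMap A B a ∈ Δ) (σ : W →ₗ[A] M) (hσ : Function.Surjective σ)
    (hk : LinearMap.ker σ = (Δ • (⊤ : Submodule B W)).restrictScalars A) {K F : Type u} [AddCommGroup K] [Module A K]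
    [AddCommGroup F] [Module A F] (i : K →ₗ[A] F) :
    Module.length B (LinearMap.ker ((AlgebraTensorModule.lTensor B W i).rTensor (B ⧸ Δ))) =
      Module.length A (LinearMap.ker (i.rTensor M)) := by
  rw [length_eq_restrict hsec _ fun d hd x => Subtype.ext (smul_tensor_quot (W ⊗[A] K) d hd x.1)]
  have hnat : ∀ z : (W ⊗[A] K) ⊗[B] (B ⧸ Δ),
      redEquiv σ hσ hk F ((AlgebraTensorModule.lTensor B W i).rTensor (B ⧸ Δ) z) =
      i.rTensor M (redEquiv σ hσ hk K z) := fun z => by
    induction z using TensorProduct.induction_on with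
    | zero => simp
    | add a b ha hb => rw [map_add, map_add, map_add, map_add, ha, hb]
    | tmul t r =>
      obtain ⟨r, rfl⟩ := Ideal.Quotient.mk_surjective r
      rw [LinearMap.rTensor_tmul, redEquiv_tmul, redEquiv_tmul, ← map_smul]
      generalize r • t = t'
      induction t' using TensorProduct.induction_on with
      | zero => simp
      | add a b ha hb => simp only [map_add, ha, hb]
      | tmul w x => rfl
  refine (LinearEquiv.ofSubmodules (redEquiv σ hσ hk K)
    ((LinearMap.ker ((AlgebraTensorModule.lTensor B W i).rTensor (B ⧸ Δ))).restrictScalars A)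
    (LinearMap.ker (i.rTensor M)) ?_).length_eq
  ext y
  obtain ⟨z, rfl⟩ := (redEquiv σ hσ hk K).surjective y
  rw [Submodule.mem_map_equiv, LinearEquiv.symm_apply_apply, Submodule.restrictScalars_mem, LinearMap.mem_ker,
    LinearMap.mem_ker, ← hnat]
  exact (LinearEquiv.map_eq_zero_iff _).symm

variable [IsNoetherianRing A] [Module.Flat A W]

/-- The torsion groups over `B` of the tensor products with `W` are those over `A`, as far as lengths go. -/
theorem length_reduce (hsec : ∀ b : B, ∃ a : A, b - algebraMap A B a ∈ Δ) (σ : W →ₗ[A] M) (hσ : Function.Surjective σ)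
    (hk : LinearMap.ker σ = (Δ • (⊤ : Submodule B W)).restrictScalars A)
    (hW : ∀ j : ℕ, IsZero ((TC (ModuleCat.of B (B ⧸ Δ)) (ModuleCat.of B W)).homology (j + 1))) :
    ∀ (n : ℕ) (N : Type u) [AddCommGroup N] [Module A N] [Module.Finite A N],
      Module.length B ((TC (ModuleCat.of B (B ⧸ Δ)) (GW (A := A) (B := B) W N)).homology n) =
        Module.length A ((TC (ModuleCat.of A M) (ModuleCat.of A N)).homology n) := by
  intro n
  induction n with
  | zero =>
    intro N _ _ _
    rw [(LinearEquiv.ofBijective _ ⟨TorBal27.phi_injective (GW (A := A) (B := B) W N) (ModuleCat.of B (B ⧸ Δ)) 0,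
        TorBal27.phi_zero_surjective (GW (A := A) (B := B) W N) (ModuleCat.of B (B ⧸ Δ))⟩).length_eq,
      (LinearEquiv.ofBijective _ ⟨TorBal27.phi_injective (ModuleCat.of A N) (ModuleCat.of A M) 0,
        TorBal27.phi_zero_surjective (ModuleCat.of A N) (ModuleCat.of A M)⟩).length_eq]
    show Module.length B ((W ⊗[A] N) ⊗[B] (B ⧸ Δ)) = Module.length A (N ⊗[A] M)
    rw [length_eq_restrict hsec _ (smul_tensor_quot (W ⊗[A] N))]
    exact (redEquiv σ hσ hk N).length_eq
  | succ n ih =>
    intro N _ _ _
    obtain ⟨m, p, hp⟩ := Module.Finite.exists_fin' A N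
    let K := LinearMap.ker p
    haveI : Module.Finite A K := Module.Finite.iff_fg.2 (IsNoetherian.noetherian _)
    have hpe : Function.Exact K.subtype p := LinearMap.exact_subtype_ker_map p
    have hSA : (ShortComplex.mk (ModuleCat.ofHom K.subtype) (ModuleCat.ofHom p)
        (ModuleCat.hom_ext (LinearMap.comp_ker_subtype p))).ShortExact :=
      { exact := (ShortComplex.ShortExact.moduleCat_exact_iff_function_exact _).2 hpe
        mono_f := (ModuleCat.mono_iff_injective _).2 K.injective_subtype
        epi_g := (ModuleCat.epi_iff_surjective _).2 hp }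
    let fB : W ⊗[A] K →ₗ[B] W ⊗[A] (Fin m → A) := AlgebraTensorModule.lTensor B W K.subtype
    let gB : W ⊗[A] (Fin m → A) →ₗ[B] W ⊗[A] N := AlgebraTensorModule.lTensor B W p
    have hSB : (ShortComplex.mk (ModuleCat.ofHom fB) (ModuleCat.ofHom gB) (ModuleCat.hom_ext (LinearMap.ext fun x =>
        (lTensor_exact W hpe hp (fB x)).2 ⟨x, rfl⟩))).ShortExact :=
      { exact := (ShortComplex.ShortExact.moduleCat_exact_iff_function_exact _).2 (lTensor_exact W hpe hp)
        mono_f := (ModuleCat.mono_iff_injective _).2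
          (Module.Flat.lTensor_preserves_injective_linearMap K.subtype K.injective_subtype)
        epi_g := (ModuleCat.epi_iff_surjective _).2 (LinearMap.lTensor_surjective W hp) }
    have hA : ∀ j : ℕ, IsZero ((TC (ModuleCat.of A M) (ModuleCat.of A (Fin m → A))).homology (j + 1)) := fun j =>
      (TorBal.isZero_tor_flat_left (Fin m → A) j (ModuleCat.of A M)).of_iso (TorBal27.torIso (j + 1) _ _).symm
    have hB : ∀ j : ℕ, IsZero ((TC (ModuleCat.of B (B ⧸ Δ)) (GW (A := A) (B := B) W (Fin m → A))).homology (j + 1)) := fun j =>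
      isZero_of_iso (TensorProduct.piScalarRight A B W (Fin m)).symm.toModuleIso (j + 1)
        (isZero_pi W (j + 1) (hW j) m)
    cases n with
    | zero =>
      exact (length_one hSB (hB 0)).trans
        ((length_ker hsec σ hσ hk K.subtype).trans (length_one hSA (hA 0)).symm)
    | succ n => exact (length_shift hSB hB n).trans ((ih K).trans (length_shift hSA hA n).symm)

/-- Reduction to the diagonal. -/
theorem chi_reduce (hsec : ∀ b : B, ∃ a : A, b - algebraMap A B a ∈ Δ) (σ : W →ₗ[A] M) (hσ : Function.Surjective σ)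
    (hk : LinearMap.ker σ = (Δ • (⊤ : Submodule B W)).restrictScalars A)
    (hW : ∀ j : ℕ, IsZero (((Tor (ModuleCat.{u} B) (j + 1)).obj (ModuleCat.of B W)).obj (ModuleCat.of B (B ⧸ Δ))))
    (N : Type u) [AddCommGroup N] [Module A N] [Module.Finite A N] :
    IntMult.chi B (W ⊗[A] N) (B ⧸ Δ) = IntMult.chi A N M := by
  unfold IntMult.chi
  refine finsum_congr fun i => ?_
  have hB : Module.length B (DRing.Tor B i (W ⊗[A] N) (B ⧸ Δ)) =
      Module.length B ((TC (ModuleCat.of B (B ⧸ Δ)) (GW (A := A) (B := B) W N)).homology i) :=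
    (TorBal27.torIso i (GW (A := A) (B := B) W N) (ModuleCat.of B (B ⧸ Δ))).toLinearEquiv.length_eq
  have hA : Module.length A (DRing.Tor A i N M) =
      Module.length A ((TC (ModuleCat.of A M) (ModuleCat.of A N)).homology i) :=
    (TorBal27.torIso i (ModuleCat.of A N) (ModuleCat.of A M)).toLinearEquiv.length_eq
  rw [hA, hB, length_reduce hsec σ hσ hk (fun j => (hW j).of_iso (TorBal27.torIso (j + 1) _ _).symm) i N]

end Groth.Agent.Diag27
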