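import Groth.Agent.Lib.TorBal27.Balance
import Mathlib.Algebra.Homology.HomologySequence
import Mathlib.Algebra.Homology.HomologicalComplexAbelian
import Mathlib.Algebra.Category.ModuleCat.Abelian
import Mathlib.Algebra.Homology.ShortComplex.ModuleCat
import Mathlib.LinearAlgebra.TensorProduct.RightExactness
import Mathlib.RingTheory.Flat.Basic
import Mathlib.RingTheory.Length

/-!
# Dimension shifting for `Tor` in the first variable
-/

set_option autoImplicit false
set_option backward.isDefEq.respectTransparency false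

universe u

open CategoryTheory CategoryTheory.Limits MonoidalCategory TensorProduct Groth.Agent

noncomputable section

namespace Groth.Agent.Diag27

variable {B : Type u} [CommRing B] (Q : ModuleCat.{u} B)

/-- The complex computing `Tor (X, Q)`. -/
abbrev TC (X : ModuleCat.{u} B) : ChainComplex (ModuleCat.{u} B) ℕ := TorBal27.tcxR X Q

/-- Functoriality of `TC`. -/
abbrev tm {X Y : ModuleCat.{u} B} (f : X ⟶ Y) : TC Q X ⟶ TC Q Y := TorBal27.tcxMap f (𝟙 Q)

theorem tm_f {X Y : ModuleCat.{u} B} (f : X ⟶ Y) (n : ℕ)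
    (x : X ⊗[B] (TorBal27.F B).obj ((TorBal27.Kp B n).obj Q)) :
    (tm Q f).f n x = f.hom.rTensor _ x := by
  refine (TorBal27.tcxMap_f f (𝟙 Q) n x).trans ?_
  rw [CategoryTheory.Functor.map_id, CategoryTheory.Functor.map_id]
  rfl

theorem tm_zero {X Y Z : ModuleCat.{u} B} (f : X ⟶ Y) (g : Y ⟶ Z) (w : f ≫ g = 0) : tm Q f ≫ tm Q g = 0 := by
  refine HomologicalComplex.hom_ext _ _ fun n => ModuleCat.hom_ext (LinearMap.ext fun x => ?_)
  show (tm Q g).f n ((tm Q f).f n x) = 0
  refine ((congrArg ((tm Q g).f n) (tm_f Q f n x)).trans (tm_f Q g n _)).trans ?_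
  rw [← LinearMap.comp_apply, ← LinearMap.rTensor_comp, ← ModuleCat.hom_comp, w, ModuleCat.hom_zero,
    LinearMap.rTensor_zero, LinearMap.zero_apply]

theorem shortExact_tm {S : ShortComplex (ModuleCat.{u} B)} (hS : S.ShortExact) :
    (ShortComplex.mk (tm Q S.f) (tm Q S.g) (tm_zero Q _ _ S.zero)).ShortExact := by
  have hex : Function.Exact S.f.hom S.g.hom := (ShortComplex.ShortExact.moduleCat_exact_iff_function_exact _).1 hS.exact
  have hf : Function.Injective S.f.hom := hS.moduleCat_injective_f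
  have hg : Function.Surjective S.g.hom := hS.moduleCat_surjective_g
  refine HomologicalComplex.shortExact_of_degreewise_shortExact _ fun n => ?_
  haveI : Module.Flat B ((TorBal27.F B).obj ((TorBal27.Kp B n).obj Q)) :=
    inferInstanceAs (Module.Flat B ((TorBal27.Kp B n).obj Q →₀ B))
  refine { exact := ?_, mono_f := ?_, epi_g := ?_ }
  · refine (ShortComplex.ShortExact.moduleCat_exact_iff_function_exact _).2 fun y => ?_
    refine Iff.trans ?_ (Iff.trans (rTensor_exact _ hex hg y) ?_)
    · show (tm Q S.g).f n y = 0 ↔ _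
      rw [tm_f]
      rfl
    · constructor
      · rintro ⟨x, hx⟩
        exact ⟨x, (tm_f Q S.f n x).trans hx⟩
      · rintro ⟨x, hx⟩
        exact ⟨x, (tm_f Q S.f n x).symm.trans hx⟩
  · refine (ModuleCat.mono_iff_injective _).2 fun x y hxy => ?_
    exact Module.Flat.rTensor_preserves_injective_linearMap
      (M := ((TorBal27.F B).obj ((TorBal27.Kp B n).obj Q) : Type u)) S.f.hom hf
      ((tm_f Q S.f n x).symm.trans (hxy.trans (tm_f Q S.f n y)))
  · refine (ModuleCat.epi_iff_surjective _).2 fun z => ?_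
    obtain ⟨y, hy⟩ := LinearMap.rTensor_surjective _ hg z
    exact ⟨y, (tm_f Q S.g n y).trans hy⟩

variable {Q}

/-- Shifting by one degree when the middle term is acyclic. -/
theorem length_shift {S : ShortComplex (ModuleCat.{u} B)} (hS : S.ShortExact)
    (h2 : ∀ j : ℕ, IsZero ((TC Q S.X₂).homology (j + 1))) (n : ℕ) :
    Module.length B ((TC Q S.X₃).homology (n + 2)) = Module.length B ((TC Q S.X₁).homology (n + 1)) :=
  ((shortExact_tm Q hS).δIso (n + 2) (n + 1) rfl (h2 (n + 1)) (h2 n)).toLinearEquiv.length_eq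

/-- The first torsion group when the middle term is acyclic. -/
theorem length_one {S : ShortComplex (ModuleCat.{u} B)} (hS : S.ShortExact)
    (h2 : IsZero ((TC Q S.X₂).homology 1)) :
    Module.length B ((TC Q S.X₃).homology 1) = Module.length B (LinearMap.ker (S.f.hom.rTensor Q)) := by
  have hT := shortExact_tm Q hS
  haveI := hT.mono_δ 1 0 rfl h2
  have hd : Function.Injective (hT.δ 1 0 rfl).hom := (ModuleCat.mono_iff_injective _).1 inferInstance
  have hex := (ShortComplex.ShortExact.moduleCat_exact_iff_function_exact _).1 (hT.homology_exact₁ 1 0 rfl)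
  have hnat : ∀ η, TorBal27.phi S.X₂ Q 0 (HomologicalComplex.homologyMap (tm Q S.f) 0 η) =
      S.f.hom.rTensor Q (TorBal27.phi S.X₁ Q 0 η) := fun η => TorBal27.phi_natural S.f (𝟙 Q) 0 η
  let ψ : (TC Q S.X₃).homology 1 →ₗ[B] S.X₁ ⊗[B] Q := TorBal27.phi S.X₁ Q 0 ∘ₗ (hT.δ 1 0 rfl).hom
  have hψ : LinearMap.range ψ = LinearMap.ker (S.f.hom.rTensor Q) := by
    ext y
    constructor
    · rintro ⟨η, rfl⟩
      refine (hnat _).symm.trans ?_
      exact (congrArg _ ((hex _).2 ⟨η, rfl⟩)).trans (map_zero _)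
    · intro hy
      obtain ⟨η, rfl⟩ := TorBal27.phi_zero_surjective S.X₁ Q y
      obtain ⟨ζ, hζ⟩ := (hex η).1 (TorBal27.phi_injective S.X₂ Q 0 (((hnat η).trans hy).trans (map_zero _).symm))
      exact ⟨ζ, congrArg (TorBal27.phi S.X₁ Q 0) hζ⟩
  exact ((LinearEquiv.ofInjective ψ ((TorBal27.phi_injective S.X₁ Q 0).comp hd)).trans
    (LinearEquiv.ofEq _ _ hψ)).length_eq

/-- Acyclicity passes to extensions. -/
theorem isZero_middle {S : ShortComplex (ModuleCat.{u} B)} (hS : S.ShortExact) (n : ℕ)
    (h1 : IsZero ((TC Q S.X₁).homology n)) (h3 : IsZero ((TC Q S.X₃).homology n)) :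
    IsZero ((TC Q S.X₂).homology n) :=
  ((shortExact_tm Q hS).homology_exact₂ n).isZero_of_both_zeros (h1.eq_of_src _ _) (h3.eq_of_tgt _ _)

theorem isZero_of_iso {X Y : ModuleCat.{u} B} (e : X ≅ Y) (n : ℕ) (h : IsZero ((TC Q X).homology n)) :
    IsZero ((TC Q Y).homology n) :=
  h.of_iso ((TorBal27.torIso n Y Q).symm ≪≫ ((Tor (ModuleCat.{u} B) n).mapIso e.symm).app Q ≪≫ TorBal27.torIso n X Q)

theorem isZero_pi (W : Type u) [AddCommGroup W] [Module B W] (n : ℕ)
    (h : IsZero ((TC Q (ModuleCat.of B W)).homology n)) :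
    ∀ m : ℕ, IsZero ((TC Q (ModuleCat.of B (Fin m → W))).homology n)
  | 0 => by
    haveI : Subsingleton (TC Q (ModuleCat.of B (Fin 0 → W)) |>.X n) :=
      inferInstanceAs (Subsingleton ((Fin 0 → W) ⊗[B] _))
    exact ShortComplex.exact_iff_isZero_homology _ |>.1
      (ShortComplex.exact_of_isZero_X₂ _ (@ModuleCat.isZero_of_subsingleton _ _ _ this))
  | m + 1 => by
    let f : W →ₗ[B] (Fin (m + 1) → W) := LinearMap.single B (fun _ => W) 0
    let g : (Fin (m + 1) → W) →ₗ[B] (Fin m → W) := LinearMap.funLeft B W Fin.succ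
    have w : g ∘ₗ f = 0 := LinearMap.ext fun x => funext fun i => by
      simp [f, g, LinearMap.funLeft_apply]
    refine isZero_middle (S := ShortComplex.mk (ModuleCat.ofHom f) (ModuleCat.ofHom g) (ModuleCat.hom_ext w))
      { exact := ?_, mono_f := ?_, epi_g := ?_ } n h (isZero_pi W n h m)
    · refine (ShortComplex.ShortExact.moduleCat_exact_iff_function_exact _).2 fun y => ⟨fun hy => ⟨y 0, ?_⟩, ?_⟩
      · funext i
        refine Fin.cases ?_ (fun j => ?_) i
        · show f (y 0) 0 = y 0
          simp [f]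
        · show f (y 0) j.succ = y j.succ
          simp only [f, LinearMap.single_apply]
          rw [Pi.single_eq_of_ne (Fin.succ_ne_zero j)]
          exact (congrFun hy j).symm
      · rintro ⟨x, rfl⟩
        exact LinearMap.congr_fun w x
    · exact (ModuleCat.mono_iff_injective _).2 fun x y hxy => by
        have := congrFun hxy 0
        simpa [f] using this
    · exact (ModuleCat.epi_iff_surjective _).2 fun z => ⟨Fin.cons 0 z, funext fun i => by simp [g]⟩

end Groth.Agent.Diag27
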